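import Cfsg.Agent.Quad.OmegaSum
import Cfsg.Agent.Quad.OmegaMem
import Cfsg.Prelude.Def_GeometricClasses

/-!
Isometry groups of nondegenerate quadratic forms in odd characteristic and their derived groups, as matrix groups.
-/

set_option autoImplicit false
set_option linter.unusedSectionVars false
set_option linter.style.haveILetI false

namespace CfsgLib.Geo.PauliPlus

open Matrix QuadraticMap CfsgLib.Quad
open scoped commutatorElement

variable {F : Type*} [Field F] {ι : Type} [Fintype ι] [DecidableEq ι]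

/-- The isometries of a quadratic form. -/
abbrev iso (Q : QuadraticForm F (ι → F)) : Subgroup (GL ι F) := Cfsg.isometryGroup F ⇑Q

/-- The derived group of the isometries. -/
abbrev om (Q : QuadraticForm F (ι → F)) : Subgroup (GL ι F) := Cfsg.Geo.omegaGL ⇑Q

/-- Nondegenerate, in characteristic not two. -/
structure Std (Q : QuadraticForm F (ι → F)) : Prop where
  nd : (polarBilin Q).Nondegenerate
  two : (2 : F) ≠ 0

variable {Q : QuadraticForm F (ι → F)}

theorem mem_iso {g : GL ι F} : g ∈ iso Q ↔ ∀ x, Q ((g : Matrix ι ι F) *ᵥ x) = Q x :=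
  ⟨fun h x => h x 0, fun h x _ => h x⟩

theorem iso_polar {g : GL ι F} (hg : g ∈ iso Q) (x y : ι → F) :
    polar Q ((g : Matrix ι ι F) *ᵥ x) ((g : Matrix ι ι F) *ᵥ y) = polar Q x y := by
  simp only [polar, ← Matrix.mulVec_add, mem_iso.1 hg]

theorem polar_self_eq (x : ι → F) : polar Q x x = 2 * Q x := by
  rw [QuadraticMap.polar_self, nsmul_eq_mul, Nat.cast_ofNat]

theorem mem_iso_of_polar (h2 : (2 : F) ≠ 0) {g : GL ι F}
    (h : ∀ x y, polar Q ((g : Matrix ι ι F) *ᵥ x) ((g : Matrix ι ι F) *ᵥ y) = polar Q x y) : g ∈ iso Q :=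
  mem_iso.2 fun x => mul_left_cancel₀ h2 (by rw [← polar_self_eq, ← polar_self_eq, h])

/-- Adjointness of an isometry and its inverse. -/
theorem iso_adj {g : GL ι F} (hg : g ∈ iso Q) (x y : ι → F) :
    polar Q ((g : Matrix ι ι F) *ᵥ x) y = polar Q x (((g⁻¹ : GL ι F) : Matrix ι ι F) *ᵥ y) := by
  conv_lhs => rw [show y = (g : Matrix ι ι F) *ᵥ (((g⁻¹ : GL ι F) : Matrix ι ι F) *ᵥ y) by
    rw [Matrix.mulVec_mulVec, Units.mul_inv, Matrix.one_mulVec]]
  exact iso_polar hg _ _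

theorem neg_one_mem_iso : (-1 : GL ι F) ∈ iso Q := mem_iso.2 fun x => by
  rw [Units.val_neg, Units.val_one, Matrix.neg_mulVec, Matrix.one_mulVec, QuadraticMap.map_neg]

theorem neg_mem_iso {g : GL ι F} (hg : g ∈ iso Q) : -g ∈ iso Q := by
  rw [← neg_one_mul]; exact (iso Q).mul_mem neg_one_mem_iso hg

theorem smul_mem_iso (hS : Std Q) [Nonempty ι] {g : GL ι F} (hg : g ∈ iso Q) {c : F}
    (h : (g : Matrix ι ι F) = c • 1) : c = 1 ∨ c = -1 := by
  obtain ⟨i⟩ := ‹Nonempty ι›
  obtain ⟨x, hx⟩ : ∃ x, Q x ≠ 0 := by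
    by_contra hno
    push Not at hno
    have h0 : (Pi.single i 1 : ι → F) = 0 := hS.nd.1 _ fun y => by
      show polar Q _ y = 0
      simp [polar, hno]
    simpa using congrFun h0 i
  have h1 := mem_iso.1 hg x
  rw [h, Matrix.smul_mulVec, Matrix.one_mulVec, QuadraticMap.map_smul, smul_eq_mul] at h1
  exact mul_self_eq_one_iff.1 (mul_right_cancel₀ hx (h1.trans (one_mul _).symm))

theorem om_le : om Q ≤ iso Q := Subgroup.map_subtype_le _

theorem om_eq : om Q = ⁅iso Q, iso Q⁆ := by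
  show ((Cfsg.Omega F ⇑Q)).map _ = _
  rw [Cfsg.Omega, commutator_def, Subgroup.map_commutator, ← MonoidHom.range_eq_map, Subgroup.range_subtype]

theorem comm_mem {a b : GL ι F} (ha : a ∈ iso Q) (hb : b ∈ iso Q) : a * b * a⁻¹ * b⁻¹ ∈ om Q := by
  rw [om_eq, ← commutatorElement_def]
  exact Subgroup.commutator_mem_commutator ha hb

theorem conj_mem_om {g a : GL ι F} (hg : g ∈ iso Q) (ha : a ∈ om Q) : g * a * g⁻¹ ∈ om Q := by
  have h : g * a * g⁻¹ = g * a * g⁻¹ * a⁻¹ * a := by group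
  rw [h]
  exact (om Q).mul_mem (comm_mem hg (om_le ha)) ha

variable [Finite F]

theorem sq_mem (hS : Std Q) {g : GL ι F} (hg : g ∈ iso Q) : g * g ∈ om Q := by
  have h := sq_mem_commutator hS.nd
    (Or.inl ⟨-1, by simp, fun e => hS.two (by linear_combination -e)⟩) (isoGroupEquiv Q ⟨g, hg⟩)
  rw [← map_mul, ← mem_omega_iff] at h
  exact ⟨_, h, rfl⟩

theorem pow_four_mem (hS : Std Q) {g : GL ι F} (hg : g ∈ iso Q) : g * g * (g * g) ∈ om Q :=
  sq_mem hS ((iso Q).mul_mem hg hg)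

end CfsgLib.Geo.PauliPlus
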