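import Cfsg.Agent.Geo.PauliPlus.One

/-!
Inside the centraliser of a monomial of square minus one: the elements commuting with the monomials orthogonal
to it, and the centralisers modulo them.
-/

set_option autoImplicit false
set_option linter.unusedSectionVars false
set_option linter.unusedSimpArgs false
set_option linter.style.haveILetI false

namespace CfsgLib.Geo.PauliPlus

open Matrix Module QuadraticMap
open CfsgLib.Geo.PauliEight (sgn sgn_zero sgn_one cj cj_of_comm cj_eq_of_mul)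

variable {ι : Type} [Fintype ι] [DecidableEq ι] {F : Type*} [Field F] [Fintype F] {Q₀ : QuadraticForm F (ι → F)}
  {V : Type*} [AddCommGroup V] [Module (ZMod 2) V] [Fintype V]

theorem val_comm {g h : GL ι F} (e : g * h = h * g) : (g : Mx ι F) * (h : Mx ι F) = (h : Mx ι F) * g := by
  rw [← Units.val_mul, ← Units.val_mul, e]

theorem Pm.comm_of {g a b : GL ι F} (h : Pm a b) (hg : g * a = a * g) : g * b = b * g := by
  rcases h with rfl | rfl
  · exact hg
  · simpa using hg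

namespace Sys

variable (S : Sys Q₀ V)

/-- The stabiliser of the line of a monomial in a group. -/
def Lp (u : V) (M : Subgroup (GL ι F)) : Subgroup (GL ι F) where
  carrier := {g | g ∈ M ∧ Pm (g * S.e u * g⁻¹) (S.e u)}
  one_mem' := ⟨M.one_mem, Or.inl (by simp)⟩
  mul_mem' := by
    rintro g h ⟨hg, hg'⟩ ⟨hh, hh'⟩
    refine ⟨M.mul_mem hg hh, ?_⟩
    rw [show g * h * S.e u * (g * h)⁻¹ = g * (h * S.e u * h⁻¹) * g⁻¹ by group]
    exact (hh'.conj g).trans hg'
  inv_mem' := by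
    rintro g ⟨hg, hg'⟩
    refine ⟨M.inv_mem hg, ?_⟩
    have h := (hg'.conj g⁻¹).symm
    simpa [mul_assoc] using h

theorem mem_Lp {u : V} {M : Subgroup (GL ι F)} {g : GL ι F} :
    g ∈ S.Lp u M ↔ g ∈ M ∧ Pm (g * S.e u * g⁻¹) (S.e u) := Iff.rfl

/-- The elements of a group commuting with the monomials orthogonal to one. -/
def Zu (u : V) (M : Subgroup (GL ι F)) : Subgroup (GL ι F) :=
  M ⊓ Subgroup.centralizer (S.e '' {z | S.B u z = 0})

theorem mem_Zu {u : V} {M : Subgroup (GL ι F)} {g : GL ι F} :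
    g ∈ S.Zu u M ↔ g ∈ M ∧ ∀ z, S.B u z = 0 → g * S.e z = S.e z * g := by
  rw [Zu, Subgroup.mem_inf, Subgroup.mem_centralizer_iff]
  refine and_congr_right fun _ => ⟨fun h z hz => (h _ ⟨z, hz, rfl⟩).symm, ?_⟩
  rintro h _ ⟨z, hz, rfl⟩
  exact (h z hz).symm

theorem eq_pq_mul' {u : V} (hu : S.Q u = 1) {h : GL ι F} (hcu : h * S.e u = S.e u * h)
    (hfix : ∀ z, S.B u z = 0 → Pm (h * S.e z * h⁻¹) (S.e z)) :
    ∃ r, S.B u r = 0 ∧ ∀ z, S.B u z = 0 → h * (S.e r)⁻¹ * S.e z = S.e z * (h * (S.e r)⁻¹) := by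
  haveI := S.nonempty
  obtain ⟨r, p, q, hr, e⟩ := S.eq_pq_mul hu (A := (h : Mx ι F)) h.ne_zero (val_comm hcu) fun z hz => by
    rcases hfix z hz with e | e <;> rw [mul_inv_eq_iff_eq_mul] at e
    · exact ⟨1, by rw [one_smul]; exact cj_of_comm (val_comm e.symm)⟩
    · refine ⟨-1, cj_eq_of_mul ?_⟩
      rw [← Units.val_mul, smul_mul_assoc, ← Units.val_mul, e]
      simp
  refine ⟨r, hr, fun z hz => Units.ext ?_⟩
  simp only [Units.val_mul]
  rw [e, mul_assoc _ (S.E r), Units.mul_inv, mul_one]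
  show (p • 1 + q • S.E u) * S.E z = S.E z * (p • 1 + q • S.E u)
  simp only [mul_add, add_mul, mul_smul_comm, smul_mul_assoc, mul_one, one_mul]
  rw [S.E_comm u z, hz, sgn_zero, one_smul]

variable {u : V} (hu : S.Q u = 1) {M : Subgroup (GL ι F)}
include hu

theorem Zu_comm {z : GL ι F} (hz : z ∈ S.Zu u M) {g : GL ι F} (hg : g * S.e u = S.e u * g) : g * z = z * g := by
  obtain ⟨p, q, e⟩ := S.eq_pq hu (A := (z : Mx ι F)) fun a ha => val_comm ((S.mem_Zu.1 hz).2 a ha)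
  refine Units.ext ?_
  rw [Units.val_mul, Units.val_mul, e, mul_add, add_mul, mul_smul_comm, smul_mul_assoc, mul_one, one_mul,
    mul_smul_comm, smul_mul_assoc]
  exact congrArg _ (congrArg (q • ·) (val_comm hg))

theorem Zu_le_Lp : S.Zu u M ≤ S.Lp u M := fun z hz => by
  obtain ⟨h1, h2⟩ := S.mem_Zu.1 hz
  exact ⟨h1, Or.inl (by rw [h2 u (S.B_self u), mul_inv_cancel_right])⟩

theorem Zu_conj {g z : GL ι F} (hg : g ∈ S.Lp u M) (hz : z ∈ S.Zu u M) : g * z * g⁻¹ ∈ S.Zu u M := by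
  obtain ⟨hgM, hgu⟩ := hg
  refine S.mem_Zu.2 ⟨M.mul_mem (M.mul_mem hgM (S.mem_Zu.1 hz).1) (M.inv_mem hgM), fun a ha => ?_⟩
  -- the conjugate of a two coordinate matrix is one
  obtain ⟨p, q, e⟩ := S.eq_pq hu (A := (z : Mx ι F)) fun b hb => val_comm ((S.mem_Zu.1 hz).2 b hb)
  obtain ⟨c, -, hc⟩ := hgu.smul_val
  rw [Units.val_mul, Units.val_mul] at hc
  refine Units.ext ?_
  rw [Units.val_mul, Units.val_mul (S.e a), Units.val_mul, Units.val_mul, e]
  rw [mul_add, add_mul, mul_smul_comm, mul_smul_comm, smul_mul_assoc, smul_mul_assoc, mul_one, Units.mul_inv, hc]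
  simp only [mul_add, add_mul, mul_smul_comm, smul_mul_assoc, mul_one, one_mul]
  rw [show (S.e u : Mx ι F) * (S.e a : Mx ι F) = (S.e a : Mx ι F) * S.e u from val_comm (S.e_comm' ha)]

theorem zero_or_eq_of_Zu {r : V} (hr : S.e r ∈ S.Zu u M) : r = 0 ∨ r = u := by
  refine S.eq_of_perp_all (u := u) (x := r) fun z hz => ?_
  by_contra hne
  have h1 := (S.mem_Zu.1 hr).2 z hz
  rw [S.e_anti ((S.B_comm r z).trans (bit_ne_zero hne))] at h1
  exact S.neg_ne _ h1.symm

variable (hO : Over S M) (hC : S.CentOne M) (hk : 4 ≤ S.k)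
include hC hk

theorem Zu_le_Nm {z : GL ι F} (hz : z ∈ S.Zu u M) : z ∈ S.Nm := by
  obtain ⟨a, ha0, haQ, hau⟩ := S.exists_singular_perp [u] (by simp; omega)
  refine hC a ha0 haQ z (S.mem_Zu.1 hz).1 (Or.inl ?_)
  rw [(S.mem_Zu.1 hz).2 a (hau u (by simp)), mul_inv_cancel_right]

include hO

theorem e_mem_Lp (x : V) : S.e x ∈ S.Lp u M :=
  ⟨hO.ge (S.e_mem_Nm (by omega) x), Pm.of_sg (S.e_conj x u)⟩

theorem neg_one_mem_Zu : (-1 : GL ι F) ∈ S.Zu u M :=
  S.mem_Zu.2 ⟨hO.ge (S.neg_one_mem_Nm (by omega)), fun z _ => by simp⟩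

theorem e_self_mem_Zu : S.e u ∈ S.Zu u M :=
  S.mem_Zu.2 ⟨hO.ge (S.e_mem_Nm (by omega) u), fun _ hz => S.e_comm' hz⟩

/-- An element carrying one vector to itself modulo `u` normalises. -/
theorem mem_Nm_of_fix (hQ : S.CentQ M) {g : GL ι F} (hg : g ∈ S.Lp u M) {t : V} (ht0 : t ≠ 0) (htu : t ≠ u)
    (h : Pm (g * S.e t * g⁻¹) (S.e t)) : g ∈ S.Nm := by
  obtain ⟨hgM, hgu⟩ := hg
  rcases bit (S.Q t) with hQt | hQt
  · exact hC t ht0 hQt g hgM h
  rcases bit (S.B u t) with hB | hB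
  · -- the sum is singular
    have hne : u + t ≠ 0 := fun e => htu (Quad.eq_of_add_eq_zero e).symm
    refine hC (u + t) hne (by rw [S.Q_add, hu, hQt, hB]; decide) g hgM ?_
    refine ((S.e_add u t).symm.conj g).trans ?_
    rw [show g * (S.e u * S.e t) * g⁻¹ = g * S.e u * g⁻¹ * (g * S.e t * g⁻¹) by group]
    exact (hgu.mul h).trans (S.e_add u t)
  · obtain ⟨r, e1, e2⟩ := S.exists_adjust hB hgu h
    have her := S.e_mem_Nm (show 3 ≤ S.k by omega) r
    have h3 := hQ u t hu hQt hB _ (M.mul_mem (hO.ge her) hgM) e1 e2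
    have h4 := S.Nm.mul_mem (S.Nm.inv_mem her) h3
    rwa [inv_mul_cancel_left] at h4

/-- An element carrying one vector to a monomial normalises. -/
theorem mem_Nm_of_image (hQ : S.CentQ M) {g : GL ι F} (hg : g ∈ S.Lp u M) {t y : V} (ht0 : t ≠ 0) (htu : t ≠ u)
    (hy : Pm (g * S.e t * g⁻¹) (S.e y)) : g ∈ S.Nm := by
  have hgu := hg.2
  have hQy : S.Q t = S.Q y := S.Q_eq_of_conj hy
  have hy0 : y ≠ 0 := fun e => ht0 (S.eq_zero_of_pm_one (by
    rw [e, S.e_zero] at hy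
    have h1 := hy.conj g⁻¹
    simpa [mul_assoc] using h1))
  have hyu : y ≠ u := fun e => htu (S.eq_of_pm (by
    rw [e] at hy
    have h1 := (hy.trans hgu.symm).conj g⁻¹
    simpa [mul_assoc] using h1))
  have hB : S.B u t = S.B u y := by
    have h := S.Q_eq_of_conj (g := g) (x := u + t) (y := u + y) (((S.e_add u t).symm.conj g).trans (by
      rw [show g * (S.e u * S.e t) * g⁻¹ = g * S.e u * g⁻¹ * (g * S.e t * g⁻¹) by group]
      exact (hgu.mul hy).trans (S.e_add u y)))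
    rw [S.Q_add, S.Q_add, hQy] at h
    linear_combination h
  obtain ⟨h, hh, hhu, hht⟩ := S.moveU hk hu ht0 hy0 htu hyu hQy hB
  have hh' := S.Nm_le_NO hh
  have hu' := S.perm_spec hh' u
  rw [hhu] at hu'
  have ht' := S.perm_spec hh' t
  rw [hht] at ht'
  have hhL : h ∈ S.Lp u M := ⟨hO.ge hh, hu'⟩
  have h3 : h⁻¹ * g ∈ S.Nm := by
    refine S.mem_Nm_of_fix hu hO hC hk hQ ((S.Lp u M).mul_mem ((S.Lp u M).inv_mem hhL) hg) ht0 htu ?_
    have h2 := (hy.trans ht'.symm).conj h⁻¹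
    simpa [mul_assoc] using h2
  have := S.Nm.mul_mem hh h3
  rwa [mul_inv_cancel_left] at this

/-- The commutator with an orthogonal monomial is a monomial. -/
theorem Zu_inner {g : GL ι F} {t : V} (ht : S.B u t = 0) {z : GL ι F} (hz : z ∈ S.Zu u M)
    (h : g * S.e t * g⁻¹ = z * S.e t) : z ∈ S.Rm := by
  obtain ⟨p, q, e⟩ := S.eq_pq hu (A := (z : Mx ι F)) fun b hb => val_comm ((S.mem_Zu.1 hz).2 b hb)
  refine S.mem_Rm_of_pq hu (map_zero (S.B u)) (om_le (hO.le (S.mem_Zu.1 hz).1)) (p := p) (q := q)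
    (by rw [e, S.E_zero, mul_one]) (Or.inl ?_)
  have h1 : z * S.e t * (z * S.e t) = g * (S.e t * S.e t) * g⁻¹ := by rw [← h]; group
  rw [S.e_sq, show g * sg (S.Q t) * g⁻¹ = sg (S.Q t) by rcases bit (S.Q t) with e | e <;> simp [e],
    show z * S.e t * (z * S.e t) = z * (S.e t * z) * S.e t by group,
    ← (S.mem_Zu.1 hz).2 t ht, show z * (z * S.e t) * S.e t = z * z * (S.e t * S.e t) by group, S.e_sq] at h1
  exact mul_eq_right.1 h1

/-- The commutator with a monomial not orthogonal is a monomial. -/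
theorem Zu_outer (hQ : S.CentQ M) {g : GL ι F} (hg : g ∈ M) (hgu : g * S.e u = S.e u * g) {t : V}
    (ht : S.B u t = 1) {z : GL ι F} (hz : z ∈ S.Zu u M) (h : g * S.e t * g⁻¹ = z * S.e t) : z ∈ S.Rm := by
  classical
  have ht0 : t ≠ 0 := fun e => by rw [e, map_zero] at ht; exact zero_ne_one ht
  have htu : t ≠ u := (S.ne_of_B ht).symm
  set A : Set (GL ι F) := {a | a ∈ M ∧ a * S.e u = S.e u * a ∧ a * S.e t = S.e t * a} with hAdef
  have hAN : ∀ a ∈ A, a ∈ S.Nm := fun a ⟨ha, h1, h2⟩ =>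
    S.mem_Nm_of_fix hu hO hC hk hQ (g := a) ⟨ha, Or.inl (by rw [h1, mul_inv_cancel_right])⟩ ht0 htu
      (Or.inl (by rw [h2, mul_inv_cancel_right]))
  have hgi : g⁻¹ * S.e u = S.e u * g⁻¹ := by rw [inv_mul_eq_iff_eq_mul, ← mul_assoc, hgu, mul_inv_cancel_right]
  have hgA : ∀ a ∈ A, g * a * g⁻¹ ∈ A := by
    rintro a ⟨ha, h1, h2⟩
    have hcu : g * a * g⁻¹ * S.e u = S.e u * (g * a * g⁻¹) := by
      rw [mul_assoc, hgi, ← mul_assoc, mul_assoc g, h1, ← mul_assoc, hgu]; group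
    refine ⟨M.mul_mem (M.mul_mem hg ha) (M.inv_mem hg), hcu, ?_⟩
    have h3 : g * a * g⁻¹ * (z * S.e t) = z * S.e t * (g * a * g⁻¹) := by
      rw [← h, show g * a * g⁻¹ * (g * S.e t * g⁻¹) = g * (a * S.e t) * g⁻¹ by group, h2]; group
    have h4 := S.Zu_comm hu hz hcu
    rw [← mul_assoc, h4, mul_assoc, mul_assoc z] at h3
    exact mul_left_cancel h3
  have hgA' : ∀ a ∈ A, g⁻¹ * a * g ∈ A := by
    intro a ha
    let φ : A → A := fun b => ⟨g * b * g⁻¹, hgA b b.2⟩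
    have hφ : Function.Surjective φ := Finite.surjective_of_injective fun b c e => Subtype.ext (by
      have e' : g * (b : GL ι F) * g⁻¹ = g * c * g⁻¹ := congrArg Subtype.val e
      simpa using e')
    obtain ⟨b, hb⟩ := hφ ⟨a, ha⟩
    have hb' : g * (b : GL ι F) * g⁻¹ = a := congrArg Subtype.val hb
    rw [← hb', show g⁻¹ * (g * (b : GL ι F) * g⁻¹) * g = b by group]
    exact b.2
  set P := S.perp (Quad.sp [u, t]) with hP
  have hP2 : ∀ a, a ∈ P ↔ S.B u a = 0 ∧ S.B t a = 0 := fun a => by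
    rw [hP, S.mem_perp_sp]; simp
  have heA : ∀ a ∈ P, S.e a ∈ A := fun a ha =>
    ⟨hO.ge (S.e_mem_Nm (by omega) a), S.e_comm' ((S.B_comm a u).trans ((hP2 a).1 ha).1),
      S.e_comm' ((S.B_comm a t).trans ((hP2 a).1 ha).2)⟩
  -- the conjugates of the monomials on `P`
  let π : V → V → V := fun a => S.perm (g * S.e a * g⁻¹)
  have hbA : ∀ a ∈ P, g * S.e a * g⁻¹ ∈ A := fun a ha => hgA _ (heA a ha)
  have hbN : ∀ a ∈ P, g * S.e a * g⁻¹ ∈ S.NO := fun a ha => S.Nm_le_NO (hAN _ (hbA a ha))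
  have hpm : ∀ {c d : GL ι F}, c ∈ S.NO → Pm c d → S.perm c = S.perm d := fun {c d} hc hcd => funext fun v =>
    (S.perm_eq ((((hcd.symm.mul (Pm.refl _)).mul hcd.symm.inv)).trans (S.perm_spec hc v))).symm
  have hπadd : ∀ a ∈ P, ∀ b ∈ P, ∀ v, π (a + b) v = π a (π b v) := fun a ha b hb v => by
    show S.perm _ v = S.perm _ (S.perm _ v)
    rw [← S.perm_mul (hbN a ha) (hbN b hb), hpm (hbN _ (P.add_mem ha hb)) (((S.e_add a b).symm.conj g).trans
      (Or.inl (show g * (S.e a * S.e b) * g⁻¹ = g * S.e a * g⁻¹ * (g * S.e b * g⁻¹) by group)))]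
  have hπ0 : ∀ v, π 0 v = v := fun v => by
    show S.perm _ v = v
    rw [S.e_zero, mul_one, mul_inv_cancel, S.perm_one]
  have hππ : ∀ a ∈ P, ∀ v, π a (π a v) = v := fun a ha v => by
    rw [← hπadd a ha a ha, Quad.torsion, hπ0]
  have hfixu : ∀ a ∈ A, S.perm a u = u ∧ S.perm a t = t := fun a ⟨_, h1, h2⟩ =>
    ⟨S.perm_eq (Or.inl (by rw [h1, mul_inv_cancel_right])), S.perm_eq (Or.inl (by rw [h2, mul_inv_cancel_right]))⟩
  have hAP : ∀ a ∈ A, ∀ v ∈ P, S.perm a v ∈ P := fun a ha v hv => by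
    obtain ⟨e1, e2⟩ := hfixu a ha
    have hn := S.Nm_le_NO (hAN a ha)
    refine (hP2 _).2 ⟨?_, ?_⟩
    · rw [← e1, S.B_perm hn, ((hP2 v).1 hv).1]
    · rw [← e2, S.B_perm hn, ((hP2 v).1 hv).2]
  -- a common fixed space
  have hcomm : ∀ s : Finset V, ↑s ⊆ (P : Set V) → ∃ v ∈ P, v ≠ 0 ∧ ∀ a ∈ s, π a v = v := by
    intro s
    induction s using Finset.induction with
    | empty =>
      intro _
      obtain ⟨v, hv0, -, hv⟩ := S.exists_singular_perp [u, t] (by simp; omega)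
      exact ⟨v, S.mem_perp_sp.2 hv, hv0, by simp⟩
    | @insert a s has ih =>
      intro hs
      have ha : a ∈ P := hs (Finset.mem_coe.2 (Finset.mem_insert_self a s))
      have hs' : ↑s ⊆ (P : Set V) := fun x hx => hs (Finset.mem_coe.2 (Finset.mem_insert_of_mem hx))
      obtain ⟨v, hvP, hv0, hv⟩ := ih hs'
      by_cases h0 : π a v = v
      · exact ⟨v, hvP, hv0, fun b hb => (Finset.mem_insert.1 hb).elim (fun e => e ▸ h0) (hv b)⟩
      · refine ⟨v + π a v, P.add_mem hvP (hAP _ (hbA a ha) v hvP), fun e => h0 (Quad.eq_of_add_eq_zero e).symm,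
          fun b hb => ?_⟩
        rcases Finset.mem_insert.1 hb with rfl | hb
        · show S.perm _ (v + π b v) = _
          rw [S.perm_add (hbN b ha)]
          exact (congrArg (π b v + ·) (hππ b ha v)).trans (add_comm _ _)
        · show S.perm _ (v + π a v) = _
          rw [S.perm_add (hbN b (hs' hb))]
          refine congrArg₂ (· + ·) (hv b hb) ?_
          show π b (π a v) = π a v
          rw [← hπadd b (hs' hb) a ha, add_comm b a, hπadd a ha b (hs' hb), hv b hb]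
  let U : Submodule (ZMod 2) V :=
    { carrier := {v | v ∈ P ∧ ∀ a ∈ P, π a v = v}
      zero_mem' := ⟨P.zero_mem, fun a ha => S.perm_zero (hbN a ha)⟩
      add_mem' := fun {v w} hv hw => ⟨P.add_mem hv.1 hw.1, fun a ha => by
        show S.perm _ (v + w) = v + w
        rw [S.perm_add (hbN a ha)]
        exact congrArg₂ (· + ·) (hv.2 a ha) (hw.2 a ha)⟩
      smul_mem' := fun c v hv => by
        rcases bit c with rfl | rfl
        · rw [zero_smul]; exact ⟨P.zero_mem, fun a ha => S.perm_zero (hbN a ha)⟩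
        · rwa [one_smul] }
  have hUne : U ≠ ⊥ := by
    haveI : Fintype P := Fintype.ofFinite _
    obtain ⟨v, hvP, hv0, hv⟩ := hcomm (Finset.univ.filter (· ∈ P)) (by intro x hx; simpa using hx)
    intro e
    have hvU : v ∈ U := ⟨hvP, fun a ha => hv a (by simpa using ha)⟩
    rw [e, Submodule.mem_bot] at hvU
    exact hv0 hvU
  have hUP : U = P := by
    refine S.eq_of_invariant hk ht U hUne (fun v hv => hv.1) fun r hr s hs hrQ hsQ f hf => ?_
    obtain ⟨c₀, hc₀, hc₀p⟩ := S.exists_gateM (by omega) hsQ hrQ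
    have hc₀' := S.Nm_le_NO hc₀
    have hz : ∀ x, S.B r x = 0 → S.B s x = 0 → S.perm c₀ x = x := fun x h1 h2 => by
      rw [hc₀p, S.tv_of_zero h2, S.tv_of_zero h1]
    have hu' := S.perm_spec hc₀' u
    rw [hz u ((S.B_comm r u).trans ((hP2 r).1 hr).1) ((S.B_comm s u).trans ((hP2 s).1 hs).1)] at hu'
    have ht' := S.perm_spec hc₀' t
    rw [hz t ((S.B_comm r t).trans ((hP2 r).1 hr).2) ((S.B_comm s t).trans ((hP2 s).1 hs).2)] at ht'
    obtain ⟨e₀, e1, e2⟩ := S.exists_adjust ht hu' ht'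
    have her := S.e_mem_Nm (show 3 ≤ S.k by omega) e₀
    set c := S.e e₀ * c₀ with hc
    have hcA : c ∈ A := ⟨hO.ge (S.Nm.mul_mem her hc₀), e1, e2⟩
    have hcN := S.Nm_le_NO (hAN c hcA)
    have hcp : ∀ x, S.perm c x = S.tv r (S.tv s x) := fun x => by
      rw [hc, S.perm_mul (S.Nm_le_NO her) hc₀', S.perm_e, hc₀p]
    rw [← hcp f]
    refine ⟨hAP c hcA f hf.1, fun a ha => ?_⟩
    have hd := hgA' c hcA
    have hdN := S.Nm_le_NO (hAN _ hd)
    have hdi := S.NO.inv_mem hdN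
    set a' := S.perm (g⁻¹ * c * g)⁻¹ a with ha'
    have hspec : Pm ((g⁻¹ * c * g)⁻¹ * S.e a * ((g⁻¹ * c * g)⁻¹)⁻¹) (S.e a') := S.perm_spec hdi a
    have ha'P : a' ∈ P := by
      have hA : (g⁻¹ * c * g)⁻¹ ∈ A := by
        obtain ⟨h1, h2, h3⟩ := hd
        exact ⟨M.inv_mem h1, (show Commute _ (S.e u) from h2).inv_left.eq, (show Commute _ (S.e t) from h3).inv_left.eq⟩
      exact hAP _ hA a ha
    have hconj : Pm (c⁻¹ * (g * S.e a * g⁻¹) * c) (g * S.e a' * g⁻¹) := by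
      have := hspec.conj g
      rw [show g * ((g⁻¹ * c * g)⁻¹ * S.e a * ((g⁻¹ * c * g)⁻¹)⁻¹) * g⁻¹ = c⁻¹ * (g * S.e a * g⁻¹) * c by group]
        at this
      exact this
    have hci := S.NO.inv_mem hcN
    have hN2 := S.NO.mul_mem (S.NO.mul_mem hci (hbN a ha)) hcN
    have h5 : S.perm (c⁻¹ * (g * S.e a * g⁻¹) * c) f = f := by
      rw [hpm hN2 hconj]; exact hf.2 a' ha'P
    rw [S.perm_mul (S.NO.mul_mem hci (hbN a ha)) hcN, S.perm_mul hci (hbN a ha)] at h5
    have h6 := congrArg (S.perm c) h5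
    rwa [S.perm_apply_inv hcN] at h6
  obtain ⟨a, ha0, haQ, hat⟩ := S.exists_singular_perp [u, t] (by simp; omega)
  have haP : a ∈ P := S.mem_perp_sp.2 hat
  have hgL : g ∈ S.Lp u M := ⟨hg, Or.inl (by rw [hgu, mul_inv_cancel_right])⟩
  have hgN : g ∈ S.Nm := by
    obtain ⟨y, hy⟩ := S.mem_Rm_of_fix (g := g * S.e a * g⁻¹) (om_le (hO.le (hbA a haP).1)) fun v => by
      have hspec := S.perm_spec (hbN a haP) v
      suffices e : π a v = v by rwa [show S.perm (g * S.e a * g⁻¹) v = v from e] at hspec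
      have hproj : v + S.B t v • u + S.B u v • t ∈ P := by
        refine (hP2 _).2 ⟨?_, ?_⟩
        · simp only [map_add, map_smul, S.B_self, ht, smul_eq_mul, mul_zero, mul_one, add_zero]
          exact CharTwo.add_self_eq_zero _
        · simp only [map_add, map_smul, S.B_self, (S.B_comm t u).trans ht, smul_eq_mul, mul_zero, mul_one, add_zero]
          exact CharTwo.add_self_eq_zero _
      have e0 := (hUP.ge hproj).2 a haP
      obtain ⟨e1, e2⟩ := hfixu _ (hbA a haP)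
      have hlin : ∀ (c : ZMod 2) (x : V), π a x = x → π a (c • x) = c • x := fun c x hx => by
        rcases bit c with rfl | rfl
        · rw [zero_smul]; exact S.perm_zero (hbN a haP)
        · rwa [one_smul]
      have e3 : v = v + S.B t v • u + S.B u v • t + (S.B t v • u + S.B u v • t) := by
        rw [add_assoc v, add_assoc, Quad.torsion, add_zero]
      conv_lhs => rw [e3]
      show S.perm _ _ = _
      rw [S.perm_add (hbN a haP), S.perm_add (hbN a haP) (S.B t v • u)]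
      refine (congrArg₂ (· + ·) e0 (congrArg₂ (· + ·) (hlin _ u e1) (hlin _ t e2))).trans e3.symm
    exact S.mem_Nm_of_image hu hO hC hk hQ hgL ha0 (fun e => by rw [e, hu] at haQ; exact one_ne_zero haQ) hy
  have h5 := S.Rm.mul_mem ((Subgroup.mem_normalizer_iff.1 hgN.1 _).1 (S.e_mem t)) (S.Rm.inv_mem (S.e_mem t))
  rwa [h, mul_inv_cancel_right] at h5

end Sys

end CfsgLib.Geo.PauliPlus
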