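import Cfsg.Agent.Geo.PauliPlus.Fixer

/-!
The fixer condition of fusion for a group acting on a binary quadratic space modulo a nonsingular vector.
-/

set_option autoImplicit false
set_option linter.unusedSectionVars false

namespace CfsgLib.Geo.PauliPlus.Quad

open Module

variable {V : Type*} [AddCommGroup V] [Module (ZMod 2) V] [Finite V] (S : Quad V)

theorem fixer_mod {Γ : Type*} [Group Γ] {u : V} (hu : S.Q u = 1) (f : V → Γ)
    (hfadd : ∀ a b, f (a + b) = f a * f b) (hfu : f u = 1) (hfeq : ∀ {x y}, f x = f y → x = y ∨ x = y + u)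
    (H : Subgroup Γ)
    (hσ : ∀ g ∈ H, ∃ σ : V →ₗ[ZMod 2] V, σ u = u ∧ (∀ x, S.Q (σ x) = S.Q x) ∧ ∀ x, g * f x * g⁻¹ = f (σ x))
    (hself : ∀ g ∈ H, (∀ x, g * f x * g⁻¹ = f x) → ∃ x, g = f x) (W E : Subgroup Γ)
    (hWV : ∀ w ∈ W, ∃ x, w = f x) (hEH : E ≤ H) (hW : W ≠ ⊥) (hEW : Nat.card E = Nat.card W)
    (hEV : ∀ e ∈ E, (∃ x, e = f x) → e = 1) (hE2 : ∀ e ∈ E, e * e = 1)
    (hfix : ∀ e ∈ E, e ≠ 1 → ∀ x, (e * f x = f x * e ↔ f x ∈ W)) : False := by
  classical
  have hf0 : f 0 = 1 := by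
    have h := hfadd 0 0
    rw [add_zero] at h
    exact mul_eq_left.1 h.symm
  choose σ hσu hσQ hσf using fun e : E => hσ (e : Γ) (hEH e.2)
  have hσB : ∀ e v w, S.B (σ e v) (σ e w) = S.B v w := fun e v w => by
    have h1 := hσQ e (v + w)
    rw [map_add, S.Q_add, S.Q_add v w, hσQ, hσQ] at h1
    linear_combination h1
  let X := S.perp (sp [u])
  have hX : ∀ v, v ∈ X ↔ S.B u v = 0 := fun v => S.mem_perp_sp.trans (by simp)
  have hσX : ∀ e {x}, x ∈ X → σ e x ∈ X := fun e {x} hx => (hX _).2 (by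
    rw [← hσu e, hσB, (hX x).1 hx])
  -- equal classes on `X` are equal
  have hfX : ∀ {x y}, x ∈ X → S.Q x = S.Q y → f x = f y → x = y := fun {x y} hx hq h => by
    rcases hfeq h with e | e
    · exact e
    · rw [e] at hx hq
      have hy : S.B u y = 0 := by have := (hX _).1 hx; rwa [S.B_add', S.B_self, add_zero] at this
      rw [S.Q_add, hu, S.B_comm, hy, add_zero, add_eq_left] at hq
      exact absurd hq one_ne_zero
  have hmul : ∀ (e e' : E) (x : X), σ (e * e') x = σ e (σ e' x) := fun e e' x => hfX (hσX _ x.2)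
    (by rw [hσQ, hσQ, hσQ]) (by rw [← hσf, ← hσf, ← hσf, Subgroup.coe_mul]; group)
  have hone : ∀ x : X, σ 1 x = x := fun x => hfX (hσX _ x.2) (hσQ _ _) (by
    rw [← hσf, Subgroup.coe_one, one_mul, inv_one, mul_one])
  let Ws : Submodule (ZMod 2) V :=
    { carrier := {a | f a ∈ W}
      zero_mem' := show f 0 ∈ W by rw [hf0]; exact W.one_mem
      add_mem' := fun {a b} ha hb => show f (a + b) ∈ W by rw [hfadd]; exact W.mul_mem ha hb
      smul_mem' := fun c a ha => by
        rcases bit c with rfl | rfl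
        · show f ((0 : ZMod 2) • a) ∈ W
          rw [zero_smul, hf0]; exact W.one_mem
        · show f ((1 : ZMod 2) • a) ∈ W
          rw [one_smul]; exact ha }
  have hchar : ∀ e : E, (e : Γ) ≠ 1 → ∀ v, (v ∈ Ws ↔ σ e v + v = 0 ∨ σ e v + v = u) := fun e he v => by
    show f v ∈ W ↔ _
    rw [← hfix e e.2 he v, ← mul_inv_eq_iff_eq_mul, hσf]
    constructor
    · intro h
      rcases hfeq h with h | h
      · exact Or.inl (by rw [h, torsion])
      · exact Or.inr (by rw [h, add_comm v u, add_add_self])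
    · intro h
      rcases h with h | h
      · rw [eq_of_add_eq_zero h]
      · rw [show σ e v = u + v by rw [← h, add_add_self], hfadd, hfu, one_mul]
  have hzero : ∀ e : E, (e : Γ) = 1 → ∀ x : X, σ e x = x := fun e he x => by
    rw [show e = 1 from Subtype.ext he]; exact hone x
  have hee : ∀ e : E, e * e = 1 := fun e => Subtype.ext (hE2 e e.2)
  let T : E → (X →ₗ[ZMod 2] V) := fun e => (σ e + LinearMap.id).comp X.subtype
  have hT : ∀ e (x : X), T e x = σ e x + x := fun e x => rfl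
  have hTW : ∀ e x, T e x ∈ X ⊓ Ws := fun e x => by
    refine ⟨X.add_mem (hσX e x.2) x.2, ?_⟩
    by_cases he : (e : Γ) = 1
    · rw [hT, hzero e he, torsion]; exact Ws.zero_mem
    · refine (hchar e he _).2 (Or.inl ?_)
      rw [hT, map_add, ← hmul e e x, hee, hone, add_comm (σ e (x : V)), torsion]
  have hfixW : ∀ (e : E) (w : X), (w : V) ∈ Ws → σ e w = w := fun e w hw => by
    by_cases he : (e : Γ) = 1
    · exact hzero e he w
    · refine hfX (hσX _ w.2) (hσQ e _) ?_
      rcases (hchar e he w).1 hw with h | h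
      · rw [eq_of_add_eq_zero h]
      · rw [show σ e w = u + w by rw [← h, add_add_self], hfadd, hfu, one_mul]
  have hTadd : ∀ e e', T (e * e') = T e + T e' := fun e e' => LinearMap.ext fun x => by
    rw [LinearMap.add_apply, hT, hmul, hT, hT]
    have h1 : σ e' x = x + T e' x := by rw [hT, add_comm (σ e' x), add_cancel']
    rw [h1, map_add, show σ e (T e' x) = T e' x from hfixW e ⟨_, (hTW e' x).1⟩ (hTW e' x).2,
      add_comm (x : V) (T e' x), add_add_self]
    abel
  have hT1 : T 1 = 0 := LinearMap.ext fun x => by rw [hT, hone, torsion]; rfl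
  have hTz : ∀ e, T e = 0 → e = 1 := fun e h0 => Subtype.ext (by
    refine hEV e e.2 (hself _ (hEH e.2) fun v => ?_)
    rw [hσf]
    have hxfix : ∀ x, S.B u x = 0 → σ e x = x := fun x hx =>
      eq_of_add_eq_zero (LinearMap.congr_fun h0 ⟨x, (hX x).2 hx⟩)
    have hperp : σ e v + v ∈ S.perp X := fun w hw => by
      rw [S.B_add', ← show S.B (σ e w) (σ e v) = S.B w (σ e v) by rw [hxfix w ((hX w).1 hw)], hσB]
      exact CharTwo.add_self_eq_zero _
    rw [S.perp_perp, show sp [u] = Submodule.span (ZMod 2) {u} by simp [sp], Submodule.mem_span_singleton] at hperp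
    obtain ⟨c, hc⟩ := hperp
    rcases bit c with rfl | rfl
    · rw [zero_smul] at hc; rw [eq_of_add_eq_zero hc.symm]
    · rw [one_smul] at hc
      rw [show σ e v = u + v by rw [hc, add_add_self], hfadd, hfu, one_mul])
  have hinj : Function.Injective T := fun e e' h => by
    have h4 : e * e' = 1 := hTz _ (by rw [hTadd, h, ← hTadd, hee, hT1])
    calc e = e * (e' * e') := by rw [hee, mul_one]
      _ = e' := by rw [← mul_assoc, h4, one_mul]
  let Es : Submodule (ZMod 2) (X →ₗ[ZMod 2] V) :=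
    { carrier := Set.range T
      zero_mem' := ⟨1, hT1⟩
      add_mem' := by rintro _ _ ⟨e, rfl⟩ ⟨e', rfl⟩; exact ⟨e * e', hTadd e e'⟩
      smul_mem' := by
        rintro c _ ⟨e, rfl⟩
        rcases bit c with rfl | rfl
        · exact ⟨1, by rw [hT1, zero_smul]⟩
        · exact ⟨e, by rw [one_smul]⟩ }
  have hEs : Nat.card Es = Nat.card E := Nat.card_range_of_injective hinj
  choose pre hpre using fun w : W => hWV w w.2
  have hfc : ∀ (x : V) (c : ZMod 2), f (x + c • u) = f x := fun x c => by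
    rcases bit c with rfl | rfl <;> simp [hfadd, hfu]
  have hpmem : ∀ (w : W) (c : ZMod 2), pre w + c • u ∈ Ws := fun w c => by
    show f (pre w + c • u) ∈ W
    rw [hfc, ← hpre]
    exact w.2
  have hu0 := S.ne_zero_of_Q hu
  have hWc : Nat.card (W × ZMod 2) = Nat.card Ws := Nat.card_congr (Equiv.ofBijective
    (fun p => (⟨pre p.1 + p.2 • u, hpmem p.1 p.2⟩ : Ws)) ⟨by
      rintro ⟨w, c⟩ ⟨w', c'⟩ h
      have h' : pre w + c • u = pre w' + c' • u := congrArg Subtype.val h
      have h1 : w = w' := Subtype.ext (by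
        have := congrArg f h'
        rwa [hfc, hfc, ← hpre, ← hpre] at this)
      subst h1
      exact Prod.ext rfl (smul_left_injective _ hu0 (add_left_cancel h')), fun a => by
      have h1 := hpre ⟨f a, a.2⟩
      rcases hfeq h1 with e | e
      · exact ⟨(⟨f a, a.2⟩, 0), Subtype.ext (show _ + _ = _ by rw [zero_smul, add_zero]; exact e.symm)⟩
      · exact ⟨(⟨f a, a.2⟩, 1), Subtype.ext (show _ + _ = _ by rw [one_smul]; exact e.symm)⟩⟩)
  have hdim : finrank (ZMod 2) Es + 1 = finrank (ZMod 2) Ws := by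
    refine Nat.pow_right_injective (le_refl 2) ?_
    have h1 := Module.natCard_eq_pow_finrank (K := ZMod 2) (V := Es)
    have h2 := Module.natCard_eq_pow_finrank (K := ZMod 2) (V := Ws)
    rw [Nat.card_zmod, hEs, hEW] at h1
    rw [Nat.card_zmod, ← hWc, Nat.card_prod, Nat.card_zmod, h1] at h2
    show 2 ^ (_ + 1) = 2 ^ _
    rw [pow_succ]
    exact h2
  have hEne : Es ≠ ⊥ := fun e => hW (by
    rw [e, finrank_bot] at hdim
    have h1 := Module.natCard_eq_pow_finrank (K := ZMod 2) (V := Ws)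
    rw [Nat.card_zmod, ← hdim, ← hWc, Nat.card_prod, Nat.card_zmod] at h1
    exact Subgroup.card_eq_one.1 (Nat.eq_of_mul_eq_mul_right (by norm_num) (h1.trans (by norm_num : (2 : ℕ) ^ (0 + 1) = 1 * 2))))
  refine S.no_fixer_mod hu Ws (show f u ∈ W by rw [hfu]; exact W.one_mem) X rfl Es hEne hdim ?_
  rintro _ ⟨e, rfl⟩ hne
  have he : (e : Γ) ≠ 1 := fun h => hne (by rw [show e = 1 from Subtype.ext h, hT1])
  exact ⟨σ e, fun v => hσQ e v, fun x => rfl, hσu e, fun x => by rw [← hmul, hee, hone], hchar e he⟩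

end CfsgLib.Geo.PauliPlus.Quad
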