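import Cfsg.Agent.Geo.PauliPlus.CentUTop
import Cfsg.Agent.Geo.PauliPlus.ModFixer

/-!
The centraliser in an overgroup of a monomial of square minus one lies in the normaliser.
-/

set_option autoImplicit false
set_option linter.unusedSectionVars false
set_option linter.unusedSimpArgs false
set_option linter.style.haveILetI false

namespace CfsgLib.Geo.PauliPlus

open Matrix Module QuadraticMap

variable {ι : Type} [Fintype ι] [DecidableEq ι] {F : Type*} [Field F] [Fintype F] {Q₀ : QuadraticForm F (ι → F)}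
  {V : Type*} [AddCommGroup V] [Module (ZMod 2) V] [Fintype V]

namespace Sys

variable (S : Sys Q₀ V) {u : V} (hu : S.Q u = 1) {M : Subgroup (GL ι F)} (hO : Over S M) (hC : S.CentOne M)
  (hQ : S.CentQ M) (hk : 4 ≤ S.k)
include hu hO hC hQ hk

set_option maxHeartbeats 400000 in
/-- The control configuration modulo the commutant, stated for an abstract quotient. -/
theorem le_Nm_of_quot {Γ : Type*} [Group Γ] [Finite Γ] (π : S.Lp u M →* Γ) (hsurj : Function.Surjective π)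
    (hπ : ∀ a b : S.Lp u M, π a = π b ↔ (a : GL ι F)⁻¹ * b ∈ S.Zu u M) (g : S.Lp u M) : (g : GL ι F) ∈ S.Nm := by
  classical
  have heL : ∀ x, S.e x ∈ S.Lp u M := S.e_mem_Lp hu hO hC hk
  let f : V → Γ := fun x => π ⟨S.e x, heL x⟩
  have hpmf : ∀ {a : S.Lp u M} {x : V}, Pm (a : GL ι F) (S.e x) → π a = f x := by
    intro a x h
    rw [hπ]
    have h1 := (Pm.refl (a : GL ι F)⁻¹).mul h.symm
    rw [inv_mul_cancel] at h1
    exact (mem_iff_of_pm (S.neg_one_mem_Zu hu hO hC hk) h1).2 (S.Zu u M).one_mem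
  have hfadd : ∀ a b, f (a + b) = f a * f b := fun a b => by
    show π _ = π _ * π _
    rw [← map_mul]
    exact (hpmf (S.e_add a b)).symm
  have hf0 : f 0 = 1 := by
    have := hfadd 0 0
    rw [add_zero] at this
    exact mul_eq_left.1 this.symm
  have hfu : f u = 1 := by
    rw [← map_one π]
    exact ((hπ _ _).2 (by simpa using S.e_self_mem_Zu hu hO hC hk)).symm
  have hfsq : ∀ a, f a * f a = 1 := fun a => by rw [← hfadd, Quad.torsion, hf0]
  have hf1 : ∀ {x}, f x = 1 → x = 0 ∨ x = u := fun {x} h => by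
    rw [← map_one π] at h
    have h1 := (hπ _ _).1 h.symm
    exact S.zero_or_eq_of_Zu hu (by simpa using h1)
  have hfeq : ∀ {x y}, f x = f y → x = y ∨ x = y + u := fun {x y} h => by
    rcases hf1 (x := x + y) (by rw [hfadd, h, hfsq]) with e | e
    · exact Or.inl (Quad.eq_of_add_eq_zero e)
    · exact Or.inr (by rw [← e, ← add_assoc, add_comm y x, Quad.add_add_self])
  let Hb := (S.Nm.subgroupOf (S.Lp u M)).map π
  have hHb : ∀ a : S.Lp u M, π a ∈ Hb ↔ (a : GL ι F) ∈ S.Nm := fun a => by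
    refine ⟨fun ⟨b, hb, e⟩ => ?_, fun h => ⟨a, h, rfl⟩⟩
    have h1 := S.Zu_le_Nm hu hC hk ((hπ b a).1 e)
    have h2 := S.Nm.mul_mem (show (b : GL ι F) ∈ S.Nm from hb) h1
    rwa [mul_inv_cancel_left] at h2
  let W₀ := (S.Rm.subgroupOf (S.Lp u M)).map π
  have hW₀ : ∀ G, G ∈ W₀ ↔ ∃ x, G = f x := by
    intro G
    constructor
    · rintro ⟨a, ⟨x, hx⟩, rfl⟩
      exact ⟨x, hpmf hx⟩
    · rintro ⟨x, rfl⟩
      exact ⟨⟨S.e x, heL x⟩, S.e_mem x, rfl⟩
  have hfW : ∀ x, f x ∈ W₀ := fun x => (hW₀ _).2 ⟨x, rfl⟩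
  have hact : ∀ a : S.Lp u M, (a : GL ι F) ∈ S.Nm → ∀ x, π a * f x * (π a)⁻¹ = f (S.perm (a : GL ι F) x) := by
    intro a ha x
    show π a * π _ * (π a)⁻¹ = _
    rw [← map_inv, ← map_mul, ← map_mul]
    exact hpmf (S.perm_spec (S.Nm_le_NO ha) x)
  -- trivial action
  have hselff : ∀ G ∈ Hb, (∀ x, G * f x * G⁻¹ = f x) → ∃ x, G = f x := by
    intro G hG hfix
    obtain ⟨a, rfl⟩ := hsurj G
    have ha := (hHb a).1 hG
    have hn := S.Nm_le_NO ha
    obtain ⟨x, hx⟩ := S.self_mod hu hO hC hQ hk a.2 ha fun x hx => by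
      rcases hfeq ((hact a ha x).symm.trans (hfix x)) with e | e
      · exact e
      · have h1 := S.Q_perm hn x
        rw [e, S.Q_add_u hu hO hC hQ hk hx, add_eq_left] at h1
        exact absurd h1 one_ne_zero
    exact ⟨x, (hπ a ⟨S.e x, heL x⟩).2 hx⟩
  have hctrl : SpEight.Control Hb W₀ :=
    { le := Subgroup.map_mono fun x hx => S.Rm_le_Nm (by omega) hx
      normal := by
        rintro _ ⟨a, ha, rfl⟩ G hG
        obtain ⟨x, rfl⟩ := (hW₀ G).1 hG
        exact (hW₀ _).2 ⟨_, hact a ha x⟩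
      invol := fun G hG => by
        obtain ⟨x, rfl⟩ := (hW₀ G).1 hG
        exact hfsq x
      self := fun G hG hcv =>
        (hW₀ _).2 (hselff G hG fun x => by rw [hcv _ (hfW x), mul_inv_cancel_right])
      cent := by
        intro G hG hG1 A hAG
        obtain ⟨t, rfl⟩ := (hW₀ G).1 hG
        obtain ⟨a, rfl⟩ := hsurj A
        rw [hHb]
        refine S.cent_mod hu hO hC hQ hk a.2 (t := t) (fun e => hG1 (by rw [e, hf0])) (fun e => hG1 (by rw [e, hfu])) ?_
        have h1 : π (a * ⟨S.e t, heL t⟩ * a⁻¹) = π ⟨S.e t, heL t⟩ := by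
          rw [map_mul, map_mul, map_inv]
          exact mul_inv_eq_iff_eq_mul.2 hAG
        have h2 := (S.Zu u M).inv_mem (S.Zu_conj hu (heL t) ((hπ _ _).1 h1))
        simpa [mul_assoc] using h2
      fused := by
        intro G hG hG1 A hA
        obtain ⟨x, rfl⟩ := (hW₀ G).1 hG
        obtain ⟨a, rfl⟩ := hsurj A
        obtain ⟨y, hy⟩ := (hW₀ _).1 hA
        have hne : π a * f x * (π a)⁻¹ ≠ 1 := fun e => hG1 (by
          rwa [mul_inv_eq_iff_eq_mul, one_mul, mul_eq_left] at e)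
        have hy' := hy
        change π a * π _ * (π a)⁻¹ = π _ at hy'
        rw [← map_inv, ← map_mul, ← map_mul, hπ] at hy'
        have hz : (a : GL ι F) * S.e x * (a : GL ι F)⁻¹ * (S.e y)⁻¹ ∈ S.Zu u M := by
          have h2 := (S.Zu u M).inv_mem (S.Zu_conj hu (heL y) hy')
          simpa [mul_assoc] using h2
        obtain ⟨h₀, hh₀, hhu, hhx⟩ := S.fused_mod hu hO hC hQ hk a.2 (x := x) (y := y)
          (fun e => hG1 (by rw [e, hf0])) (fun e => hG1 (by rw [e, hfu])) (fun e => hne (by rw [hy, e, hf0]))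
          (fun e => hne (by rw [hy, e, hfu])) hz (by group)
        have hu' := S.perm_spec (S.Nm_le_NO hh₀) u
        rw [hhu] at hu'
        let b : S.Lp u M := ⟨h₀, hO.ge hh₀, hu'⟩
        refine ⟨π b, (hHb b).2 hh₀, ?_⟩
        rw [hact b hh₀, hy]
        rcases hhx with e | e <;> rw [show S.perm h₀ x = _ from e]
        rw [hfadd, hfu, mul_one]
      fixer := fun W E hWV hEH hW hEW hEV hE2 _ hfix =>
        S.toQuad.fixer_mod hu f hfadd hfu hfeq Hb
          (fun G hG => by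
            obtain ⟨a, rfl⟩ := hsurj G
            have ha := (hHb a).1 hG
            exact ⟨S.lin (S.Nm_le_NO ha), S.perm_eq a.2.2, fun x => S.Q_perm (S.Nm_le_NO ha) x,
              fun x => hact a ha x⟩)
          hselff W E (fun w hw => (hW₀ w).1 (hWV hw)) hEH hW hEW (fun e he h => hEV e he ((hW₀ e).2 h)) hE2
          (fun e he h1 x => hfix e he h1 (f x) (hfW x)) }
  obtain ⟨x₀, hx₀⟩ := S.exists_B_one (S.ne_zero_of_Q hu)
  obtain ⟨x, hxQ, hx⟩ := S.find (l := [u]) (S.hasHyp_perp_lt (by simp; omega)) x₀ 0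
  obtain ⟨w, hwQ, hw⟩ := S.find (l := [u]) (S.hasHyp_perp_lt (by simp; omega)) x₀ 1
  have hxB : S.B u x = 1 := (hx u (by simp)).trans hx₀
  have hwB : S.B u w = 1 := (hw u (by simp)).trans hx₀
  have hne1 : ∀ {v}, S.B u v = 1 → f v ≠ 1 := fun {v} hv e => by
    rcases hf1 e with rfl | rfl <;> simp at hv
  have htop := hctrl.eq_top (hfW x) (hne1 hxB) (hfW w) (hne1 hwB) (fun A hA => by
    obtain ⟨h₀, hh₀, e⟩ := hctrl.fused _ (hfW x) (hne1 hxB) A (hA ▸ hfW w)
    obtain ⟨b, rfl⟩ := hsurj h₀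
    rw [hA, hact b ((hHb b).1 hh₀)] at e
    have hq := S.Q_perm (S.Nm_le_NO ((hHb b).1 hh₀)) x
    rcases hfeq e with e | e <;> rw [e] at hq
    · rw [hwQ, hxQ] at hq; exact one_ne_zero hq
    · rw [S.Q_add, hwQ, hu, hxQ, S.B_comm, hwB] at hq
      exact absurd hq (by decide))
  exact (hHb g).1 (by rw [htop]; trivial)

theorem centU {g : GL ι F} (hg : g ∈ M) (hgu : Pm (g * S.e u * g⁻¹) (S.e u)) : g ∈ S.Nm := by
  let N : Subgroup (S.Lp u M) := (S.Zu u M).subgroupOf (S.Lp u M)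
  haveI : N.Normal := ⟨fun n hn a => S.Zu_conj hu a.2 hn⟩
  haveI : Finite (S.Lp u M ⧸ N) := Quotient.finite _
  refine S.le_Nm_of_quot hu hO hC hQ hk (QuotientGroup.mk' N) (QuotientGroup.mk'_surjective N) (fun a b => ?_)
    ⟨g, hg, hgu⟩
  rw [QuotientGroup.mk'_eq_mk']
  constructor
  · rintro ⟨w, hw, rfl⟩
    simpa [N, Subgroup.mem_subgroupOf] using hw
  · intro h
    exact ⟨a⁻¹ * b, h, mul_inv_cancel_left a b⟩

end Sys

end CfsgLib.Geo.PauliPlus
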