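import Cfsg.Agent.Geo.PauliPlus.Space
import Cfsg.Agent.Forms.OfBilin

/-!
No space of isometries of a binary quadratic space of dimension at least four shares one fixed space of its own
dimension; the same modulo a nonsingular vector.
-/

set_option autoImplicit false
set_option linter.unusedSectionVars false

namespace CfsgLib.Geo.PauliPlus

open Module

variable {V : Type*} [AddCommGroup V] [Module (ZMod 2) V] [Finite V]

theorem even_of_nondeg {U : Type*} [AddCommGroup U] [Module (ZMod 2) U] [FiniteDimensional (ZMod 2) U]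
    (γ : LinearMap.BilinForm (ZMod 2) U) (halt : γ.IsAlt) (hnd : ∀ v, (∀ w, γ v w = 0) → v = 0) :
    Even (finrank (ZMod 2) U) := by
  obtain ⟨m, k, b, -, -, -, hrad⟩ := CfsgLib.Forms.exists_symplectic_basis _ U γ halt rfl
  have hk : k = 0 := by
    by_contra hk
    exact b.ne_zero (Sum.inr ⟨0, Nat.pos_of_ne_zero hk⟩) (hnd _ (hrad _))
  refine ⟨m, ?_⟩
  rw [finrank_eq_card_basis b, hk]
  simp

theorem even_rank (γ : LinearMap.BilinForm (ZMod 2) V) (halt : γ.IsAlt) :
    Even (finrank (ZMod 2) V - finrank (ZMod 2) (LinearMap.ker γ)) := by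
  obtain ⟨U, hU⟩ := Submodule.exists_isCompl (LinearMap.ker γ)
  have h := Submodule.finrank_add_eq_of_isCompl hU
  rw [← h, Nat.add_sub_cancel_left]
  refine even_of_nondeg (γ.compl₁₂ U.subtype U.subtype) (fun v => halt (v : V)) fun v hv => ?_
  have hker : (v : V) ∈ LinearMap.ker γ := by
    refine LinearMap.mem_ker.2 (LinearMap.ext fun w => ?_)
    obtain ⟨a, ha, c, hc, rfl⟩ := Submodule.mem_sup.1 (hU.sup_eq_top ▸ Submodule.mem_top : w ∈ LinearMap.ker γ ⊔ U)
    have h1 : γ (v : V) a = 0 := by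
      rw [← LinearMap.IsAlt.neg halt, LinearMap.mem_ker.1 ha, LinearMap.zero_apply, neg_zero]
    have h2 : γ (v : V) c = 0 := hv ⟨c, hc⟩
    rw [map_add, h1, h2, add_zero, LinearMap.zero_apply]
  exact Subtype.ext ((Submodule.disjoint_def.1 hU.disjoint) v hker v.2)

namespace Quad

variable (S : Quad V)

/-- The fixer condition. -/
theorem no_fixer (hk : 2 ≤ S.k) (W : Submodule (ZMod 2) V) (hW : W ≠ ⊥) (E : Submodule (ZMod 2) (V →ₗ[ZMod 2] V))
    (hdim : finrank (ZMod 2) E = finrank (ZMod 2) W) (hker : ∀ T ∈ E, T ≠ 0 → LinearMap.ker T = W)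
    (hsq : ∀ T ∈ E, ∀ v, T (T v) = 0) (hiso : ∀ T ∈ E, ∀ v, S.Q (v + T v) = S.Q v) : False := by
  classical
  have hWpos : 0 < finrank (ZMod 2) W :=
    Nat.pos_of_ne_zero fun h => hW (Submodule.finrank_eq_zero.1 h)
  have hz : ∀ T ∈ E, ∀ v, v ∈ W → T v = 0 := by
    intro T hT v hv
    by_cases h : T = 0
    · simp [h]
    · exact LinearMap.mem_ker.1 (by rw [hker T hT h]; exact hv)
  have hrW : ∀ T ∈ E, ∀ v, T v ∈ W := by
    intro T hT v
    by_cases h : T = 0
    · simp [h]
    · rw [← hker T hT h]; exact LinearMap.mem_ker.2 (hsq T hT v)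
  have hperp : ∀ T ∈ E, ∀ v, ∀ w ∈ W, S.B (T v) w = 0 := by
    intro T hT v w hw
    have h1 := hiso T hT (v + w)
    rw [map_add, hz T hT w hw, add_zero, add_right_comm, S.Q_add (v + T v) w, hiso T hT v, S.Q_add v w, map_add,
      LinearMap.add_apply] at h1
    linear_combination h1
  have hsym : ∀ T ∈ E, ∀ v w, S.B (T v) w = S.B v (T w) := by
    intro T hT v w
    have h1 := hiso T hT (v + w)
    rw [map_add, show v + w + (T v + T w) = v + T v + (w + T w) by abel, S.Q_add (v + T v) (w + T w), hiso T hT v,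
      hiso T hT w, S.Q_add v w] at h1
    simp only [map_add, LinearMap.add_apply, hperp T hT v _ (hrW T hT w)] at h1
    refine CharTwo.add_eq_zero.1 ?_
    linear_combination h1
  obtain ⟨T₁, hT₁, hT₁0⟩ : ∃ T ∈ E, T ≠ 0 := by
    by_contra hall
    push Not at hall
    have : E = ⊥ := (Submodule.eq_bot_iff _).2 hall
    rw [this, finrank_bot] at hdim
    omega
  set L := S.perp W with hL
  have hrL : ∀ T ∈ E, ∀ v, T v ∈ L := fun T hT v w hw => by
    show S.B w (T v) = 0
    rw [S.B_comm, hperp T hT v w hw]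
  have hLdim := S.finrank_perp W
  rw [← hL] at hLdim
  have hrn := T₁.finrank_range_add_finrank_ker
  rw [hker T₁ hT₁ hT₁0, S.dim] at hrn
  have hrange : LinearMap.range T₁ = L := Submodule.eq_of_le_of_finrank_le
    (by rintro _ ⟨v, rfl⟩; exact hrL T₁ hT₁ v) (by omega)
  have hLW : L ≤ W := by
    rw [← hrange]; rintro _ ⟨v, rfl⟩; exact hrW T₁ hT₁ v
  let ev : V → E →ₗ[ZMod 2] L := fun v =>
    { toFun := fun T => ⟨(T : V →ₗ[ZMod 2] V) v, hrL T T.2 v⟩
      map_add' := fun T U => rfl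
      map_smul' := fun c T => rfl }
  have hev : ∀ v, v ∉ W → Function.Injective (ev v) := fun v hv => by
    rw [injective_iff_map_eq_zero]
    intro T hT
    by_contra h0
    exact hv (by rw [← hker T T.2 fun e => h0 (Subtype.ext e)]; exact LinearMap.mem_ker.2 (congrArg Subtype.val hT))
  obtain ⟨v₀, hv₀⟩ : ∃ v, v ∉ W := by
    by_contra hall
    push Not at hall
    exact hT₁0 (LinearMap.ext fun v => hz T₁ hT₁ v (hall v))
  have hd : finrank (ZMod 2) W = S.k := by
    have h1 := LinearMap.finrank_le_finrank_of_injective (hev v₀ hv₀)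
    have h2 := Submodule.finrank_mono hLW
    omega
  have hWW : L = W := Submodule.eq_of_le_of_finrank_le hLW (by omega)
  have hWiso : ∀ v ∈ W, ∀ w ∈ W, S.B v w = 0 := fun v hv w hw => by
    have hwL : w ∈ L := hWW.symm ▸ hw
    exact hwL v hv
  -- the vector giving the quadratic form on `W`
  let f : W →ₗ[ZMod 2] ZMod 2 :=
    { toFun := fun w => S.Q w
      map_add' := fun v w => by
        show S.Q ((v : V) + w) = S.Q v + S.Q w
        rw [S.Q_add, hWiso v v.2 w w.2, add_zero]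
      map_smul' := fun c w => by
        rcases bit c with rfl | rfl
        · simp
        · simp }
  obtain ⟨g, hg⟩ := f.exists_extend
  obtain ⟨c, hc⟩ : ∃ c, ∀ w ∈ W, S.B c w = S.Q w := by
    refine ⟨(S.B.toDual S.nondeg).symm g, fun w hw => ?_⟩
    rw [LinearMap.BilinForm.apply_toDual_symm_apply]
    exact LinearMap.congr_fun hg ⟨w, hw⟩
  have hself : ∀ T ∈ E, ∀ v, S.B v (T v) = S.B c (T v) := by
    intro T hT v
    have h1 := hiso T hT v
    rw [S.Q_add, ← hc _ (hrW T hT v)] at h1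
    refine CharTwo.add_eq_zero.1 ?_
    linear_combination h1
  have hcW : c ∉ W := by
    intro hcW
    -- the form vanishes on `W`, so the images of a fixed vector lie in a hyperplane of `W`
    let ev' : E →ₗ[ZMod 2] LinearMap.ker ((S.B v₀).comp W.subtype) :=
      { toFun := fun T => ⟨⟨(T : V →ₗ[ZMod 2] V) v₀, hrW T T.2 v₀⟩, LinearMap.mem_ker.2 (by
          show S.B v₀ ((T : V →ₗ[ZMod 2] V) v₀) = 0
          rw [hself T T.2 v₀, hWiso c hcW _ (hrW T T.2 v₀)])⟩
        map_add' := fun T U => rfl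
        map_smul' := fun a T => rfl }
    have hinj : Function.Injective ev' := (injective_iff_map_eq_zero _).2 fun T hT => by
      by_contra h0
      exact hv₀ (by
        rw [← hker T T.2 fun e => h0 (Subtype.ext e)]
        exact LinearMap.mem_ker.2 (congrArg Subtype.val (congrArg Subtype.val hT)))
    have h1 := LinearMap.finrank_le_finrank_of_injective hinj
    obtain ⟨w, hw, hvw⟩ : ∃ w ∈ W, S.B v₀ w = 1 := by
      by_contra hno
      push Not at hno
      exact hv₀ (hWW ▸ (fun w hw => (bit _).resolve_right (by rw [S.B_comm]; exact hno w hw) : v₀ ∈ S.perp W))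
    have hne : LinearMap.range ((S.B v₀).comp W.subtype) ≠ ⊥ := fun e => by
      have : S.B v₀ w ∈ LinearMap.range ((S.B v₀).comp W.subtype) := ⟨⟨w, hw⟩, rfl⟩
      rw [e, hvw] at this
      exact one_ne_zero ((Submodule.mem_bot (ZMod 2)).1 this)
    have h2 := Submodule.one_le_finrank_iff.2 hne
    have h3 := ((S.B v₀).comp W.subtype).finrank_range_add_finrank_ker
    omega
  have hsurj : Function.Surjective (ev c) :=
    (LinearMap.injective_iff_surjective_of_finrank_eq_finrank (by rw [hdim, hWW])).1 (hev c hcW)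
  have pick : ∀ ε : ZMod 2, ∃ T ∈ E, T ≠ 0 ∧ S.B c (T c) = ε := by
    intro ε
    obtain ⟨w, hwW, hw0, hwQ⟩ : ∃ w ∈ W, w ≠ 0 ∧ S.Q w = ε := by
      rcases bit ε with rfl | rfl
      · have h1 := f.finrank_range_add_finrank_ker
        have h2 : finrank (ZMod 2) (LinearMap.range f) ≤ 1 := (Submodule.finrank_le _).trans_eq (finrank_self _)
        have hne : LinearMap.ker f ≠ ⊥ := fun e => by rw [e, finrank_bot] at h1; omega
        obtain ⟨w, hw, hw0⟩ := Submodule.exists_mem_ne_zero_of_ne_bot hne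
        exact ⟨w, w.2, fun e => hw0 (Subtype.ext e), hw⟩
      · obtain ⟨w, hw, hwQ⟩ : ∃ w ∈ W, S.Q w = 1 := by
          by_contra hno
          push Not at hno
          refine hcW (hWW ▸ (fun w hw => ?_ : c ∈ S.perp W))
          rw [S.B_comm, hc w hw]
          exact (bit _).resolve_right (hno w hw)
        exact ⟨w, hw, S.ne_zero_of_Q hwQ, hwQ⟩
    obtain ⟨T, hT⟩ := hsurj ⟨w, hWW.symm ▸ hwW⟩
    have hTc : (T : V →ₗ[ZMod 2] V) c = w := congrArg Subtype.val hT
    exact ⟨T, T.2, fun e => hw0 (by rw [← hTc, e, LinearMap.zero_apply]), by rw [hTc, hc w hwW, hwQ]⟩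
  -- the alternating form of one isometry
  let γ : (V →ₗ[ZMod 2] V) → LinearMap.BilinForm (ZMod 2) V := fun T =>
    LinearMap.mk₂ (ZMod 2) (fun v t => S.B v (T t) + S.B c (T v) * S.B c (T t))
      (fun v v' t => by simp only [map_add, LinearMap.add_apply]; ring)
      (fun a v t => by simp only [map_smul, LinearMap.smul_apply, smul_eq_mul]; ring)
      (fun v t t' => by simp only [map_add]; ring)
      (fun a v t => by simp only [map_smul, smul_eq_mul]; ring)
  have hγ : ∀ T v t, γ T v t = S.B v (T t) + S.B c (T v) * S.B c (T t) := fun T v t => rfl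
  have halt : ∀ T ∈ E, (γ T).IsAlt := fun T hT v => by
    rw [hγ, hself T hT v]
    generalize S.B c (T v) = a; revert a; decide
  have hrad : ∀ T ∈ E, T ≠ 0 → ∀ v, v ∈ LinearMap.ker (γ T) ↔ v + S.B c (T v) • c ∈ W := by
    intro T hT hT0 v
    rw [← hker T hT hT0, LinearMap.mem_ker, LinearMap.mem_ker]
    constructor
    · intro h
      refine S.nondeg.1 _ fun t => ?_
      have h' := LinearMap.congr_fun h t
      rw [hγ, LinearMap.zero_apply] at h'
      simp only [map_add, map_smul, LinearMap.add_apply, LinearMap.smul_apply, smul_eq_mul, hsym T hT v t,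
        hsym T hT c t]
      exact h'
    · intro h
      refine LinearMap.ext fun t => ?_
      have h' := LinearMap.congr_fun (congrArg S.B h) t
      simp only [map_add, map_smul, map_zero, LinearMap.add_apply, LinearMap.smul_apply, LinearMap.zero_apply,
        smul_eq_mul, hsym T hT v t, hsym T hT c t] at h'
      rw [hγ, LinearMap.zero_apply]
      exact h'
  obtain ⟨T₀, hT₀, hT₀0, hψ₀⟩ := pick 0
  obtain ⟨T, hT, hT0, hψ⟩ := pick 1
  have e₀ : LinearMap.ker (γ T₀) = W := by
    refine le_antisymm (fun v hv => ?_) fun v hv => ?_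
    · have h1 := (hrad T₀ hT₀ hT₀0 v).1 hv
      rcases bit (S.B c (T₀ v)) with e | e
      · rwa [e, zero_smul, add_zero] at h1
      · rw [e, one_smul] at h1
        have h2 := hz T₀ hT₀ _ h1
        rw [map_add] at h2
        rw [eq_of_add_eq_zero h2, hψ₀] at e
        exact absurd e zero_ne_one
    · refine (hrad T₀ hT₀ hT₀0 v).2 ?_
      rwa [hz T₀ hT₀ v hv, map_zero, zero_smul, add_zero]
  have e₁ : LinearMap.ker (γ T) = W ⊔ Submodule.span (ZMod 2) {c} := by
    refine le_antisymm (fun v hv => ?_) (sup_le (fun v hv => ?_) ?_)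
    · have h1 := (hrad T hT hT0 v).1 hv
      have h2 : v + S.B c (T v) • c + S.B c (T v) • c ∈ W ⊔ Submodule.span (ZMod 2) {c} :=
        Submodule.add_mem _ (Submodule.mem_sup_left h1)
          (Submodule.mem_sup_right (Submodule.smul_mem _ _ (Submodule.mem_span_singleton_self c)))
      rwa [add_assoc, torsion, add_zero] at h2
    · refine (hrad T hT hT0 v).2 ?_
      rwa [hz T hT v hv, map_zero, zero_smul, add_zero]
    · refine (Submodule.span_singleton_le_iff_mem _ _).2 ((hrad T hT hT0 c).2 ?_)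
      rw [hψ, one_smul, torsion]
      exact W.zero_mem
  have p₀ := even_rank (γ T₀) (halt T₀ hT₀)
  have p₁ := even_rank (γ T) (halt T hT)
  have hdd : Disjoint W (Submodule.span (ZMod 2) {c}) := Submodule.disjoint_def.2 fun v hv hv' => by
    obtain ⟨a, rfl⟩ := Submodule.mem_span_singleton.1 hv'
    rcases bit a with rfl | rfl
    · rw [zero_smul]
    · exact absurd (by rwa [one_smul] at hv) hcW
  have hdd' := Submodule.finrank_sup_add_finrank_inf_eq W (Submodule.span (ZMod 2) {c})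
  rw [disjoint_iff.1 hdd, finrank_bot, finrank_span_singleton (v := c) fun e => hcW (by rw [e]; exact W.zero_mem)] at hdd'
  rw [e₀, S.dim, hd, Nat.even_iff] at p₀
  rw [e₁, S.dim, Nat.even_iff] at p₁
  omega

/-- The fixer condition modulo a nonsingular vector: `W` holds the vectors fixed modulo `u`. -/
theorem no_fixer_mod {u : V} (hu : S.Q u = 1) (W : Submodule (ZMod 2) V) (huW : u ∈ W)
    (X : Submodule (ZMod 2) V) (hX : X = S.perp (sp [u]))
    (E : Submodule (ZMod 2) (X →ₗ[ZMod 2] V)) (hE : E ≠ ⊥)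
    (hdim : finrank (ZMod 2) E + 1 = finrank (ZMod 2) W)
    (hext : ∀ T ∈ E, T ≠ 0 → ∃ σ : V →ₗ[ZMod 2] V, (∀ v, S.Q (σ v) = S.Q v) ∧
      (∀ x : X, T x = σ x + x) ∧ σ u = u ∧
      (∀ x : X, σ (σ x) = x) ∧
      ∀ v, v ∈ W ↔ (σ v + v = 0 ∨ σ v + v = u)) : False := by
  classical
  have hmemX : ∀ v, v ∈ X ↔ S.B u v = 0 := fun v => by rw [hX]; exact S.mem_perp_sp.trans (by simp)
  obtain ⟨W₀, hW₀⟩ : ∃ W₀, W₀ = W ⊓ X := ⟨_, rfl⟩
  have hW₀W : W₀ ≤ W := hW₀ ▸ inf_le_left
  have hW₀X : W₀ ≤ X := hW₀ ▸ inf_le_right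
  have hmem₀ : ∀ {v}, v ∈ W → v ∈ X → v ∈ W₀ := fun h h' => hW₀ ▸ ⟨h, h'⟩
  obtain ⟨L, hL⟩ : ∃ L, L = S.perp W₀ := ⟨_, rfl⟩
  have huX : u ∈ X := (hmemX u).2 (S.B_self u)
  -- facts on one extension
  have facts : ∀ T ∈ E, T ≠ 0 → ∀ x : X, (T x = 0 ↔ (x : V) ∈ W₀) ∧ T x ∈ W₀ ⊓ L ∧ T x ≠ u := by
    intro T hT hT0 x
    obtain ⟨σ, hσQ, hσT, hσu, hσσ, hσW⟩ := hext T hT hT0
    have hσB : ∀ v w, S.B (σ v) (σ w) = S.B v w := fun v w => by
      have h1 := hσQ (v + w)
      rw [map_add, S.Q_add, S.Q_add v w, hσQ, hσQ] at h1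
      linear_combination h1
    have hne : ∀ y : X, σ (y : V) + y ≠ u := fun y e => by
      have h1 : σ (y : V) = (y : V) + u := by rw [← e, ← add_assoc, add_comm (y : V) (σ y), add_add_self]
      have h2 := hσQ y
      rw [h1, S.Q_add, hu, (S.B_comm _ _).trans ((hmemX _).1 y.2), add_zero, add_eq_left] at h2
      exact one_ne_zero h2
    have hzero : ∀ y : X, T y = 0 ↔ (y : V) ∈ W₀ := fun y => by
      rw [hσT]
      refine ⟨fun e => hmem₀ ((hσW _).2 (Or.inl e)) y.2, fun h => ((hσW _).1 (hW₀W h)).resolve_right (hne y)⟩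
    have hσX : σ (x : V) ∈ X := (hmemX _).2 (by rw [← hσu, hσB, (hmemX _).1 x.2])
    refine ⟨hzero x, ⟨hmem₀ ((hσW _).2 (Or.inl ?_)) ?_, hL ▸ fun w hw => ?_⟩, by rw [hσT]; exact hne x⟩
    · rw [hσT, map_add, hσσ, add_comm (x : V), torsion]
    · rw [hσT]; exact X.add_mem hσX x.2
    · have hw' : σ w = w := eq_of_add_eq_zero (by rw [← hσT ⟨w, hW₀X hw⟩, (hzero ⟨w, hW₀X hw⟩).2 hw])
      rw [hσT, S.B_add', ← show S.B (σ w) (σ x) = S.B w (σ x) by rw [hw'], hσB]
      exact CharTwo.add_self_eq_zero _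
  obtain ⟨T₁, hT₁, hT₁0⟩ := Submodule.exists_mem_ne_zero_of_ne_bot hE
  obtain ⟨v₀, hv₀⟩ : ∃ x : X, T₁ x ≠ 0 := by
    by_contra hno
    push Not at hno
    exact hT₁0 (LinearMap.ext hno)
  have hfX : finrank (ZMod 2) X + 1 = 2 * S.k := by
    have := S.finrank_perp (sp [u])
    rw [← hX, show sp [u] = Submodule.span (ZMod 2) {u} by simp [sp], finrank_span_singleton (S.ne_zero_of_Q hu)] at this
    exact this
  have hkerT : LinearMap.ker T₁ = W₀.comap X.subtype := by
    ext x
    exact (facts T₁ hT₁ hT₁0 x).1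
  have hrn := T₁.finrank_range_add_finrank_ker
  rw [hkerT, (Submodule.comapSubtypeEquivOfLe hW₀X).finrank_eq] at hrn
  have hu₀ : u ∈ W₀ := hmem₀ huW huX
  have huL : u ∈ L := hL ▸ fun w hw => by rw [S.B_comm]; exact (hmemX w).1 (hW₀X hw)
  -- the range, with `u`, is the orthogonal of the fixed part
  have hrle : LinearMap.range T₁ ⊔ Submodule.span (ZMod 2) {u} ≤ W₀ ⊓ L := by
    refine sup_le ?_ ((Submodule.span_singleton_le_iff_mem _ _).2 ⟨hu₀, huL⟩)
    rintro _ ⟨x, rfl⟩
    exact (facts T₁ hT₁ hT₁0 x).2.1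
  have hdisj : Disjoint (LinearMap.range T₁) (Submodule.span (ZMod 2) {u}) := Submodule.disjoint_def.2 fun v hv hv' => by
    obtain ⟨x, rfl⟩ := hv
    obtain ⟨a, ha⟩ := Submodule.mem_span_singleton.1 hv'
    rcases bit a with rfl | rfl
    · rw [← ha, zero_smul]
    · exact absurd (by rw [← ha, one_smul]) (facts T₁ hT₁ hT₁0 x).2.2
  have hsum := Submodule.finrank_sup_add_finrank_inf_eq (LinearMap.range T₁) (Submodule.span (ZMod 2) {u})
  rw [disjoint_iff.1 hdisj, finrank_bot, finrank_span_singleton (S.ne_zero_of_Q hu)] at hsum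
  have hLdim := S.finrank_perp W₀
  rw [← hL] at hLdim
  have hrangeL : LinearMap.range T₁ ⊔ Submodule.span (ZMod 2) {u} = L :=
    Submodule.eq_of_le_of_finrank_le (hrle.trans inf_le_right) (by omega)
  have hLW : L ≤ W₀ := hrangeL.symm.le.trans (hrle.trans inf_le_left)
  -- evaluation at a moved vector
  let ev : E →ₗ[ZMod 2] L :=
    { toFun := fun T => ⟨(T : X →ₗ[ZMod 2] V) v₀, by
        by_cases h : (T : X →ₗ[ZMod 2] V) = 0
        · rw [h, LinearMap.zero_apply]; exact L.zero_mem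
        · exact (facts T T.2 h v₀).2.1.2⟩
      map_add' := fun T U => rfl
      map_smul' := fun c T => rfl }
  have hinj : Function.Injective ev := (injective_iff_map_eq_zero _).2 fun T hT => by
    by_contra h0
    have h1 := (facts T T.2 (fun e => h0 (Subtype.ext e)) v₀).1.1 (congrArg Subtype.val hT)
    exact hv₀ ((facts T₁ hT₁ hT₁0 v₀).1.2 h1)
  have hsur : ¬ Function.Surjective ev := fun hs => by
    obtain ⟨T, hT⟩ := hs ⟨u, huL⟩
    have hTu : (T : X →ₗ[ZMod 2] V) v₀ = u := congrArg Subtype.val hT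
    by_cases h : (T : X →ₗ[ZMod 2] V) = 0
    · exact S.ne_zero_of_Q hu (by rw [← hTu, h, LinearMap.zero_apply])
    · exact (facts T T.2 h v₀).2.2 hTu
  have hE1 : finrank (ZMod 2) E < finrank (ZMod 2) L := by
    refine lt_of_le_of_ne (LinearMap.finrank_le_finrank_of_injective hinj) fun e => hsur ?_
    exact (LinearMap.injective_iff_surjective_of_finrank_eq_finrank e).1 hinj
  have h1 := Submodule.finrank_mono hW₀W
  have h2 := Submodule.finrank_mono hLW
  -- no outer vector is fixed modulo `u`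
  have hWX : W ≤ X := by
    have : W₀ = W := Submodule.eq_of_le_of_finrank_le hW₀W (by omega)
    exact this ▸ hW₀X
  obtain ⟨σ, hσQ, hσT, hσu, -, hσW⟩ := hext T₁ hT₁ hT₁0
  have hσB : ∀ v w, S.B (σ v) (σ w) = S.B v w := fun v w => by
    have h1 := hσQ (v + w)
    rw [map_add, S.Q_add, S.Q_add v w, hσQ, hσQ] at h1
    linear_combination h1
  obtain ⟨t, ht⟩ := S.exists_B_one (S.ne_zero_of_Q hu)
  have hτ : σ t + t ∈ L := hL ▸ fun w hw => by
    have hw' : σ w = w := eq_of_add_eq_zero (by rw [← hσT ⟨w, hW₀X hw⟩, ((facts T₁ hT₁ hT₁0 ⟨w, hW₀X hw⟩).1).2 hw])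
    rw [S.B_add', ← show S.B (σ w) (σ t) = S.B w (σ t) by rw [hw'], hσB]
    exact CharTwo.add_self_eq_zero _
  rw [← hrangeL] at hτ
  obtain ⟨_, ⟨x, rfl⟩, b, hb, hxb⟩ := Submodule.mem_sup.1 hτ
  obtain ⟨a, rfl⟩ := Submodule.mem_span_singleton.1 hb
  have hfix : σ (t + x) + (t + x) = a • u := by
    rw [map_add, show σ t + σ (x : V) + (t + (x : V)) = σ t + t + (σ (x : V) + x) by abel, ← hσT x, ← hxb,
      add_right_comm, torsion, zero_add]
  have hout : t + (x : V) ∈ W := (hσW _).2 (by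
    rcases bit a with rfl | rfl
    · exact Or.inl (by rw [hfix, zero_smul])
    · exact Or.inr (by rw [hfix, one_smul]))
  have h3 := (hmemX _).1 (hWX hout)
  rw [S.B_add', ht, (hmemX _).1 x.2, add_zero] at h3
  exact one_ne_zero h3

end Quad

end CfsgLib.Geo.PauliPlus
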