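import Cfsg.Agent.Geo.PauliPlus.CentU
import Cfsg.Agent.Geo.PauliPlus.Fixer
import Cfsg.Agent.Geo.SpEight.Fusion

/-!
The centraliser in an overgroup of a monomial of square minus one lies in the normaliser: fusion modulo the
elements commuting with the monomials orthogonal to it.
-/

set_option autoImplicit false
set_option linter.unusedSectionVars false
set_option linter.unusedSimpArgs false
set_option linter.style.haveILetI false

namespace CfsgLib.Geo.PauliPlus

open Matrix Module QuadraticMap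

variable {ι : Type} [Fintype ι] [DecidableEq ι] {F : Type*} [Field F] [Fintype F] {Q₀ : QuadraticForm F (ι → F)}
  {V : Type*} [AddCommGroup V] [Module (ZMod 2) V] [Fintype V]

namespace Sys

variable (S : Sys Q₀ V) {u : V} (hu : S.Q u = 1) {M : Subgroup (GL ι F)} (hO : Over S M) (hC : S.CentOne M)
  (hQ : S.CentQ M) (hk : 4 ≤ S.k)
include hu hO hC hQ hk

theorem Q_add_u {x : V} (hx : S.B u x = 0) : S.Q (x + u) = S.Q x + 1 := by
  rw [S.Q_add, hu, S.B_comm, hx, add_zero]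

/-- An element of the normaliser fixing the monomials orthogonal to `u` is a monomial modulo the commutant. -/
theorem self_mod {b : GL ι F} (hbL : b ∈ S.Lp u M) (hb : b ∈ S.Nm)
    (hp : ∀ x, S.B u x = 0 → S.perm b x = x) : ∃ x, b⁻¹ * S.e x ∈ S.Zu u M := by
  have key : ∀ c ∈ S.Lp u M, c ∈ S.Nm → c * S.e u = S.e u * c → (∀ x, S.B u x = 0 → S.perm c x = x) →
      ∃ x, c⁻¹ * S.e x ∈ S.Zu u M := by
    intro c hcL hc hcu hcp
    obtain ⟨r, hr, hcom⟩ := S.eq_pq_mul' hu hcu fun z hz => by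
      have h1 := S.perm_spec (S.Nm_le_NO hc) z
      rwa [hcp z hz] at h1
    refine ⟨r, ?_⟩
    have heL := S.e_mem_Lp hu hO hC hk r
    have hz : c * (S.e r)⁻¹ ∈ S.Zu u M := S.mem_Zu.2 ⟨M.mul_mem hcL.1 (M.inv_mem heL.1), hcom⟩
    have h2 := S.Zu_conj hu ((S.Lp u M).inv_mem heL) ((S.Zu u M).inv_mem hz)
    simpa [mul_assoc] using h2
  rcases hbL.2 with e | e <;> rw [mul_inv_eq_iff_eq_mul] at e
  · exact key b hbL hb e hp
  · obtain ⟨t, ht⟩ := S.exists_B_one (S.ne_zero_of_Q hu)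
    have het := S.e_mem_Nm (show 3 ≤ S.k by omega) t
    have heL := S.e_mem_Lp hu hO hC hk t
    obtain ⟨x, hx⟩ := key (S.e t * b) ((S.Lp u M).mul_mem heL hbL) (S.Nm.mul_mem het hb) (by
      rw [mul_assoc, e, neg_mul, mul_neg, ← mul_assoc, S.e_anti (show S.B t u = 1 by rw [S.B_comm, ht]), neg_mul,
        neg_neg, mul_assoc]) fun v hv => by
      rw [S.perm_mul (S.Nm_le_NO het) (S.Nm_le_NO hb), S.perm_e, hp v hv]
    refine ⟨t + x, ?_⟩
    have hn : ((S.e t)⁻¹ * S.e x)⁻¹ * S.e (t + x) ∈ S.Zu u M := by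
      have h1 : Pm ((S.e t)⁻¹ * S.e x) (S.e (t + x)) := ((S.e_inv t).mul (Pm.refl _)).trans (S.e_add t x)
      have h2 := (Pm.refl ((S.e t)⁻¹ * S.e x)⁻¹).mul h1.symm
      rw [inv_mul_cancel] at h2
      exact (mem_iff_of_pm (S.neg_one_mem_Zu hu hO hC hk) h2).2 (S.Zu u M).one_mem
    have h4 := (S.Zu u M).mul_mem hx hn
    rwa [show (S.e t * b)⁻¹ * S.e x * (((S.e t)⁻¹ * S.e x)⁻¹ * S.e (t + x)) = b⁻¹ * S.e (t + x) by group] at h4

/-- An element centralising a monomial modulo the commutant normalises. -/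
theorem cent_mod {a : GL ι F} (ha : a ∈ S.Lp u M) {t : V} (ht0 : t ≠ 0) (htu : t ≠ u)
    (hz : a * S.e t * a⁻¹ * (S.e t)⁻¹ ∈ S.Zu u M) : a ∈ S.Nm := by
  set z := a * S.e t * a⁻¹ * (S.e t)⁻¹ with hzdef
  have hzt : a * S.e t * a⁻¹ = z * S.e t := by rw [hzdef, inv_mul_cancel_right]
  have hzR : z ∈ S.Rm := by
    rcases bit (S.B u t) with hBt | hBt
    · exact S.Zu_inner hu hO hC hk hBt hz hzt
    rcases ha.2 with e | e <;> rw [mul_inv_eq_iff_eq_mul] at e
    · exact S.Zu_outer hu hO hC hk hQ ha.1 e hBt hz hzt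
    · refine S.Zu_outer hu hO hC hk hQ (g := a * S.e t) (M.mul_mem ha.1 (S.e_mem_Lp hu hO hC hk t).1) ?_ hBt hz ?_
      · rw [mul_assoc, S.e_anti (show S.B t u = 1 by rw [S.B_comm, hBt]), mul_neg, ← mul_assoc, e, neg_mul,
          neg_mul, neg_neg, mul_assoc]
      · rw [← hzt]; group
  obtain ⟨r, hr⟩ := hzR
  refine S.mem_Nm_of_image hu hO hC hk hQ ha ht0 htu (y := r + t) ?_
  rw [hzt]
  exact (hr.mul (Pm.refl _)).trans (S.e_add r t)

/-- A monomial carried to another one modulo the commutant is carried by the normaliser modulo `u`. -/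
theorem fused_mod {g : GL ι F} (hg : g ∈ S.Lp u M) {x y : V} (hx0 : x ≠ 0) (hxu : x ≠ u) (hy0 : y ≠ 0)
    (hyu : y ≠ u) {z : GL ι F} (hz : z ∈ S.Zu u M) (h : g * S.e x * g⁻¹ = z * S.e y) :
    ∃ h₀ ∈ S.Nm, S.perm h₀ u = u ∧ (S.perm h₀ x = y ∨ S.perm h₀ x = y + u) := by
  classical
  have hadd : ∀ a b c : ZMod 2, a + b + c = a + (b + c) := fun a b c => add_assoc a b c
  -- conjugation preserves orthogonality to `u`
  have hB : S.B u x = S.B u y := by
    have hzc : ∀ v, S.B u v = 0 → z * S.e v = S.e v * z := (S.mem_Zu.1 hz).2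
    have hze := hzc u (S.B_self u)
    have hg' := hg.2
    have key : ∀ {a b : GL ι F} {β : ZMod 2}, a * b = sg β * (b * a) → ∀ b', Pm b b' → a * b' = sg β * (b' * a) := by
      intro a b β e b' hb
      rcases hb with rfl | rfl
      · exact e
      · simpa using e
    have h1 : g * S.e x * g⁻¹ * (g * S.e u * g⁻¹) = sg (S.B x u) * (g * S.e u * g⁻¹ * (g * S.e x * g⁻¹)) := by
      have := congrArg (fun w => g * w * g⁻¹) (S.e_comm x u)
      rcases bit (S.B x u) with e | e <;> rw [e] at this ⊢ <;> simp [mul_assoc] at this ⊢ <;> exact this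
    have h2 := key h1 _ hg'
    rw [h] at h2
    have h3 : z * S.e y * S.e u = sg (S.B y u) * (S.e u * (z * S.e y)) := by
      rw [mul_assoc, S.e_comm, ← mul_assoc (S.e u), ← hze]
      rcases bit (S.B y u) with e | e <;> simp [e, mul_assoc]
    have h4 := S.sg_inj (mul_right_cancel (h2.symm.trans h3))
    rwa [S.B_comm x u, S.B_comm y u] at h4
  rcases bit (S.B u x) with hx | hx
  · have hy : S.B u y = 0 := hB ▸ hx
    obtain ⟨x', hx'0, hx'u, hx'Q, hx'⟩ : ∃ x', x' ≠ 0 ∧ x' ≠ u ∧ S.Q x' = 0 ∧ (x' = x ∨ x' = x + u) := by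
      rcases bit (S.Q x) with e | e
      · exact ⟨x, hx0, hxu, e, Or.inl rfl⟩
      · exact ⟨x + u, fun e' => hxu (Quad.eq_of_add_eq_zero e'), fun e' => hx0 (add_eq_right.1 e'),
          by rw [S.Q_add_u hu hO hC hQ hk hx, e]; decide, Or.inr rfl⟩
    obtain ⟨y', hy'0, hy'u, hy'Q, hy'⟩ : ∃ y', y' ≠ 0 ∧ y' ≠ u ∧ S.Q y' = 0 ∧ (y' = y ∨ y' = y + u) := by
      rcases bit (S.Q y) with e | e
      · exact ⟨y, hy0, hyu, e, Or.inl rfl⟩
      · exact ⟨y + u, fun e' => hyu (Quad.eq_of_add_eq_zero e'), fun e' => hy0 (add_eq_right.1 e'),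
          by rw [S.Q_add_u hu hO hC hQ hk hy, e]; decide, Or.inr rfl⟩
    have hBx' : S.B u x' = 0 := by rcases hx' with rfl | rfl <;> simp [hx]
    have hBy' : S.B u y' = 0 := by rcases hy' with rfl | rfl <;> simp [hy]
    obtain ⟨h₀, hh₀, hhu, hhx⟩ := S.moveU hk hu hx'0 hy'0 hx'u hy'u (hx'Q.trans hy'Q.symm) (hBx'.trans hBy'.symm)
    refine ⟨h₀, hh₀, hhu, ?_⟩
    rcases hx' with rfl | rfl <;> rcases hy' with rfl | rfl
    · exact Or.inl hhx
    · exact Or.inr hhx
    · rw [S.perm_add (S.Nm_le_NO hh₀), hhu] at hhx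
      exact Or.inr (by rw [← hhx, Quad.add_add_self])
    · rw [S.perm_add (S.Nm_le_NO hh₀), hhu] at hhx
      exact Or.inl (add_right_cancel hhx)
  · have hy : S.B u y = 1 := hB ▸ hx
    have hQxy : S.Q x = S.Q y := by
      obtain ⟨p, q, e⟩ := S.eq_pq hu (A := (z : Mx ι F)) fun b hb => val_comm ((S.mem_Zu.1 hz).2 b hb)
      have hn := S.pq_norm hu (om_le (hO.le (S.mem_Zu.1 hz).1)) e
      refine S.sg_inj (ι := ι) (Units.ext ?_)
      have h1 : g * (S.e x * S.e x) * g⁻¹ = z * S.e y * (z * S.e y) := by rw [← h]; group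
      rw [S.e_sq, show g * sg (S.Q x) * g⁻¹ = sg (S.Q x) by rcases bit (S.Q x) with e | e <;> simp [e]] at h1
      rw [h1]
      simp only [Units.val_mul, e, sg_val]
      have hEu : S.E y * S.E u = -(S.E u * S.E y) := by
        rw [S.E_comm y u, S.B_comm, hy, CfsgLib.Geo.PauliEight.sgn_one, neg_one_smul]
      have hEz : S.E y * (p • 1 + q • S.E u) = (p • 1 - q • S.E u) * S.E y := by
        rw [mul_add, sub_mul, mul_smul_comm, smul_mul_assoc, mul_smul_comm, smul_mul_assoc, mul_one, one_mul, hEu,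
          smul_neg, sub_eq_add_neg]
      show (p • 1 + q • S.E u) * S.E y * ((p • 1 + q • S.E u) * S.E y) = _
      rw [mul_assoc (p • 1 + q • S.E u), ← mul_assoc (S.E y), hEz, mul_assoc, S.E_sq, ← mul_assoc, mul_smul_comm,
        mul_one]
      congr 1
      simp only [add_mul, mul_sub, smul_mul_assoc, mul_smul_comm, one_mul, mul_one, smul_smul, smul_sub, smul_add,
        S.E_sq, hu, CfsgLib.Geo.PauliEight.sgn_one]
      match_scalars <;> (first | linear_combination hn | ring)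
    obtain ⟨h₀, hh₀, hhu, hhx⟩ := S.moveU hk hu hx0 hy0 hxu hyu hQxy hB
    exact ⟨h₀, hh₀, hhu, Or.inl hhx⟩

end Sys

end CfsgLib.Geo.PauliPlus
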