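import Cfsg.Agent.Geo.PauliPlus.Gate
import Mathlib.Algebra.Algebra.Equiv

/-!
Coordinates in which an involution of a monomial system changes the sign of one half and an anticommuting
involution exchanges the halves, for orthogonal groups.
-/

set_option autoImplicit false
set_option linter.unusedSectionVars false
set_option linter.unusedSimpArgs false

namespace CfsgLib.Geo.PauliPlus

open Matrix Module QuadraticMap
open CfsgLib.Geo.PauliEight (sgn sgn_zero sgn_one)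

variable {ι : Type} [Fintype ι] [DecidableEq ι] {F : Type*} [Field F] {Q₀ : QuadraticForm F (ι → F)}
  {V : Type*} [AddCommGroup V] [Module (ZMod 2) V] [Fintype V]

theorem ker_sub_compl (two : (2 : F) ≠ 0) {W : Type*} [AddCommGroup W] [Module F W] (X : W →ₗ[F] W)
    (hX : ∀ u, X (X u) = u) : IsCompl (LinearMap.ker (X - LinearMap.id)) (LinearMap.ker (X + LinearMap.id)) := by
  refine ⟨Submodule.disjoint_def.2 fun u h1 h2 => ?_, codisjoint_iff.2 (eq_top_iff.2 fun u _ => ?_)⟩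
  · simp only [LinearMap.mem_ker, LinearMap.sub_apply, LinearMap.add_apply, LinearMap.id_apply] at h1 h2
    have : (2 : F) • u = 0 := by
      rw [two_smul]
      linear_combination (norm := module) h2 - h1
    exact (smul_eq_zero.1 this).resolve_left two
  · refine Submodule.mem_sup.2 ⟨(2 : F)⁻¹ • (u + X u), ?_, (2 : F)⁻¹ • (u - X u), ?_, ?_⟩
    · simp only [LinearMap.mem_ker, LinearMap.sub_apply, LinearMap.id_apply, map_smul, map_add, hX]
      module
    · simp only [LinearMap.mem_ker, LinearMap.add_apply, LinearMap.id_apply, map_smul, map_sub, hX]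
      module
    · rw [← smul_add, show u + X u + (u - X u) = (2 : F) • u by rw [two_smul]; abel, smul_smul,
        inv_mul_cancel₀ two, one_smul]

/-- The coordinates attached to two anticommuting involutions. -/
structure Chart (S : Sys Q₀ V) (x y : V) (n : ℕ) where
  Qh : QuadraticForm F (Fin n → F)
  std : Std Qh
  q : (Fin n ⊕ Fin n → F) ≃ₗ[F] (ι → F)
  form_q : ∀ a, Q₀ (q a) = Qh (a ∘ Sum.inl) + Qh (a ∘ Sum.inr)
  x_act : ∀ a, S.E x *ᵥ q a = q (Sum.elim (a ∘ Sum.inl) (-(a ∘ Sum.inr)))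
  y_act : ∀ a, S.E y *ᵥ q a = q (a ∘ Sum.swap)

namespace Sys

variable (S : Sys Q₀ V)

theorem sq_mulVec {x : V} (hx : S.Q x = 0) (u : ι → F) : S.E x *ᵥ (S.E x *ᵥ u) = u := by
  rw [Matrix.mulVec_mulVec, S.E_sq, hx, sgn_zero, one_smul, Matrix.one_mulVec]

theorem exists_chart {x y : V} (hxy : S.B x y = 1) (hx : S.Q x = 0) (hy : S.Q y = 0) :
    ∃ n, Nonempty (Chart S x y n) := by
  classical
  set X := Matrix.toLin' (S.E x) with hX
  have hXa : ∀ u, X u = S.E x *ᵥ u := fun u => Matrix.toLin'_apply _ u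
  set Vp := LinearMap.ker (X - LinearMap.id) with hVp
  set Vm := LinearMap.ker (X + LinearMap.id) with hVm
  have hp : ∀ u, u ∈ Vp ↔ S.E x *ᵥ u = u := fun u => by simp [hVp, hXa, sub_eq_zero]
  have hm : ∀ u, u ∈ Vm ↔ S.E x *ᵥ u = -u := fun u => by simp [hVm, hXa, eq_neg_iff_add_eq_zero]
  have hswap : ∀ u, S.E x *ᵥ (S.E y *ᵥ u) = -(S.E y *ᵥ (S.E x *ᵥ u)) := fun u => by
    rw [Matrix.mulVec_mulVec, Matrix.mulVec_mulVec, S.E_comm x y, hxy, sgn_one, neg_one_smul, Matrix.neg_mulVec]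
  have hc : IsCompl Vp Vm := ker_sub_compl S.two X fun u => by rw [hXa, hXa, S.sq_mulVec hx]
  let g : Vp ≃ₗ[F] Vm :=
    { toFun := fun u => ⟨S.E y *ᵥ (u : ι → F), (hm _).2 (by rw [hswap, (hp _).1 u.2])⟩
      invFun := fun u => ⟨S.E y *ᵥ (u : ι → F), (hp _).2 (by
        rw [hswap, (hm _).1 u.2, Matrix.mulVec_neg, neg_neg])⟩
      map_add' := fun a b => Subtype.ext (by simp [Matrix.mulVec_add])
      map_smul' := fun c a => Subtype.ext (by simp [Matrix.mulVec_smul])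
      left_inv := fun u => Subtype.ext (S.sq_mulVec hy _)
      right_inv := fun u => Subtype.ext (S.sq_mulVec hy _) }
  have hcross : ∀ {u w : ι → F}, u ∈ Vp → w ∈ Vm → polar Q₀ u w = 0 := fun {u w} hu hw => by
    have h := iso_polar (S.mem x) u w
    change polar Q₀ (S.E x *ᵥ u) (S.E x *ᵥ w) = _ at h
    rw [(hp u).1 hu, (hm w).1 hw, polar_neg_right] at h
    exact (mul_eq_zero.1 (show (2 : F) * polar Q₀ u w = 0 by linear_combination -h)).resolve_left S.two
  let Lp : (Fin (finrank F Vp) → F) ≃ₗ[F] Vp := (Module.finBasis F Vp).equivFun.symm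
  let L : (Fin (finrank F Vp) → F) →ₗ[F] (ι → F) := Vp.subtype.comp (Lp : _ →ₗ[F] Vp)
  have hLp : ∀ a, L a ∈ Vp := fun a => (Lp a).2
  let Y := Matrix.toLin' (S.E y)
  have hYm : ∀ {u}, u ∈ Vp → S.E y *ᵥ u ∈ Vm := fun {u} hu => (g ⟨u, hu⟩).2
  let q₀ : (Fin (finrank F Vp) ⊕ Fin (finrank F Vp) → F) →ₗ[F] (ι → F) :=
    L.comp (LinearMap.funLeft F F Sum.inl) + Y.comp (L.comp (LinearMap.funLeft F F Sum.inr))
  have hq₀ : ∀ a, q₀ a = L (a ∘ Sum.inl) + S.E y *ᵥ L (a ∘ Sum.inr) := fun a => by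
    simp [q₀, Y, LinearMap.funLeft, Matrix.toLin'_apply]
  have hinj : Function.Injective q₀ := (injective_iff_map_eq_zero _).2 fun a ha => by
    rw [hq₀] at ha
    have h1 : L (a ∘ Sum.inl) = 0 := Submodule.disjoint_def.1 hc.disjoint _ (hLp _) (by
      rw [eq_neg_of_add_eq_zero_left ha]; exact Vm.neg_mem (hYm (hLp _)))
    rw [h1, zero_add] at ha
    have h2 : L (a ∘ Sum.inr) = 0 := by rw [← S.sq_mulVec hy (L (a ∘ Sum.inr)), ha, Matrix.mulVec_zero]
    have z : ∀ b, L b = 0 → b = 0 := fun b hb => Lp.map_eq_zero_iff.1 (Subtype.ext hb)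
    funext i
    rcases i with i | i
    exacts [congrFun (z _ h1) i, congrFun (z _ h2) i]
  have hdim : finrank F (Fin (finrank F Vp) ⊕ Fin (finrank F Vp) → F) = finrank F (ι → F) := by
    rw [← Submodule.finrank_add_eq_of_isCompl hc, ← g.finrank_eq, Module.finrank_fintype_fun_eq_card]
    simp
  let Qh : QuadraticForm F (Fin (finrank F Vp) → F) := Q₀.comp L
  let q := LinearMap.linearEquivOfInjective q₀ hinj hdim
  have hform : ∀ a, Q₀ (q₀ a) = Qh (a ∘ Sum.inl) + Qh (a ∘ Sum.inr) := fun a => by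
    rw [hq₀, QuadraticMap.map_add (⇑Q₀), hcross (hLp _) (hYm (hLp _)), add_zero, mem_iso.1 (S.mem y)]
    rfl
  have hnd : (polarBilin Qh).Nondegenerate := by
    have key : ∀ u, (∀ w, polar Qh u w = 0) → u = 0 := fun u hu => by
      refine Lp.map_eq_zero_iff.1 (Subtype.ext (S.std.nd.1 _ fun z => ?_))
      obtain ⟨p, hpp, r, hr, rfl⟩ := Submodule.mem_sup.1 (hc.sup_eq_top ▸ Submodule.mem_top : z ∈ Vp ⊔ Vm)
      show polar Q₀ (L u) (p + r) = 0
      rw [polar_add_right, hcross (hLp u) hr, add_zero, show p = L (Lp.symm ⟨p, hpp⟩) by simp [L]]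
      have h := hu (Lp.symm ⟨p, hpp⟩)
      simpa only [polar, Qh, QuadraticMap.comp_apply, map_add] using h
    exact ⟨fun u hu => key u hu, fun u hu => key u fun w => by rw [polar_comm]; exact hu w⟩
  refine ⟨_, ⟨⟨Qh, ⟨hnd, S.two⟩, q, fun a => hform a, fun a => ?_, fun a => ?_⟩⟩⟩
  · show S.E x *ᵥ q₀ a = q₀ _
    rw [hq₀, hq₀, Sum.elim_comp_inl, Sum.elim_comp_inr, map_neg, Matrix.mulVec_neg, Matrix.mulVec_add,
      (hp _).1 (hLp _), (hm _).1 (hYm (hLp _))]
  · show S.E y *ᵥ q₀ a = q₀ _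
    rw [hq₀, hq₀, Matrix.mulVec_add, S.sq_mulVec hy, add_comm]
    rfl

end Sys

namespace Chart

variable {S : Sys Q₀ V} {x y : V} {n : ℕ} (C : Chart S x y n)

/-- The algebra isomorphism of a chart. -/
noncomputable def φ : Matrix (Fin n ⊕ Fin n) (Fin n ⊕ Fin n) F ≃ₐ[F] Mx ι F :=
  (Matrix.toLinAlgEquiv' (R := F)).trans ((C.q.conjAlgEquiv F).trans (Matrix.toLinAlgEquiv' (R := F)).symm)

theorem φ_mulVec (X : Matrix (Fin n ⊕ Fin n) (Fin n ⊕ Fin n) F) (v : Fin n ⊕ Fin n → F) :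
    C.φ X *ᵥ C.q v = C.q (X *ᵥ v) := by
  rw [← Matrix.toLinAlgEquiv'_apply, φ]
  simp [LinearEquiv.conjAlgEquiv_apply]

theorem eq_of_mulVec {A B : Mx ι F} (h : ∀ v, A *ᵥ C.q v = B *ᵥ C.q v) : A = B := by
  refine Matrix.toLin'.injective (LinearMap.ext fun z => ?_)
  obtain ⟨v, rfl⟩ := C.q.surjective z
  simpa [Matrix.toLin'_apply] using h v

theorem φ_x : C.φ (Matrix.fromBlocks 1 0 0 (-1)) = S.E x := C.eq_of_mulVec fun v => by
  rw [C.φ_mulVec, C.x_act, Matrix.fromBlocks_mulVec]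
  simp [Matrix.neg_mulVec]

theorem φ_y : C.φ (Matrix.fromBlocks 0 1 1 0) = S.E y := C.eq_of_mulVec fun v => by
  rw [C.φ_mulVec, C.y_act, Matrix.fromBlocks_mulVec]
  congr 1
  funext i
  rcases i with i | i <;> simp

/-- A matrix given by four blocks. -/
noncomputable def blk (a b c d : Mx (Fin n) F) : Mx ι F := C.φ (Matrix.fromBlocks a b c d)

theorem blk_mul (a b c d a' b' c' d' : Mx (Fin n) F) : C.blk a b c d * C.blk a' b' c' d' =
    C.blk (a * a' + b * c') (a * b' + b * d') (c * a' + d * c') (c * b' + d * d') := by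
  rw [blk, blk, ← map_mul, Matrix.fromBlocks_multiply]; rfl

theorem blk_one : C.blk (1 : Mx (Fin n) F) 0 0 1 = 1 := by rw [blk, Matrix.fromBlocks_one, map_one]

theorem blk_neg (a b c d : Mx (Fin n) F) : -C.blk a b c d = C.blk (-a) (-b) (-c) (-d) := by
  rw [blk, ← map_neg, Matrix.fromBlocks_neg]; rfl

theorem blk_add (a b c d a' b' c' d' : Mx (Fin n) F) :
    C.blk a b c d + C.blk a' b' c' d' = C.blk (a + a') (b + b') (c + c') (d + d') := by
  rw [blk, blk, ← map_add, Matrix.fromBlocks_add]; rfl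

theorem blk_smul (t : F) (a b c d : Mx (Fin n) F) : t • C.blk a b c d = C.blk (t • a) (t • b) (t • c) (t • d) := by
  rw [blk, ← map_smul, Matrix.fromBlocks_smul]; rfl

theorem blk_inj {a b c d a' b' c' d' : Mx (Fin n) F} :
    C.blk a b c d = C.blk a' b' c' d' ↔ a = a' ∧ b = b' ∧ c = c' ∧ d = d' := by
  rw [blk, blk, C.φ.injective.eq_iff, Matrix.fromBlocks_inj]

theorem exists_blk (X : Mx ι F) : ∃ a b c d, X = C.blk a b c d := by
  refine ⟨(C.φ.symm X).toBlocks₁₁, (C.φ.symm X).toBlocks₁₂, (C.φ.symm X).toBlocks₂₁, (C.φ.symm X).toBlocks₂₂, ?_⟩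
  rw [blk, Matrix.fromBlocks_toBlocks, AlgEquiv.apply_symm_apply]

theorem blk_x : C.blk 1 0 0 (-1) = S.E x := C.φ_x
theorem blk_y : C.blk 0 1 1 0 = S.E y := C.φ_y

/-- The block diagonal elements. -/
noncomputable def χ : GL (Fin n) F × GL (Fin n) F →* GL ι F where
  toFun p := ⟨C.blk p.1 0 0 p.2, C.blk (p.1⁻¹ : GL (Fin n) F) 0 0 (p.2⁻¹ : GL (Fin n) F),
    by rw [blk_mul]; simp [blk_one], by rw [blk_mul]; simp [blk_one]⟩
  map_one' := Units.ext (by show C.blk _ _ _ _ = _; simp [blk_one])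
  map_mul' p q := Units.ext (by show C.blk _ _ _ _ = C.blk _ _ _ _ * C.blk _ _ _ _; rw [blk_mul]; simp)

theorem χ_val (a b : GL (Fin n) F) : (C.χ (a, b) : Mx ι F) = C.blk a 0 0 b := rfl

theorem χ_inj {a b a' b' : GL (Fin n) F} (h : C.χ (a, b) = C.χ (a', b')) : a = a' ∧ b = b' := by
  obtain ⟨h1, -, -, h4⟩ := C.blk_inj.1 (congrArg Units.val h)
  exact ⟨Units.ext h1, Units.ext h4⟩

theorem χ_x : C.χ (1, -1) = S.e x := Units.ext (by rw [χ_val]; simpa using C.blk_x)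

theorem χ_neg (a b : GL (Fin n) F) : C.χ (-a, -b) = -C.χ (a, b) :=
  Units.ext (by simp [χ_val, blk_neg])

theorem χ_mulVec (a b : GL (Fin n) F) (v : Fin n ⊕ Fin n → F) :
    (C.χ (a, b) : Mx ι F) *ᵥ C.q v =
      C.q (Sum.elim ((a : Mx (Fin n) F) *ᵥ (v ∘ Sum.inl)) ((b : Mx (Fin n) F) *ᵥ (v ∘ Sum.inr))) := by
  rw [χ_val, blk, φ_mulVec, Matrix.fromBlocks_mulVec]
  simp

theorem χ_mem_iff {a b : GL (Fin n) F} : C.χ (a, b) ∈ iso Q₀ ↔ a ∈ iso C.Qh ∧ b ∈ iso C.Qh := by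
  simp only [mem_iso]
  refine ⟨fun h => ⟨fun u => ?_, fun u => ?_⟩, fun ⟨ha, hb⟩ u => ?_⟩
  · have := h (C.q (Sum.elim u 0))
    rw [χ_mulVec, C.form_q, C.form_q] at this
    simpa using this
  · have := h (C.q (Sum.elim 0 u))
    rw [χ_mulVec, C.form_q, C.form_q] at this
    simpa using this
  · obtain ⟨u, rfl⟩ := C.q.surjective u
    rw [χ_mulVec, C.form_q, C.form_q, Sum.elim_comp_inl, Sum.elim_comp_inr, ha, hb]

theorem exists_χ {g : GL ι F} (h : g * S.e x = S.e x * g) : ∃ a b, g = C.χ (a, b) := by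
  obtain ⟨a, b, c, d, e⟩ := C.exists_blk (g : Mx ι F)
  have h' := congrArg Units.val h
  rw [Units.val_mul, Units.val_mul] at h'
  change (g : Mx ι F) * S.E x = S.E x * g at h'
  rw [← C.blk_x, e, blk_mul, blk_mul, blk_inj] at h'
  simp only [mul_zero, zero_mul, mul_one, one_mul, mul_neg, neg_mul, add_zero, zero_add] at h'
  have hz : ∀ M : Mx (Fin n) F, M = -M → M = 0 := fun M hM => by
    have : (2 : F) • M = 0 := by rw [two_smul]; nth_rw 1 [hM]; exact neg_add_cancel M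
    exact (smul_eq_zero.1 this).resolve_left S.two
  obtain rfl := hz b h'.2.1.symm
  obtain rfl := hz c h'.2.2.1
  obtain ⟨a', b', c', d', e'⟩ := C.exists_blk ((g⁻¹ : GL ι F) : Mx ι F)
  have h1 := Units.mul_inv g
  rw [e, e', blk_mul, ← C.blk_one, blk_inj] at h1
  have h2 := Units.inv_mul g
  rw [e, e', blk_mul, ← C.blk_one, blk_inj] at h2
  simp only [zero_mul, mul_zero, add_zero, zero_add] at h1 h2
  exact ⟨⟨a, a', h1.1, h2.1⟩, ⟨d, d', h1.2.2.2, h2.2.2.2⟩, Units.ext e⟩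

theorem y_swap (a b : GL (Fin n) F) : S.e y * C.χ (a, b) = C.χ (b, a) * S.e y := by
  refine Units.ext ?_
  rw [Units.val_mul, Units.val_mul, χ_val, χ_val]
  show S.E y * _ = _ * S.E y
  rw [← C.blk_y, blk_mul, blk_mul, blk_inj]
  simp

/-- What commutes with both involutions repeats one block. -/
theorem exists_χ_self {g : GL ι F} (hx : g * S.e x = S.e x * g) (hy : g * S.e y = S.e y * g) :
    ∃ a, g = C.χ (a, a) := by
  obtain ⟨a, b, rfl⟩ := C.exists_χ hx
  rw [C.y_swap, mul_left_inj] at hy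
  obtain ⟨rfl, -⟩ := C.χ_inj hy
  exact ⟨a, rfl⟩

end Chart

end CfsgLib.Geo.PauliPlus
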