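import Cfsg.Agent.Geo.PauliPlus.Space
import Mathlib.GroupTheory.Transfer
import Mathlib.GroupTheory.Nilpotent

/-!
A finite group with a self-normalising elementary abelian subgroup carrying a quadratic space, in which the
centraliser of every anisotropic plane lies in the subgroup, is that subgroup.
-/

set_option autoImplicit false
set_option linter.unusedSectionVars false
set_option linter.style.haveILetI false

namespace CfsgLib.Geo.PauliPlus.Quad

open Module

variable {V : Type*} [AddCommGroup V] [Module (ZMod 2) V] [Finite V] (S : Quad V)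
  {G : Type*} [Group G] [Finite G]

theorem eq_top_of_selfnorm (hk : 3 ≤ S.k) (W : Subgroup G) (f : V → G) (hf : ∀ w, w ∈ W ↔ ∃ v, w = f v)
    (hadd : ∀ a b, f (a + b) = f a * f b) (hnorm : Subgroup.normalizer (W : Set G) ≤ W)
    (hpair : ∀ g z t, S.Q z = 1 → S.Q t = 1 → S.B z t = 1 → g * f z = f z * g → g * f t = f t * g → g ∈ W) :
    W = ⊤ := by
  have hfW : ∀ v, f v ∈ W := fun v => (hf _).2 ⟨v, rfl⟩
  have hzero : f 0 = 1 := by
    have h := hadd 0 0
    rw [add_zero] at h
    exact mul_eq_left.1 h.symm
  have hsq : ∀ v, f v * f v = 1 := fun v => by rw [← hadd, torsion, hzero]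
  have hcomm : ∀ a b, f a * f b = f b * f a := fun a b => by rw [← hadd, ← hadd, add_comm]
  have hp : IsPGroup 2 W := fun w => ⟨1, by
    obtain ⟨v, hv⟩ := (hf _).1 w.2
    refine Subtype.ext ?_
    simp [pow_two, hv, hsq]⟩
  haveI : Fact (Nat.Prime 2) := ⟨Nat.prime_two⟩
  obtain ⟨P, hP⟩ := hp.exists_le_sylow
  have hPW : (P : Subgroup G) = W := by
    refine le_antisymm ?_ hP
    by_contra hne
    haveI : Group.IsNilpotent (P : Subgroup G) := P.2.isNilpotent
    have hlt : W.subgroupOf (P : Subgroup G) < ⊤ :=
      lt_top_iff_ne_top.2 fun e => hne (Subgroup.subgroupOf_eq_top.1 e)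
    obtain ⟨x, hx, hxW⟩ := SetLike.exists_of_lt (Group.normalizerCondition_of_isNilpotent _ hlt)
    refine hxW (hnorm (Subgroup.mem_normalizer_iff.2 fun y => ?_))
    constructor
    · intro hy
      exact (Subgroup.mem_normalizer_iff.1 hx ⟨y, hP hy⟩).1 hy
    · intro hy
      have hy' : y ∈ (P : Subgroup G) := by
        have := mul_mem (mul_mem (inv_mem x.2) (hP hy)) x.2
        simpa [mul_assoc] using this
      exact (Subgroup.mem_normalizer_iff.1 hx ⟨y, hy'⟩).2 hy
  have hcent : Subgroup.normalizer ((P : Subgroup G) : Set G) ≤ Subgroup.centralizer ((P : Subgroup G) : Set G) := by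
    rw [hPW]
    intro x hx
    obtain ⟨a, rfl⟩ := (hf _).1 (hnorm hx)
    refine Subgroup.mem_centralizer_iff.2 fun y hy => ?_
    obtain ⟨b, rfl⟩ := (hf _).1 hy
    exact hcomm b a
  have hcompl := MonoidHom.ker_transferSylow_isComplement' P hcent
  set O := (MonoidHom.transferSylow P hcent).ker
  have hO2 : ¬ 2 ∣ Nat.card O := by
    rw [← hcompl.index_eq_card]
    exact P.not_dvd_index
  haveI : O.Normal := inferInstance
  have hkey : ∀ (d : ℕ) (U : Submodule (ZMod 2) V), 2 * S.k ≤ finrank (ZMod 2) U + d →
      ∀ o ∈ O, (∀ u ∈ U, o * f u = f u * o) → o = 1 := by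
    intro d
    induction d using Nat.strong_induction_on with
    | _ d ih =>
      intro U hU o ho hou
      by_cases h1 : 2 * S.k ≤ finrank (ZMod 2) U + 1
      · obtain ⟨y, hy⟩ : ∃ y, S.perp (Submodule.span (ZMod 2) {y}) ≤ U := by
          have h2 := S.finrank_perp U
          rcases eq_or_ne (S.perp U) ⊥ with e | e
          · refine ⟨0, fun x _ => ?_⟩
            rw [← S.perp_perp U, e]
            exact fun w hw => by rw [(Submodule.mem_bot _).1 hw, map_zero, LinearMap.zero_apply]
          · obtain ⟨y, hyU, hy0⟩ := Submodule.exists_mem_ne_zero_of_ne_bot e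
            refine ⟨y, le_of_eq ?_⟩
            have h3 : Submodule.span (ZMod 2) {y} = S.perp U :=
              Submodule.eq_of_le_of_finrank_le ((Submodule.span_singleton_le_iff_mem _ _).2 hyU)
                (by rw [finrank_span_singleton hy0]; omega)
            rw [h3, S.perp_perp]
        obtain ⟨z, t, hz, ht, hzt, hyz, hyt⟩ := S.exists_pair_hyper hk y
        have hm : ∀ x, S.B y x = 0 → x ∈ U := fun x hx => hy (S.mem_perp_span.2 fun w hw => by
          rw [Set.mem_singleton_iff.1 hw, hx])
        have hoW := hpair o z t hz ht hzt (hou z (hm z hyz)) (hou t (hm t hyt))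
        rw [← hPW] at hoW
        exact Subgroup.disjoint_def.1 hcompl.disjoint ho hoW
      · -- a fixed point free involution inverts
        have hinv : ∀ a, a ∉ U → ∀ o ∈ O, (∀ u ∈ U, o * f u = f u * o) → f a * o * f a = o⁻¹ := by
          intro a ha
          set C : Set G := {o | o ∈ O ∧ ∀ u ∈ U, o * f u = f u * o} with hC
          have hfix : ∀ x ∈ C, f a * x * f a = x → x = 1 := by
            intro x hx hxa
            have hlt : finrank (ZMod 2) U < finrank (ZMod 2) (U ⊔ Submodule.span (ZMod 2) {a} : Submodule (ZMod 2) V) :=
              Submodule.finrank_lt_finrank_of_lt (lt_of_le_of_ne le_sup_left fun e => ha (by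
                rw [e]; exact Submodule.mem_sup_right (Submodule.mem_span_singleton_self a)))
            refine ih (d - 1) (by omega) (U ⊔ Submodule.span (ZMod 2) {a}) (by omega) x hx.1 fun u hu => ?_
            obtain ⟨u', hu', w, hw, rfl⟩ := Submodule.mem_sup.1 hu
            obtain ⟨c, rfl⟩ := Submodule.mem_span_singleton.1 hw
            rcases bit c with rfl | rfl
            · rw [zero_smul, add_zero]; exact hx.2 u' hu'
            · have hax : x * f a = f a * x := by
                calc x * f a = f a * x * f a * f a := by rw [hxa]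
                  _ = f a * x * (f a * f a) := by group
                  _ = f a * x := by rw [hsq, mul_one]
              rw [one_smul, hadd, ← mul_assoc, hx.2 u' hu', mul_assoc, hax, ← mul_assoc]
          have hmul : ∀ x ∈ C, ∀ y ∈ C, x * y ∈ C := fun x hx y hy => ⟨O.mul_mem hx.1 hy.1, fun u hu => by
            rw [mul_assoc, hy.2 u hu, ← mul_assoc, hx.2 u hu, mul_assoc]⟩
          have hinvC : ∀ x ∈ C, x⁻¹ ∈ C := fun x hx => ⟨O.inv_mem hx.1, fun u hu =>
            (show Commute x (f u) from hx.2 u hu).inv_left.eq⟩
          have hfa : (f a)⁻¹ = f a := inv_eq_of_mul_eq_one_right (hsq a)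
          have hconj : ∀ x ∈ C, f a * x * f a ∈ C := fun x hx => ⟨by
              have := Subgroup.Normal.conj_mem inferInstance x hx.1 (f a)
              rwa [hfa] at this, fun u hu => by
              rw [show f a * x * f a * f u = f a * x * (f a * f u) by group, hcomm a u,
                show f a * x * (f u * f a) = f a * (x * f u) * f a by group, hx.2 u hu,
                show f a * (f u * x) * f a = f a * f u * x * f a by group, hcomm a u]
              group⟩
          have hmulconj : ∀ x y : G, f a * (x * y) * f a = f a * x * f a * (f a * y * f a) := fun x y => by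
            calc f a * (x * y) * f a = f a * x * (f a * f a) * y * f a := by rw [hsq]; group
              _ = _ := by group
          have hinvconj : ∀ x : G, f a * x⁻¹ * f a = (f a * x * f a)⁻¹ := fun x => by
            rw [mul_inv_rev, mul_inv_rev, hfa, mul_assoc]
          let φ : C → C := fun x => ⟨(x : G)⁻¹ * (f a * x * f a), hmul _ (hinvC _ x.2) _ (hconj _ x.2)⟩
          have hφ : Function.Surjective φ := Finite.surjective_of_injective fun x y e => by
            have e' : (x : G)⁻¹ * (f a * x * f a) = (y : G)⁻¹ * (f a * y * f a) := congrArg Subtype.val e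
            have h2 : f a * ((y : G) * (x : G)⁻¹) * f a = (y : G) * (x : G)⁻¹ := by
              rw [hmulconj, hinvconj]
              calc f a * y * f a * (f a * x * f a)⁻¹
                  = y * ((y : G)⁻¹ * (f a * y * f a)) * (f a * x * f a)⁻¹ := by group
                _ = _ := by rw [← e']; group
            exact Subtype.ext (mul_inv_eq_one.1 (hfix _ (hmul _ y.2 _ (hinvC _ x.2)) h2)).symm
          intro o ho hou
          obtain ⟨x, hx⟩ := hφ ⟨o, ho, hou⟩
          have hx' : (x : G)⁻¹ * (f a * x * f a) = o := congrArg Subtype.val hx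
          rw [← hx', hmulconj, hinvconj]
          rw [show f a * (f a * x * f a) * f a = (x : G) by
            calc f a * (f a * x * f a) * f a = (f a * f a) * x * (f a * f a) := by group
              _ = x := by rw [hsq, one_mul, mul_one]]
          group
        obtain ⟨a, ha⟩ : ∃ a, a ∉ U := by
          by_contra hno
          push Not at hno
          rw [show U = ⊤ from eq_top_iff.2 fun x _ => hno x, finrank_top, S.dim] at h1
          omega
        obtain ⟨b, hb⟩ : ∃ b, b ∉ U ⊔ Submodule.span (ZMod 2) {a} := by
          by_contra hno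
          push Not at hno
          have h2 := Submodule.finrank_add_le_finrank_add_finrank U (Submodule.span (ZMod 2) {a})
          have h3 : finrank (ZMod 2) (Submodule.span (ZMod 2) {a}) ≤ 1 :=
            (finrank_span_le_card ({a} : Set V)).trans (by simp)
          rw [show U ⊔ Submodule.span (ZMod 2) {a} = ⊤ from eq_top_iff.2 fun x _ => hno x, finrank_top, S.dim] at h2
          omega
        have hab : a + b ∉ U := fun h => hb (by
          rw [← add_cancel' a b]
          exact Submodule.add_mem _ (Submodule.mem_sup_right (Submodule.mem_span_singleton_self a))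
            (Submodule.mem_sup_left h))
        have e1 := hinv a ha o ho hou
        have e2 := hinv b (fun h => hb (Submodule.mem_sup_left h)) o ho hou
        have e3 := hinv (a + b) hab o ho hou
        have hoo : o * o = 1 := by
          rw [hadd] at e3
          nth_rw 2 [hcomm a b] at e3
          rw [show f a * f b * o * (f b * f a) = f a * (f b * o * f b) * f a by group, e2] at e3
          have e4 : f a * o⁻¹ * f a = o := by
            have hfa : (f a)⁻¹ = f a := inv_eq_of_mul_eq_one_right (hsq a)
            have := congrArg (·⁻¹) e1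
            simpa [mul_inv_rev, hfa, mul_assoc] using this
          rw [e4] at e3
          rw [mul_eq_one_iff_eq_inv]
          exact e3
        by_contra hne
        refine hO2 ?_
        have h2 : orderOf (⟨o, ho⟩ : O) = 2 := orderOf_eq_prime (by
          rw [pow_two]; exact Subtype.ext hoo) fun e => hne (congrArg Subtype.val e)
        exact h2 ▸ orderOf_dvd_natCard _
  have hO : O = ⊥ := (Subgroup.eq_bot_iff_forall _).2 fun o ho =>
    hkey (2 * S.k) ⊥ (by omega) o ho fun u hu => by rw [(Submodule.mem_bot _).1 hu, hzero, mul_one, one_mul]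
  rw [hO] at hcompl
  rw [← hPW]
  exact Subgroup.isComplement'_bot_left.1 hcompl

end CfsgLib.Geo.PauliPlus.Quad
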