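import Cfsg.Agent.Geo.PauliPlus.Main
import Cfsg.Agent.Geo.SpEight.Frame

/-!
A symplectic-type group of plus type with absolutely irreducible action inside an orthogonal group is the group of signed monomials of a
monomial system.
-/

set_option autoImplicit false
set_option linter.unusedSectionVars false
set_option linter.unusedSimpArgs false
set_option linter.style.haveILetI false

namespace CfsgLib.Geo.PauliPlus

open Matrix Module Cfsg.Geo QuadraticMap

universe u

variable {ι : Type} [Fintype ι] [DecidableEq ι] {F : Type u} [Field F] {Q₀ : QuadraticForm F (ι → F)}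

theorem sg_comm (β : ZMod 2) (a : GL ι F) : sg β * a = a * sg β := by
  rcases bit β with rfl | rfl <;> simp

theorem sg_add (α β : ZMod 2) : (sg (α + β) : GL ι F) = sg α * sg β := by
  rcases bit α with rfl | rfl <;> rcases bit β with rfl | rfl <;> simp [show (1 : ZMod 2) + 1 = 0 by decide]

theorem neg_ne_self (h2 : (2 : F) ≠ 0) (hm : Nonempty ι) (g : GL ι F) : g ≠ -g := fun h => by
  have h0 : (2 : F) • (g : Mx ι F) = 0 := by
    rw [two_smul]; nth_rw 1 [h]; rw [Units.val_neg, neg_add_cancel]
  haveI := hm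
  exact g.ne_zero ((smul_eq_zero.1 h0).resolve_left h2)

theorem sg_cancel (h2 : (2 : F) ≠ 0) (hm : Nonempty ι) {α β : ZMod 2} {a : GL ι F}
    (h : sg α * a = sg β * a) : α = β := by
  rcases bit α with rfl | rfl <;> rcases bit β with rfl | rfl
  · rfl
  · simp only [sg_zero, sg_one, one_mul, neg_one_mul] at h; exact absurd h (neg_ne_self h2 hm a)
  · simp only [sg_zero, sg_one, one_mul, neg_one_mul] at h; exact absurd h.symm (neg_ne_self h2 hm a)
  · rfl

theorem exists_sys [Fintype F] (hS : Std Q₀) (hm : Nonempty ι) (k : ℕ) {R : Subgroup (GL ι F)}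
    (hRs : IsSymplecticTypeGroup 2 R) (hRi : ActsAbsolutelyIrreducibly (matrixSet R))
    (hle : R ≤ iso Q₀) (hcard : Nat.card R = 2 ^ (1 + 2 * k)) (hRZ : Nat.card (Subgroup.center R) = 2)
    (hRm : IsOfPlusType k R) :
    ∃ (V : Type u) (_ : AddCommGroup V) (_ : Module (ZMod 2) V) (_ : Fintype V) (S : Sys Q₀ V),
      S.k = k ∧ S.Plus ∧ S.Rm = R := by
  classical
  have h2 := hS.two
  haveI := hm
  have h4 : ∀ x : R, x ^ 4 = 1 := fun x => by
    have h := Monoid.pow_exponent_eq_one x
    rwa [hRs.exponent_eq] at h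
  have hcomm := CfsgLib.Symp.comm_central_aux (Nat.card R) R rfl hRs.pGroup h4 hRs.cyclic_of_characteristic
  have hM : ∀ M : Mx ι F, (∀ g ∈ R, M * (g : Mx ι F) = g * M) → ∃ c : F, M = c • 1 := fun M h =>
    hRi.2 M (by rintro _ ⟨g, hg, rfl⟩; exact h g hg)
  have hcent : ∀ z : R, z ∈ Subgroup.center R → Pm (z : GL ι F) 1 := fun z hz => by
    obtain ⟨c, hc⟩ := hM (z : GL ι F) (fun g hg => by
      have := Subgroup.mem_center_iff.1 hz ⟨g, hg⟩
      exact (congrArg (fun u : R => ((u : GL ι F) : Mx ι F)) this).symm)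
    rcases smul_mem_iso hS (hle z.2) hc with rfl | rfl
    · exact Or.inl (Units.ext (by rw [hc, one_smul, Units.val_one]))
    · exact Or.inr (Units.ext (by rw [hc, neg_one_smul, Units.val_neg, Units.val_one]))
  have hneg : (-1 : GL ι F) ∈ R := by
    by_contra hno
    haveI : Finite R := Nat.finite_of_card_ne_zero (by rw [hcard]; positivity)
    have hle' : Nat.card (Subgroup.center R) ≤ 1 := by
      rw [Finite.card_le_one_iff_subsingleton]
      refine ⟨fun a b => ?_⟩
      have h1 : ∀ z : Subgroup.center R, ((z : R) : GL ι F) = 1 := fun z =>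
        (hcent z.1 z.2).resolve_right fun e => hno (e ▸ z.1.2)
      exact Subtype.ext (Subtype.ext ((h1 a).trans (h1 b).symm))
    omega
  have hZ : ∀ z : R, z ∈ Subgroup.center R ↔ Pm (z : GL ι F) 1 := fun z => by
    refine ⟨hcent z, fun h => Subgroup.mem_center_iff.2 fun g => Subtype.ext ?_⟩
    rcases h with e | e <;> simp [e]
  have hπ : ∀ a b : R, (QuotientGroup.mk' (Subgroup.center R)) a = QuotientGroup.mk' (Subgroup.center R) b ↔
      Pm (a : GL ι F) b := by
    intro a b
    rw [QuotientGroup.mk'_eq_mk']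
    constructor
    · rintro ⟨z, hz, rfl⟩
      have := (Pm.refl (a : GL ι F)).mul ((hZ z).1 hz)
      rw [mul_one, ← Subgroup.coe_mul] at this
      exact this.symm
    · intro h
      refine ⟨a⁻¹ * b, (hZ _).2 ?_, mul_inv_cancel_left a b⟩
      have := (Pm.refl (a : GL ι F)⁻¹).mul h.symm
      rwa [inv_mul_cancel] at this
  have hc2 : ∀ x ∈ R, ∀ y ∈ R, Pm (x * y) (y * x) := by
    intro x hx y hy
    obtain ⟨hz, -⟩ := hcomm ⟨x, hx⟩ ⟨y, hy⟩
    have h := hcent _ hz
    simp only [Subgroup.coe_mul, Subgroup.coe_inv] at h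
    have := h.mul (Pm.refl (y * x))
    rwa [show x * y * x⁻¹ * y⁻¹ * (y * x) = x * y by group, one_mul] at this
  have hsq : ∀ x ∈ R, Pm (x * x) 1 := fun x hx =>
    hcent ⟨x * x, R.mul_mem hx hx⟩ (Subgroup.mem_center_iff.2 fun g => Subtype.ext (by
      show (g : GL ι F) * (x * x) = x * x * g
      rcases hc2 g g.2 x hx with e | e
      · rw [← mul_assoc, e, mul_assoc, e, ← mul_assoc]
      · rw [← mul_assoc, e, neg_mul, mul_assoc, e, mul_neg, neg_neg, ← mul_assoc]))
  letI : CommGroup (R ⧸ Subgroup.center R) :=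
    { (inferInstance : Group (R ⧸ Subgroup.center R)) with
      mul_comm := fun a b => by
        obtain ⟨a, rfl⟩ := QuotientGroup.mk'_surjective _ a
        obtain ⟨b, rfl⟩ := QuotientGroup.mk'_surjective _ b
        rw [← map_mul, ← map_mul, hπ]
        exact hc2 a a.2 b b.2 }
  let V := Additive (R ⧸ Subgroup.center R)
  letI : AddCommGroup V := Additive.addCommGroup
  haveI : Finite R := Nat.finite_of_card_ne_zero (by rw [hcard]; positivity)
  haveI : Finite V := inferInstanceAs (Finite (R ⧸ Subgroup.center R))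
  have hzv : ∀ v : V, 2 • v = 0 := fun v => by
    obtain ⟨a, ha⟩ := QuotientGroup.mk'_surjective (Subgroup.center R) v.toMul
    apply Additive.toMul.injective
    rw [two_nsmul, toMul_add, ← ha, ← map_mul, toMul_zero,
      ← map_one (QuotientGroup.mk' (Subgroup.center R)), hπ]
    exact hsq a a.2
  letI : Module (ZMod 2) V := AddCommGroup.zmodModule hzv
  letI : Fintype V := Fintype.ofFinite V
  let rep : V → R := fun v =>
    if v = 0 then 1 else Function.surjInv (QuotientGroup.mk'_surjective (Subgroup.center R)) v.toMul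
  have hrep : ∀ v, QuotientGroup.mk' (Subgroup.center R) (rep v) = v.toMul := fun v => by
    by_cases h : v = 0
    · subst h; simp [rep]
    · simp only [rep, if_neg h, Function.surjInv_eq]
  let e : V → GL ι F := fun v => (rep v : GL ι F)
  have heR : ∀ v, e v ∈ R := fun v => (rep v).2
  have hex : ∀ g ∈ R, ∃ v, Pm g (e v) := fun g hg =>
    ⟨Additive.ofMul (QuotientGroup.mk' _ ⟨g, hg⟩), ((hπ ⟨g, hg⟩ (rep _)).1 (hrep _).symm)⟩
  have he_add : ∀ x y, Pm (e x * e y) (e (x + y)) := fun x y =>
    (hπ (rep x * rep y) (rep (x + y))).1 (by rw [map_mul, hrep, hrep, hrep, toMul_add])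
  have he_zero : e 0 = 1 := by simp [e, rep]
  have he_pm : ∀ x y, Pm (e x) (e y) → x = y := fun x y h => by
    have := (hπ (rep x) (rep y)).2 h
    rw [hrep, hrep] at this
    exact Additive.toMul.injective this
  have hsgn : ∀ a b : GL ι F, Pm a b → ∃ β, a = sg β * b := by
    rintro a b (h | h)
    · exact ⟨0, by rw [h, sg_zero, one_mul]⟩
    · exact ⟨1, by rw [h, sg_one, neg_one_mul]⟩
  choose β hβ using fun x y => hsgn _ _ (hc2 (e x) (heR x) (e y) (heR y))
  choose Q hQ using fun x => hsgn _ _ (hsq (e x) (heR x))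
  choose s hs using fun x y => hsgn _ _ (he_add x y).symm
  have hQ' : ∀ x, e x * e x = sg (Q x) := fun x => by rw [hQ x, mul_one]
  have hβu : ∀ x y γ, e x * e y = sg γ * (e y * e x) → β x y = γ := fun x y γ h =>
    sg_cancel h2 hm ((hβ x y).symm.trans h)
  have hβl : ∀ x x' y, β (x + x') y = β x y + β x' y := fun x x' y => hβu _ _ _ (by
    rw [hs x x', sg_add]
    calc sg (s x x') * (e x * e x') * e y = sg (s x x') * (e x * (e x' * e y)) := by group
      _ = sg (s x x') * (e x * (sg (β x' y) * (e y * e x'))) := by rw [hβ x' y]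
      _ = sg (s x x') * (sg (β x' y) * ((e x * e y) * e x')) := by
        rw [← mul_assoc (e x) (sg _), ← sg_comm]; group
      _ = sg (s x x') * (sg (β x' y) * (sg (β x y) * (e y * e x) * e x')) := by rw [hβ x y]
      _ = sg (β x y) * sg (β x' y) * (e y * (sg (s x x') * (e x * e x'))) := by
        rw [← mul_assoc (e y) (sg _), ← sg_comm (s x x') (e y)]
        rcases bit (s x x') with h | h <;> rcases bit (β x' y) with h' | h' <;>
          rcases bit (β x y) with h'' | h'' <;> simp [h, h', h'', mul_assoc])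
  have hβs : ∀ x y, β x y = β y x := fun x y => hβu _ _ _ (by
    rw [hβ y x, ← mul_assoc, ← sg_add, CharTwo.add_self_eq_zero, sg_zero, one_mul])
  have hβr : ∀ x y y', β x (y + y') = β x y + β x y' := fun x y y' => by
    rw [hβs, hβl, hβs y, hβs y']
  have hβ0 : ∀ y, β 0 y = 0 := fun y => hβu _ _ _ (by simp [he_zero])
  let B : LinearMap.BilinForm (ZMod 2) V := LinearMap.mk₂ (ZMod 2) β hβl
    (fun c x y => by
      rcases bit c with rfl | rfl
      · rw [zero_smul, hβ0, zero_smul]
      · rw [one_smul, one_smul])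
    hβr
    (fun c x y => by
      rcases bit c with rfl | rfl
      · rw [zero_smul, hβs, hβ0, zero_smul]
      · rw [one_smul, one_smul])
  have hB : ∀ x y, B x y = β x y := fun x y => rfl
  have halt : B.IsAlt := fun x => hβu _ _ _ (by rw [sg_zero, one_mul])
  have hnd : B.Nondegenerate := by
    have key : ∀ x, (∀ y, β x y = 0) → x = 0 := by
      intro x hx
      refine he_pm x 0 ?_
      rw [he_zero]
      refine hcent (rep x) (Subgroup.mem_center_iff.2 fun g => Subtype.ext ?_)
      show (g : GL ι F) * e x = e x * g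
      obtain ⟨y, hy⟩ := hex g g.2
      have h := hβ x y
      rw [hx, sg_zero, one_mul] at h
      rcases hy with e' | e' <;> simp [e', h]
    exact ⟨fun x hx => key x hx, fun x hx => key x fun y => by rw [hβs]; exact hx y⟩
  have hQadd : ∀ x y, Q (x + y) = Q x + Q y + B x y := by
    intro x y
    refine sg_cancel h2 hm (a := (1 : GL ι F)) ?_
    rw [mul_one, mul_one, ← hQ', hs x y, hB]
    have hee : e y * e x = sg (β x y) * (e x * e y) := by rw [hβs]; exact hβ y x
    calc sg (s x y) * (e x * e y) * (sg (s x y) * (e x * e y))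
        = e x * (e y * e x) * e y := by
          rcases bit (s x y) with h | h <;> simp [h, mul_assoc]
      _ = e x * (sg (β x y) * (e x * e y)) * e y := by rw [hee]
      _ = sg (β x y) * (e x * e x) * (e y * e y) := by
        rw [← mul_assoc (e x) (sg _), ← sg_comm]; group
      _ = sg (Q x + Q y + β x y) := by rw [hQ', hQ', ← sg_add, ← sg_add]; congr 1; abel
  have hVc : Nat.card V = 2 ^ (2 * k) := by
    have h := Subgroup.card_eq_card_quotient_mul_card_subgroup (Subgroup.center R)
    rw [hcard, hRZ, pow_add, pow_one, mul_comm] at h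
    exact (Nat.eq_of_mul_eq_mul_right (by norm_num) h).symm
  have hdim : finrank (ZMod 2) V = 2 * k := by
    refine Nat.pow_right_injective (le_refl 2) ?_
    have := Module.natCard_eq_pow_finrank (K := ZMod 2) (V := V)
    rw [Nat.card_zmod, hVc] at this
    exact this.symm
  have hplus : ∃ L : Submodule (ZMod 2) V, (∀ x ∈ L, Q x = 0) ∧ k ≤ finrank (ZMod 2) L := by
    obtain ⟨A, -, hA2, hAc⟩ := hRm
    let U : Submodule (ZMod 2) V :=
      { carrier := {x | ∃ a ∈ A, Pm (a : GL ι F) (e x)}
        zero_mem' := ⟨1, A.one_mem, Or.inl he_zero.symm⟩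
        add_mem' := by
          rintro x y ⟨a, ha, hax⟩ ⟨b, hb, hby⟩
          exact ⟨a * b, A.mul_mem ha hb, (hax.mul hby).trans (he_add x y)⟩
        smul_mem' := by
          rintro c x hx
          rcases bit c with rfl | rfl
          · rw [zero_smul]; exact ⟨1, A.one_mem, Or.inl he_zero.symm⟩
          · rwa [one_smul] }
    refine ⟨U, ?_, ?_⟩
    · rintro x ⟨a, ha, hax⟩
      refine sg_cancel h2 hm (a := (1 : GL ι F)) ?_
      have h := congrArg Subtype.val (hA2 a ha)
      simp only [Subgroup.coe_mul, Subgroup.coe_one] at h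
      rw [mul_one, mul_one, ← hQ', sg_zero, ← h]
      rcases hax with e' | e' <;> rw [e'] <;> simp
    · have hgx : ∀ a : A, ∃ x ∈ U, ∃ b : ZMod 2, ((a : R) : GL ι F) = sg b * e x := fun a => by
        obtain ⟨x, hx⟩ := hex _ (a : R).2
        refine ⟨x, ⟨a, a.2, hx⟩, ?_⟩
        rcases hx with e' | e'
        · exact ⟨0, by simp [e']⟩
        · exact ⟨1, by simp [e']⟩
      choose fx hfx fb hfb using hgx
      have hinj : Function.Injective fun a : A => ((⟨fx a, hfx a⟩ : U), fb a) := fun a b h => by
        simp only [Prod.mk.injEq, Subtype.mk.injEq] at h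
        refine Subtype.ext (Subtype.ext ?_)
        rw [hfb a, hfb b, h.1, h.2]
      have hle := Nat.card_le_card_of_injective _ hinj
      rw [Nat.card_prod, Module.natCard_eq_pow_finrank (K := ZMod 2) (V := U), Nat.card_zmod, hAc, ← pow_succ] at hle
      have := (Nat.pow_le_pow_iff_right (by norm_num : 1 < 2)).1 hle
      omega
  let S : Sys Q₀ V :=
    { k := k, B := B, Q := Q, alt := halt, nondeg := hnd, Q_add := hQadd, dim := hdim, e := e, std := hS, nonempty := hm, mem := fun x => hle (heR x), e_zero := he_zero, e_add := he_add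
      e_sq := hQ', e_comm := fun x y => hβ x y
      commutant := fun A hA => hM A fun g hg => by
        obtain ⟨v, hv⟩ := hex g hg
        rcases hv with e' | e' <;> simp [e', hA v] }
  refine ⟨V, inferInstance, inferInstance, inferInstance, S, rfl, hplus, le_antisymm ?_ fun g hg => hex g hg⟩
  rintro g ⟨x, hx⟩
  exact (mem_iff_of_pm hneg hx).2 (heR x)

end CfsgLib.Geo.PauliPlus
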