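import Cfsg.Agent.Geo.PauliPlus.Sys

/-!
Elements of the monomial normaliser inducing products of two transvections, inside the derived group, and the
transitivity they give.
-/

set_option autoImplicit false
set_option linter.unusedSectionVars false
set_option linter.unusedSimpArgs false

namespace CfsgLib.Geo.PauliPlus

open Matrix Module QuadraticMap
open CfsgLib.Geo.PauliEight (sgn sgn_zero sgn_one sgn_mul sgn_sq sgn_inj cj cj_mul cj_smul cj_comp cj_of_smul
  cj_eq_self cj_of_comm cj_eq_of_mul cj_inv_cj cj_cj_inv cj_coe)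

theorem pm_of_cj {ι : Type} [Fintype ι] [DecidableEq ι] {F : Type*} [Field F] {g a b : GL ι F} {c : F}
    (hc : c = 1 ∨ c = -1) (h : cj g (a : Mx ι F) = c • (b : Mx ι F)) : Pm (g * a * g⁻¹) b := by
  rw [cj_coe] at h
  rcases hc with rfl | rfl
  · exact Or.inl (Units.ext (by rw [h, one_smul]))
  · exact Or.inr (Units.ext (by rw [h, neg_one_smul, Units.val_neg]))

namespace Quad

variable {V : Type*} [AddCommGroup V] [Module (ZMod 2) V] [Finite V] (S : Quad V)

theorem B_tv (r x y : V) : S.B (S.tv r x) (S.tv r y) = S.B x y := by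
  simp only [tv, map_add, map_smul, LinearMap.add_apply, LinearMap.smul_apply, smul_eq_mul, S.B_self, mul_zero,
    add_zero, S.B_comm x r]
  rw [add_assoc, mul_comm (S.B r x), CharTwo.add_self_eq_zero, add_zero]

theorem tv_conj (r a x : V) : S.tv r (S.tv a (S.tv r x)) = S.tv (S.tv r a) x := by
  have h : S.B a (S.tv r x) = S.B (S.tv r a) x := by
    conv_rhs => rw [← S.tv_tv r x, S.B_tv]
  rcases bit (S.B a (S.tv r x)) with e | e
  · rw [S.tv_of_zero e, S.tv_tv, S.tv_of_zero (h ▸ e)]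
  · rw [S.tv_of_one e, S.tv_of_one (r := S.tv r a) (h ▸ e), S.tv_add, S.tv_tv]

theorem tv_cube {v w : V} (h : S.B v w = 1) (x : V) :
    S.tv w (S.tv v (S.tv w (S.tv v (S.tv w (S.tv v x))))) = x := by
  rw [S.tv_conj w v, S.tv_conj v w, S.tv_of_one ((S.B_comm w v).trans h), S.tv_of_one h, add_comm w v, S.tv_tv]

end Quad

namespace Sys

variable {ι : Type} [Fintype ι] [DecidableEq ι] {F : Type*} [Field F] {Q₀ : QuadraticForm F (ι → F)}
  {V : Type*} [AddCommGroup V] [Module (ZMod 2) V] [Fintype V] (S : Sys Q₀ V)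

/-- The unit `1 + r` for an element of square minus one. -/
noncomputable def onep (r : GL ι F) (hr : r * r = -1) (h2 : (2 : F) ≠ 0) : GL ι F :=
  ⟨1 + (r : Mx ι F), (2 : F)⁻¹ • (1 - (r : Mx ι F)), by
    have h := congrArg Units.val hr
    rw [Units.val_mul, Units.val_neg, Units.val_one] at h
    rw [mul_smul_comm, add_mul, one_mul, mul_sub, mul_one, h,
      show (1 : Mx ι F) - r + (r - -1) = (2 : F) • 1 by rw [two_smul]; abel, smul_smul, inv_mul_cancel₀ h2, one_smul],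
    by
    have h := congrArg Units.val hr
    rw [Units.val_mul, Units.val_neg, Units.val_one] at h
    rw [smul_mul_assoc, sub_mul, one_mul, mul_add, mul_one, h,
      show (1 : Mx ι F) + r - (r + -1) = (2 : F) • 1 by rw [two_smul]; abel, smul_smul, inv_mul_cancel₀ h2, one_smul]⟩

theorem onep_val {r : GL ι F} (hr : r * r = -1) (h2 : (2 : F) ≠ 0) :
    ((onep r hr h2 : GL ι F) : Mx ι F) = 1 + (r : Mx ι F) := rfl

theorem sq_of_pm {r : GL ι F} {v : V} (h : Pm r (S.e v)) (hv : S.Q v = 1) : r * r = -1 := by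
  rcases h with rfl | rfl <;> simp [S.e_sq, hv]

theorem onep_conj {r : GL ι F} {v : V} (h : Pm r (S.e v)) (hv : S.Q v = 1) (x : V) :
    Pm (onep r (S.sq_of_pm h hv) S.two * S.e x * (onep r (S.sq_of_pm h hv) S.two)⁻¹) (S.e (S.tv v x)) := by
  obtain ⟨γ, hγ, hr⟩ := h.smul_val
  have hEE : S.E v * S.E v = -1 := by rw [S.E_sq, hv, sgn_one, neg_one_smul]
  have hγγ : γ * γ = 1 := by rcases hγ with rfl | rfl <;> ring
  rcases bit (S.B v x) with hB | hB
  · rw [S.tv_of_zero hB]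
    refine pm_of_cj (c := 1) (Or.inl rfl) ?_
    rw [one_smul]
    refine cj_of_comm ?_
    rw [onep_val, hr, add_mul, mul_add, one_mul, mul_one, smul_mul_assoc, mul_smul_comm,
      S.E_comm v x, hB, sgn_zero, one_smul]
  · rw [S.tv_of_one hB]
    obtain ⟨c, hc, hcx⟩ := S.E_mul v x
    rw [add_comm v x] at hcx
    refine pm_of_cj (c := γ * c) (by rcases hγ with rfl | rfl <;> rcases hc with rfl | rfl <;> simp) ?_
    refine cj_eq_of_mul ?_
    have hvx : S.E v * S.E x = -(S.E x * S.E v) := by rw [S.E_comm v x, hB, sgn_one, neg_one_smul]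
    have e1 : S.E v * S.E x * S.E v = S.E x := by rw [hvx, neg_mul, mul_assoc, hEE, mul_neg, mul_one, neg_neg]
    rw [onep_val, hr, ← smul_smul, ← hcx, add_mul, one_mul, smul_mul_assoc, smul_mul_assoc, mul_add, mul_one,
      mul_smul_comm, e1, smul_add, smul_smul, hγγ, one_smul, add_comm]

theorem exists_gate [Finite F] {v w : V} (hv : S.Q v = 1) (hw : S.Q w = 1) :
    ∃ g ∈ S.NO, ∀ x, S.perm g x = S.tv w (S.tv v x) := by
  set a := onep (S.e w) (S.sq_of_pm (Pm.refl _) hw) S.two with ha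
  set b := onep (S.e v) (S.sq_of_pm (Pm.refl _) hv) S.two with hb
  let c : GL ι F := Units.map (algebraMap F (Mx ι F)).toMonoidHom (Units.mk0 (2 : F)⁻¹ (inv_ne_zero S.two))
  have hc : (c : Mx ι F) = (2 : F)⁻¹ • 1 := Algebra.algebraMap_eq_smul_one (2 : F)⁻¹
  have hconj : ∀ x, Pm (c * (a * b) * S.e x * (c * (a * b))⁻¹) (S.e (S.tv w (S.tv v x))) := by
    intro x
    have h1 : c * (a * b) * S.e x * (c * (a * b))⁻¹ = a * (b * S.e x * b⁻¹) * a⁻¹ := by
      refine Units.ext ?_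
      rw [← cj_coe, cj_of_smul (g := c * (a * b)) (h := a * b) (by rw [Units.val_mul, hc, smul_mul_assoc, one_mul]),
        cj_coe]
      congr 1
      group
    rw [h1]
    exact ((S.onep_conj (Pm.refl _) hv x).conj a).trans (S.onep_conj (Pm.refl _) hw _)
  have hT : ∀ {z : V}, S.Q z = 1 → ∀ y, Q₀ ((1 + S.E z) *ᵥ y) = (2 : F) * Q₀ y := by
    intro z hz y
    rw [Matrix.add_mulVec, Matrix.one_mulVec, QuadraticMap.map_add (⇑Q₀), mem_iso.1 (S.mem z), S.polar_E z hz,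
      add_zero, two_mul]
  have hiso : c * (a * b) ∈ iso Q₀ := mem_iso.2 fun y => by
    rw [Units.val_mul, hc, smul_mul_assoc, one_mul, Matrix.smul_mulVec, Units.val_mul, ha, hb, onep_val, onep_val,
      ← Matrix.mulVec_mulVec, QuadraticMap.map_smul, hT hw, hT hv, smul_eq_mul]
    field_simp [S.two]
  exact ⟨_, S.mem_NO_of hiso fun x => ⟨_, hconj x⟩, fun x => S.perm_eq (hconj x)⟩

/-- Products of two transvections are induced inside the derived group. -/
theorem exists_gateM [Finite F] (hk : 3 ≤ S.k) {v w : V} (hv : S.Q v = 1) (hw : S.Q w = 1) :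
    ∃ g ∈ S.Nm, ∀ x, S.perm g x = S.tv w (S.tv v x) := by
  have key : ∀ {v w : V}, S.Q v = 1 → S.Q w = 1 → S.B v w = 1 →
      ∃ g ∈ S.Nm, ∀ x, S.perm g x = S.tv w (S.tv v x) := by
    intro v w hv hw h
    obtain ⟨g, hg, hp⟩ := S.exists_gate hv hw
    have hgg := S.NO.mul_mem hg hg
    refine ⟨g * g * (g * g), S.Nm_mem_iff.2 ⟨S.NO.mul_mem hgg hgg, pow_four_mem S.std (S.NO_le hg)⟩, fun x => ?_⟩
    rw [S.perm_mul hgg hgg, S.perm_mul hg hg, S.perm_mul hg hg, hp, hp, hp, hp, S.tv_cube h]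
  rcases bit (S.B v w) with h | h
  swap
  · exact key hv hw h
  rcases eq_or_ne v w with rfl | hne
  · exact ⟨1, S.Nm.one_mem, fun x => by rw [S.perm_one, S.tv_tv]⟩
  obtain ⟨z₀, h1, h2⟩ := S.exists_B_two (S.ne_zero_of_Q hv) (S.ne_zero_of_Q hw)
  obtain ⟨z, hzQ, hz⟩ := S.find (l := [v, w]) (S.hasHyp_perp_lt (by simp; omega)) z₀ 1
  obtain ⟨g, hg, hgp⟩ := key hv hzQ ((hz v (by simp)).trans h1)
  obtain ⟨g', hg', hgp'⟩ := key hzQ hw ((S.B_comm z w).trans ((hz w (by simp)).trans h2))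
  exact ⟨g' * g, S.Nm.mul_mem hg' hg, fun x => by
    rw [S.perm_mul (S.Nm_le_NO hg') (S.Nm_le_NO hg), hgp, hgp', S.tv_tv]⟩

theorem neg_one_mem_om [Finite F] (hk : 1 ≤ S.k) : (-1 : GL ι F) ∈ om Q₀ := by
  obtain ⟨v, hv⟩ := S.exists_nonsing (by omega)
  have h := sq_mem S.std (S.mem v)
  rwa [S.e_sq, hv, sg_one] at h

/-- The monomials lie in the derived group. -/
theorem e_mem_om [Finite F] (hk : 3 ≤ S.k) (x : V) : S.e x ∈ om Q₀ := by
  have hneg := S.neg_one_mem_om (by omega)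
  have key : ∀ v, S.Q v = 1 → S.e v ∈ om Q₀ := by
    intro v hv
    obtain ⟨z₀, hz₀⟩ := S.exists_B_one (S.ne_zero_of_Q hv)
    obtain ⟨z, hzQ, hz⟩ := S.find (l := [v]) (S.hasHyp_perp_lt (by simp; omega)) z₀ 1
    have hvz : S.B v z = 1 := (hz v (by simp)).trans hz₀
    obtain ⟨y, hy1, hy0⟩ := S.exists_B_one_zero (S.ne_zero_of_Q hv) (S.ne_of_B hvz)
    obtain ⟨g, hg, hp⟩ := S.exists_gateM hk hzQ hv
    have h1 := comm_mem (S.NO_le (S.Nm_le_NO hg)) (S.mem y)
    have h2 : Pm (g * S.e y * g⁻¹ * (S.e y)⁻¹) (S.e v) := by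
      refine (((S.perm_spec (S.Nm_le_NO hg) y).mul (S.e_inv y)).trans (S.e_add _ _)).trans ?_
      rw [hp, S.tv_of_zero hy0, S.tv_of_one hy1, add_comm y v, Quad.add_add_self]
      exact Pm.refl _
    exact (mem_iff_of_pm hneg h2).1 h1
  have hx : x ∈ Submodule.span (ZMod 2) {v : V | S.Q v = 1} := (S.span_nonsing (by omega)).symm ▸ Submodule.mem_top
  induction hx using Submodule.span_induction with
  | mem v hv => exact key v hv
  | zero => rw [S.e_zero]; exact (om Q₀).one_mem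
  | add v w _ _ hv hw => exact (mem_iff_of_pm hneg (S.e_add v w)).1 ((om Q₀).mul_mem hv hw)
  | smul a v _ hv =>
    rcases bit a with rfl | rfl
    · rw [zero_smul, S.e_zero]; exact (om Q₀).one_mem
    · rwa [one_smul]

theorem e_mem_Nm [Finite F] (hk : 3 ≤ S.k) (x : V) : S.e x ∈ S.Nm :=
  S.Nm_mem_iff.2 ⟨S.e_mem_NO x, S.e_mem_om hk x⟩

theorem neg_one_mem_Nm [Finite F] (hk : 1 ≤ S.k) : (-1 : GL ι F) ∈ S.Nm :=
  S.Nm_mem_iff.2 ⟨S.neg_one_mem_NO, S.neg_one_mem_om hk⟩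

theorem Rm_le_Nm [Finite F] (hk : 3 ≤ S.k) : S.Rm ≤ S.Nm := by
  rintro g ⟨x, hx⟩
  exact (mem_iff_of_pm (S.neg_one_mem_Nm (by omega)) hx).2 (S.e_mem_Nm hk x)

theorem perm_e (z v : V) : S.perm (S.e z) v = v := S.perm_eq (Pm.of_sg (S.e_conj z v))

theorem perm_tv {c : GL ι F} (hc : c ∈ S.NO) (r v : V) :
    S.perm c (S.tv r v) = S.tv (S.perm c r) (S.perm c v) := by
  rcases bit (S.B r v) with h | h
  · rw [S.tv_of_zero h, S.tv_of_zero (by rw [S.B_perm hc, h])]
  · rw [S.tv_of_one h, S.tv_of_one (by rw [S.B_perm hc, h]), S.perm_add hc]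

theorem tv_swap {x y : V} (h : S.B x y = 1) : S.tv (x + y) x = y := by
  rw [S.tv_of_one (by rw [S.B_add, S.B_self, S.B_comm, h, zero_add]), Quad.add_cancel']

theorem Q_add_of_B {x y : V} (hxy : S.B x y = 1) (hQ : S.Q x = S.Q y) : S.Q (x + y) = 1 := by
  rw [S.Q_add, hQ, hxy]
  generalize S.Q y = a; revert a; decide

theorem move_of_B [Finite F] (hk : 3 ≤ S.k) {x y : V} (hxy : S.B x y = 1) (hQ : S.Q x = S.Q y) :
    ∃ h ∈ S.Nm, S.perm h x = y := by
  obtain ⟨s, hsQ, hs⟩ := S.find_perp (l := [y]) (S.hasHyp_perp_lt (by simp; omega)) 1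
  obtain ⟨g, hg, hgp⟩ := S.exists_gateM hk (S.Q_add_of_B hxy hQ) hsQ
  refine ⟨g, hg, ?_⟩
  rw [hgp, S.tv_swap hxy, S.tv_of_zero]
  rw [S.B_comm]
  exact hs y (by simp)

/-- The normaliser is transitive on nonzero vectors with one value of the form. -/
theorem move [Finite F] (hk : 3 ≤ S.k) {x y : V} (hx : x ≠ 0) (hy : y ≠ 0) (hQ : S.Q x = S.Q y) :
    ∃ h ∈ S.Nm, S.perm h x = y := by
  rcases eq_or_ne x y with rfl | hne
  · exact ⟨1, S.Nm.one_mem, S.perm_one x⟩
  rcases bit (S.B x y) with hB | hB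
  swap
  · exact S.move_of_B hk hB hQ
  obtain ⟨z₀, h1, h2⟩ := S.exists_B_two hx hy
  obtain ⟨z, hzQ, hz⟩ := S.find (l := [x, y]) (S.hasHyp_perp_lt (by simp; omega)) z₀ (S.Q x)
  obtain ⟨g, hg, e1⟩ := S.move_of_B hk (x := x) (y := z) ((hz x (by simp)).trans h1) hzQ.symm
  obtain ⟨g', hg', e2⟩ := S.move_of_B hk (x := z) (y := y)
    ((S.B_comm z y).trans ((hz y (by simp)).trans h2)) (hzQ.trans hQ)
  exact ⟨g' * g, S.Nm.mul_mem hg' hg, by rw [S.perm_mul (S.Nm_le_NO hg') (S.Nm_le_NO hg), e1, e2]⟩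

theorem moveU_of_B [Finite F] (hk : 3 ≤ S.k) {u x y : V} (hxy : S.B x y = 1) (hQ : S.Q x = S.Q y)
    (hu : S.B u x = S.B u y) : ∃ h ∈ S.Nm, S.perm h u = u ∧ S.perm h x = y := by
  obtain ⟨s, hsQ, hs⟩ := S.find_perp (l := [u, y]) (S.hasHyp_perp_lt (by simp; omega)) 1
  obtain ⟨g, hg, hgp⟩ := S.exists_gateM hk (S.Q_add_of_B hxy hQ) hsQ
  refine ⟨g, hg, ?_, ?_⟩
  · rw [hgp, S.tv_of_zero (r := x + y) (by
      rw [S.B_add, S.B_comm x u, S.B_comm y u, hu]; exact CharTwo.add_self_eq_zero _),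
      S.tv_of_zero (by rw [S.B_comm]; exact hs u (by simp))]
  · rw [hgp, S.tv_swap hxy, S.tv_of_zero (by rw [S.B_comm]; exact hs y (by simp))]

/-- The stabiliser of a nonsingular vector is transitive on the others with the same value and product. -/
theorem moveU [Finite F] (hk : 4 ≤ S.k) {u x y : V} (hu : S.Q u = 1) (hx : x ≠ 0) (hy : y ≠ 0) (hxu : x ≠ u)
    (hyu : y ≠ u) (hQ : S.Q x = S.Q y) (hB : S.B u x = S.B u y) :
    ∃ h ∈ S.Nm, S.perm h u = u ∧ S.perm h x = y := by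
  rcases eq_or_ne x y with rfl | hne
  · exact ⟨1, S.Nm.one_mem, S.perm_one u, S.perm_one x⟩
  rcases bit (S.B x y) with hxy | hxy
  swap
  · exact S.moveU_of_B (by omega) hxy hQ hB
  have hnu : u ∉ Quad.sp [x, y] := fun h => by
    rcases Quad.mem_sp_two h with e | e | e | e
    · exact S.ne_zero_of_Q hu e
    · exact hxu e.symm
    · exact hyu e.symm
    · have h2 : S.Q u = 0 := by
        rw [e, S.Q_add, hQ, hxy, add_zero]; exact CharTwo.add_self_eq_zero _
      rw [hu] at h2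
      exact one_ne_zero h2
  obtain ⟨d, hd, hdu⟩ : ∃ d, d ∈ S.perp (Quad.sp [x, y]) ∧ S.B u d = 1 := by
    by_contra hno
    push Not at hno
    exact hnu (S.perp_perp (Quad.sp [x, y]) ▸ fun w hw =>
      (bit _).resolve_right (by rw [S.B_comm]; exact hno w hw))
  obtain ⟨z₀, h1, h2⟩ := S.exists_B_two hx hy
  obtain ⟨z, hzQ, hz⟩ := S.find (l := [u, x, y]) (S.hasHyp_perp_lt (by simp; omega))
    (z₀ + (S.B u x + S.B u z₀) • d) (S.Q x)
  have hdx := S.mem_perp_sp.1 hd x (by simp)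
  have hdy := S.mem_perp_sp.1 hd y (by simp)
  have hux : S.B u z = S.B u x := by
    rw [hz u (by simp), S.B_add', map_smul, hdu, smul_eq_mul, mul_one]
    generalize S.B u z₀ = a, S.B u x = b; revert a b; decide
  obtain ⟨g, hg, g1, g2⟩ := S.moveU_of_B (u := u) (by omega) (x := x) (y := z)
    (by rw [hz x (by simp), S.B_add', h1, map_smul, hdx, smul_zero, add_zero]) hzQ.symm hux.symm
  obtain ⟨g', hg', g1', g2'⟩ := S.moveU_of_B (u := u) (by omega) (x := z) (y := y)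
    (by rw [S.B_comm, hz y (by simp), S.B_add', h2, map_smul, hdy, smul_zero, add_zero]) (hzQ.trans hQ)
    (hux.trans hB)
  exact ⟨g' * g, S.Nm.mul_mem hg' hg, by rw [S.perm_mul (S.Nm_le_NO hg') (S.Nm_le_NO hg), g1, g1'],
    by rw [S.perm_mul (S.Nm_le_NO hg') (S.Nm_le_NO hg), g2, g2']⟩

/-- Transitivity on pairs of nonsingular vectors with product one. -/
theorem move_pair [Finite F] (hk : 4 ≤ S.k) {u w a b : V} (hu : S.Q u = 1) (hw : S.Q w = 1) (huw : S.B u w = 1)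
    (ha : S.Q a = 1) (hb : S.Q b = 1) (hab : S.B a b = 1) :
    ∃ h ∈ S.Nm, S.perm h u = a ∧ S.perm h w = b := by
  obtain ⟨g, hg, g1⟩ := S.move (by omega) (S.ne_zero_of_Q hu) (S.ne_zero_of_Q ha) (hu.trans ha.symm)
  have hg' := S.Nm_le_NO hg
  have hB : S.B a (S.perm g w) = 1 := by rw [← g1, S.B_perm hg', huw]
  have hQ : S.Q (S.perm g w) = 1 := (S.Q_perm hg' w).trans hw
  obtain ⟨f, hf, f1, f2⟩ := S.moveU hk ha (S.ne_zero_of_Q hQ) (S.ne_zero_of_Q hb) (S.ne_of_B hB).symm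
    (S.ne_of_B hab).symm (hQ.trans hb.symm) (hB.trans hab.symm)
  exact ⟨f * g, S.Nm.mul_mem hf hg, by rw [S.perm_mul (S.Nm_le_NO hf) hg', g1, f1],
    by rw [S.perm_mul (S.Nm_le_NO hf) hg', f2]⟩

/-- Elements fixing two anticommuting monomials up to sign commute with them up to a monomial factor. -/
theorem exists_adjust {c : GL ι F} {z t : V} (hzt : S.B z t = 1) (hz : Pm (c * S.e z * c⁻¹) (S.e z))
    (ht : Pm (c * S.e t * c⁻¹) (S.e t)) :
    ∃ r, S.e r * c * S.e z = S.e z * (S.e r * c) ∧ S.e r * c * S.e t = S.e t * (S.e r * c) := by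
  have htz : S.B t z = 1 := (S.B_comm t z).trans hzt
  rcases hz with h1 | h1 <;> rcases ht with h2 | h2 <;> rw [mul_inv_eq_iff_eq_mul] at h1 h2
  · exact ⟨0, by rw [S.e_zero, one_mul, h1], by rw [S.e_zero, one_mul, h2]⟩
  · refine ⟨z, by rw [mul_assoc, h1], ?_⟩
    rw [mul_assoc, h2, neg_mul, mul_neg, ← mul_assoc, S.e_anti hzt, neg_mul, neg_neg, mul_assoc]
  · refine ⟨t, ?_, by rw [mul_assoc, h2]⟩
    rw [mul_assoc, h1, neg_mul, mul_neg, ← mul_assoc, S.e_anti htz, neg_mul, neg_neg, mul_assoc]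
  · refine ⟨z + t, ?_, ?_⟩
    · have h3 : S.e (z + t) * S.e z = -(S.e z * S.e (z + t)) := S.e_anti (by rw [S.B_add, S.B_self, htz, zero_add])
      rw [mul_assoc, h1, neg_mul, mul_neg, ← mul_assoc, h3, neg_mul, neg_neg, mul_assoc]
    · have h3 : S.e (z + t) * S.e t = -(S.e t * S.e (z + t)) := S.e_anti (by rw [S.B_add, S.B_self, hzt, add_zero])
      rw [mul_assoc, h2, neg_mul, mul_neg, ← mul_assoc, h3, neg_mul, neg_neg, mul_assoc]

/-- An element of two-coordinate shape whose square is scalar is a monomial. -/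
theorem mem_Rm_of_pq {u r : V} (hu : S.Q u = 1) (hr : S.B u r = 0) {g : GL ι F} (hg : g ∈ iso Q₀)
    {p q : F} (h : (g : Mx ι F) = (p • 1 + q • S.E u) * S.E r) (hsq : Pm (g * g) 1) : g ∈ S.Rm := by
  classical
  set l := g * (S.e r)⁻¹ with hl
  have hlv : (l : Mx ι F) = p • 1 + q • S.E u := by
    rw [hl, Units.val_mul, h, mul_assoc, Units.mul_inv, mul_one]
  have hn := S.pq_norm hu ((iso Q₀).mul_mem hg ((iso Q₀).inv_mem (S.mem r))) hlv
  have hcomm : S.E r * (p • 1 + q • S.E u) = (p • 1 + q • S.E u) * S.E r := by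
    rw [mul_add, add_mul, mul_smul_comm, smul_mul_assoc, mul_one, one_mul, mul_smul_comm, smul_mul_assoc,
      S.E_comm r u, S.B_comm, hr, sgn_zero, one_smul]
  obtain ⟨c, hc, hc'⟩ := hsq.smul_val
  rw [Units.val_mul, h, Units.val_one] at hc'
  have e1 : (p • 1 + q • S.E u) * S.E r * ((p • 1 + q • S.E u) * S.E r) =
      sgn F (S.Q r) • ((p * p - q * q) • 1 + (2 * (p * q)) • S.E u) := by
    rw [mul_assoc, ← mul_assoc (S.E r), hcomm, mul_assoc, S.E_sq, mul_smul_comm, mul_smul_comm, mul_one]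
    congr 1
    simp only [add_mul, mul_add, smul_mul_assoc, mul_smul_comm, one_mul, mul_one, smul_smul, S.E_sq, hu, sgn_one]
    match_scalars <;> ring
  rw [e1] at hc'
  have hc2 := congrArg (sgn F (S.Q r) • ·) hc'
  simp only [smul_smul, sgn_sq, one_smul] at hc2
  have h2 := S.pq_inj hu (p' := sgn F (S.Q r) * c) (q' := 0) (hc2.trans (by rw [zero_smul, add_zero]))
  rcases mul_eq_zero.1 ((mul_eq_zero.1 h2.2).resolve_left S.two) with rfl | rfl
  · rw [zero_mul, zero_add] at hn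
    refine ⟨u + r, Pm.trans ?_ (S.e_add u r)⟩
    rcases mul_self_eq_one_iff.1 hn with rfl | rfl
    · exact Or.inl (Units.ext (by rw [h, zero_smul, zero_add, one_smul, Units.val_mul]))
    · exact Or.inr (Units.ext (by rw [h, zero_smul, zero_add, neg_one_smul, neg_mul, Units.val_neg, Units.val_mul]))
  · rw [mul_zero, add_zero] at hn
    refine ⟨r, ?_⟩
    rcases mul_self_eq_one_iff.1 hn with rfl | rfl
    · exact Or.inl (Units.ext (by rw [h, zero_smul, add_zero, one_smul, one_mul]))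
    · exact Or.inr (Units.ext (by rw [h, zero_smul, add_zero, neg_one_smul, neg_mul, one_mul, Units.val_neg]))

end Sys

end CfsgLib.Geo.PauliPlus
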