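import Cfsg.Agent.Geo.PauliPlus.Chart

/-!
The monomial system of one half of an orthogonal monomial system.
-/

set_option autoImplicit false
set_option linter.unusedSectionVars false
set_option linter.unusedSimpArgs false
set_option linter.style.haveILetI false

namespace CfsgLib.Geo.PauliPlus

open Matrix Module QuadraticMap
open CfsgLib.Geo.PauliEight (sgn sgn_zero sgn_one)
open scoped commutatorElement

variable {ι : Type} [Fintype ι] [DecidableEq ι] {F : Type*} [Field F] {Q₀ : QuadraticForm F (ι → F)}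
  {V : Type*} [AddCommGroup V] [Module (ZMod 2) V] [Fintype V]

namespace Sys

variable (S : Sys Q₀ V)

/-- An element carrying generators of the vector space to monomials normalises. -/
theorem mem_NO_of_set [Finite F] {g : GL ι F} (hg : g ∈ iso Q₀) (T : Set V)
    (hT : Submodule.span (ZMod 2) T = ⊤) (h : ∀ x ∈ T, g * S.e x * g⁻¹ ∈ S.Rm) : g ∈ S.NO := by
  refine S.mem_NO_of hg fun x => ?_
  have hx : x ∈ Submodule.span (ZMod 2) T := hT ▸ Submodule.mem_top
  show g * S.e x * g⁻¹ ∈ S.Rm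
  clear hT
  induction hx using Submodule.span_induction with
  | mem v hv => exact h v hv
  | zero => rw [S.e_zero, mul_one, mul_inv_cancel]; exact S.Rm.one_mem
  | add v w _ _ hv hw =>
    refine (mem_iff_of_pm S.neg_one_mem ((S.e_add v w).symm.conj g)).2 ?_
    rw [show g * (S.e v * S.e w) * g⁻¹ = g * S.e v * g⁻¹ * (g * S.e w * g⁻¹) by group]
    exact S.Rm.mul_mem hv hw
  | smul a v _ hv =>
    rcases bit a with rfl | rfl
    · rw [zero_smul, S.e_zero, mul_one, mul_inv_cancel]; exact S.Rm.one_mem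
    · rwa [one_smul]

end Sys

namespace Chart

variable {S : Sys Q₀ V} {x y : V} {n : ℕ} (C : Chart S x y n)

/-- The vectors orthogonal to both involutions. -/
abbrev W (_C : Chart S x y n) : Submodule (ZMod 2) V := S.perp (Submodule.span (ZMod 2) ({x, y} : Set V))

theorem mem_W {z : V} : z ∈ C.W ↔ S.B x z = 0 ∧ S.B y z = 0 := S.mem_perp_pair

theorem exists_diag (z : C.W) : ∃ a, S.e z = C.χ (a, a) := by
  obtain ⟨h1, h2⟩ := C.mem_W.1 z.2
  exact C.exists_χ_self (S.e_comm' h1).symm (S.e_comm' h2).symm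

noncomputable instance instFintypeW : Fintype C.W := Fintype.ofFinite _

/-- The block of a monomial orthogonal to both involutions. -/
noncomputable def e₀ (z : C.W) : GL (Fin n) F := (C.exists_diag z).choose

theorem e₀_spec (z : C.W) : S.e z = C.χ (C.e₀ z, C.e₀ z) := (C.exists_diag z).choose_spec

theorem e₀_unique {z : C.W} {a : GL (Fin n) F} (h : S.e z = C.χ (a, a)) : C.e₀ z = a :=
  (C.χ_inj ((C.e₀_spec z).symm.trans h)).1

theorem χ_sg (b : ZMod 2) : C.χ (sg b, sg b) = sg b := by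
  rcases bit b with rfl | rfl
  · simp only [sg_zero]; exact map_one C.χ
  · rw [sg_one, C.χ_neg, show ((1 : GL (Fin n) F), (1 : GL (Fin n) F)) = 1 from rfl, map_one, sg_one]

theorem pm_diag {a b : GL (Fin n) F} : Pm (C.χ (a, a)) (C.χ (b, b)) ↔ Pm a b := by
  constructor
  · rintro (h | h)
    · exact Or.inl (C.χ_inj h).1
    · rw [← C.χ_neg] at h
      exact Or.inr (C.χ_inj h).1
  · rintro (rfl | rfl)
    · exact Or.inl rfl
    · exact Or.inr (C.χ_neg b b)

include C in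
theorem card_pos : 0 < n := by
  by_contra h
  obtain rfl : n = 0 := by omega
  have h1 := C.q.finrank_eq
  rw [Module.finrank_fintype_fun_eq_card, Module.finrank_fintype_fun_eq_card] at h1
  haveI := S.nonempty
  have := Fintype.card_pos (α := ι)
  simp at h1
  omega

variable (hxy : S.B x y = 1)
include hxy

theorem decomp (v : V) : v + S.B y v • x + S.B x v • y ∈ C.W := by
  have hyx : S.B y x = 1 := (S.B_comm y x).trans hxy
  refine C.mem_W.2 ⟨?_, ?_⟩
  · simp only [map_add, map_smul, S.B_self, hxy, smul_eq_mul, mul_zero, mul_one, add_zero]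
    exact CharTwo.add_self_eq_zero _
  · simp only [map_add, map_smul, S.B_self, hyx, smul_eq_mul, mul_zero, mul_one, add_zero]
    exact CharTwo.add_self_eq_zero _

theorem span_top : Submodule.span (ZMod 2) ((C.W : Set V) ∪ {x, y}) = ⊤ := by
  refine Submodule.eq_top_iff'.2 fun v => ?_
  have h := C.decomp hxy v
  have e : v = v + S.B y v • x + S.B x v • y + (S.B y v • x + S.B x v • y) := by
    rw [add_assoc v, add_assoc, Quad.torsion, add_zero]
  rw [e]
  exact Submodule.add_mem _ (Submodule.subset_span (Or.inl h)) (Submodule.add_mem _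
    (Submodule.smul_mem _ _ (Submodule.subset_span (Or.inr (by simp))))
    (Submodule.smul_mem _ _ (Submodule.subset_span (Or.inr (by simp)))))

theorem finrank_W : finrank (ZMod 2) C.W + 2 = 2 * S.k := by
  show finrank (ZMod 2) (S.perp (Submodule.span (ZMod 2) ({x, y} : Set V))) + 2 = 2 * S.k
  have h1 := S.finrank_perp (Submodule.span (ZMod 2) ({x, y} : Set V))
  have h2 := Quad.finrank_span_le_two x y
  have hx0 : x ≠ 0 := S.ne_zero_of_B hxy
  have h3 : Submodule.span (ZMod 2) {x} < Submodule.span (ZMod 2) ({x, y} : Set V) := by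
    refine lt_of_le_of_ne (Submodule.span_mono (by simp)) fun e => ?_
    have hy : y ∈ Submodule.span (ZMod 2) {x} := e ▸ Submodule.subset_span (by simp)
    obtain ⟨a, rfl⟩ := Submodule.mem_span_singleton.1 hy
    rw [map_smul, S.B_self, smul_zero] at hxy
    exact zero_ne_one hxy
  have h4 := Submodule.finrank_lt_finrank_of_lt h3
  rw [finrank_span_singleton hx0] at h4
  omega

/-- The monomial system of one half. -/
noncomputable def sub (hQx : S.Q x = 0) (hk : 2 ≤ S.k) : Sys C.Qh C.W where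
  k := S.k - 1
  B := S.B.compl₁₂ C.W.subtype C.W.subtype
  Q z := S.Q z
  alt z := S.B_self (z : V)
  nondeg := by
    have key : ∀ z : C.W, (∀ w : C.W, S.B (z : V) w = 0) → z = 0 := by
      intro z hz
      refine Subtype.ext (S.nondeg.1 _ fun v => ?_)
      have h := hz ⟨_, C.decomp hxy v⟩
      obtain ⟨h1, h2⟩ := C.mem_W.1 z.2
      simpa only [map_add, map_smul, S.B_comm (z : V) x, S.B_comm (z : V) y, h1, h2, smul_zero, add_zero] using h
    exact ⟨key, fun z hz => key z fun w => (S.B_comm _ _).trans (hz w)⟩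
  Q_add a b := S.Q_add _ _
  dim := by have := C.finrank_W hxy; omega
  e := C.e₀
  std := C.std
  nonempty := ⟨⟨0, C.card_pos⟩⟩
  mem z := (C.χ_mem_iff.1 (C.e₀_spec z ▸ S.mem z)).1
  e_zero := C.e₀_unique (by
    show S.e 0 = _
    rw [S.e_zero]; exact (map_one C.χ).symm)
  e_add a b := C.pm_diag.1 (by
    rw [← C.e₀_spec (a + b), ← Prod.mk_mul_mk, map_mul, ← C.e₀_spec, ← C.e₀_spec]
    exact S.e_add _ _)
  e_sq a := by
    have h := S.e_sq (a : V)
    rw [C.e₀_spec, ← map_mul, ← C.χ_sg, Prod.mk_mul_mk] at h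
    exact (C.χ_inj h).1
  e_comm a b := by
    have h := S.e_comm (a : V) b
    rw [C.e₀_spec, C.e₀_spec, ← C.χ_sg, ← map_mul, ← map_mul, ← map_mul, Prod.mk_mul_mk, Prod.mk_mul_mk,
      Prod.mk_mul_mk] at h
    exact (C.χ_inj h).1
  commutant A hA := by
    have key : ∀ v, C.blk A 0 0 A * S.E v = S.E v * C.blk A 0 0 A := fun v => by
      have hv : v ∈ Submodule.span (ZMod 2) ((C.W : Set V) ∪ {x, y}) := (C.span_top hxy).symm ▸ Submodule.mem_top
      induction hv using Submodule.span_induction with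
      | mem v hv =>
        rcases hv with hv | hv | hv
        · show _ * (S.e v : Mx ι F) = (S.e v : Mx ι F) * _
          rw [show S.e v = _ from C.e₀_spec ⟨v, hv⟩, χ_val, blk_mul, blk_mul, blk_inj]
          have := hA ⟨v, hv⟩
          simp [this]
        · rw [show v = x from hv, ← C.blk_x, blk_mul, blk_mul, blk_inj]; simp
        · rw [show v = y from hv, ← C.blk_y, blk_mul, blk_mul, blk_inj]; simp
      | zero => rw [S.E_zero, mul_one, one_mul]
      | add v w _ _ hv hw =>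
        obtain ⟨c, hc, e⟩ := S.E_mul v w
        have hc0 : c ≠ 0 := by rcases hc with rfl | rfl <;> simp
        refine smul_right_injective _ hc0 ?_
        show c • (_ * S.E (v + w)) = c • (S.E (v + w) * _)
        rw [← mul_smul_comm, ← smul_mul_assoc, ← e, ← mul_assoc, hv, mul_assoc, hw, mul_assoc]
      | smul a v _ hv =>
        rcases bit a with rfl | rfl
        · rw [zero_smul, S.E_zero, mul_one, one_mul]
        · rwa [one_smul]
    obtain ⟨c, hc⟩ := S.commutant _ key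
    rw [← C.blk_one, blk_smul, blk_inj] at hc
    exact ⟨c, hc.1⟩

variable (hQx : S.Q x = 0) (hk : 2 ≤ S.k)

theorem diag_mem_Rm {d : GL (Fin n) F} (hd : d ∈ (C.sub hxy hQx hk).Rm) : C.χ (d, d) ∈ S.Rm := by
  obtain ⟨z, hz⟩ := hd
  exact ⟨z, (C.pm_diag.2 hz).trans (Or.inl (C.e₀_spec z).symm)⟩

theorem x_side_mem (b : ZMod 2) : C.χ (1, sg b) ∈ S.Rm := by
  rcases bit b with rfl | rfl
  · rw [sg_zero, show ((1 : GL (Fin n) F), (1 : GL (Fin n) F)) = 1 from rfl, map_one]; exact S.Rm.one_mem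
  · rw [sg_one, C.χ_x]; exact S.e_mem x

variable [Finite F]

theorem dg_self_NO {a : GL (Fin n) F} (ha : a ∈ (C.sub hxy hQx hk).NO) : C.χ (a, a) ∈ S.NO := by
  refine S.mem_NO_of_set (C.χ_mem_iff.2 ⟨ha.2, ha.2⟩) _ (C.span_top hxy) ?_
  rintro v (hv | hv | hv)
  · rw [show S.e v = _ from C.e₀_spec ⟨v, hv⟩, ← map_mul, ← map_inv, ← map_mul]
    exact C.diag_mem_Rm hxy hQx hk ((Subgroup.mem_normalizer_iff.1 ha.1 _).1 ((C.sub hxy hQx hk).e_mem _))
  · rw [show v = x from hv, ← C.χ_x, ← map_mul, ← map_inv, ← map_mul]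
    simp only [Prod.inv_mk, Prod.mk_mul_mk, mul_one, mul_neg, neg_mul, mul_inv_cancel]
    rw [C.χ_x]; exact S.e_mem x
  · rw [show v = y from hv, ← C.y_swap, mul_inv_cancel_right]
    exact S.e_mem y

theorem one_side_NO {c : GL (Fin n) F} (hc : c ∈ (C.sub hxy hQx hk).Rm) : C.χ (c, 1) ∈ S.NO := by
  obtain ⟨z, hz⟩ := hc
  have hs : c ∈ iso C.Qh := (C.sub hxy hQx hk).Rm_le ⟨z, hz⟩
  refine S.mem_NO_of_set (C.χ_mem_iff.2 ⟨hs, Subgroup.one_mem _⟩) _ (C.span_top hxy) ?_
  have hcd : C.χ (c, c) ∈ S.Rm := C.diag_mem_Rm hxy hQx hk ⟨z, hz⟩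
  rintro v (hv | hv | hv)
  · rw [show S.e v = _ from C.e₀_spec ⟨v, hv⟩, ← map_mul, ← map_inv, ← map_mul]
    simp only [Prod.inv_mk, Prod.mk_mul_mk, inv_one, one_mul, mul_one]
    have h : Pm (c * C.e₀ ⟨v, hv⟩ * c⁻¹) (C.e₀ ⟨v, hv⟩) :=
      (((hz.mul (Pm.refl _)).mul hz.inv)).trans (Pm.of_sg ((C.sub hxy hQx hk).e_conj z ⟨v, hv⟩))
    rcases h with h | h
    · rw [h, ← C.e₀_spec]; exact S.e_mem _
    · rw [h, show (-C.e₀ ⟨v, hv⟩, C.e₀ ⟨v, hv⟩) =
        ((C.e₀ ⟨v, hv⟩, C.e₀ ⟨v, hv⟩) * ((-1 : GL (Fin n) F), (1 : GL (Fin n) F))) by simp, map_mul, ← C.e₀_spec]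
      refine S.Rm.mul_mem (S.e_mem _) ?_
      rw [show ((-1 : GL (Fin n) F), (1 : GL (Fin n) F)) = (-1, -(-1)) by simp, C.χ_neg, C.χ_x, ← neg_one_mul]
      exact S.Rm.mul_mem S.neg_one_mem (S.e_mem _)
  · rw [show v = x from hv, ← C.χ_x, ← map_mul, ← map_inv, ← map_mul]
    simp only [Prod.inv_mk, Prod.mk_mul_mk, mul_one, mul_neg, neg_mul, mul_inv_cancel, one_mul, inv_one]
    rw [C.χ_x]; exact S.e_mem x
  · rw [show v = y from hv, mul_assoc, ← map_inv, C.y_swap, ← mul_assoc, ← map_mul]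
    simp only [Prod.inv_mk, Prod.mk_mul_mk, inv_one, mul_one, one_mul]
    refine S.Rm.mul_mem ?_ (S.e_mem y)
    have hcc : c⁻¹ = c * sg ((C.sub hxy hQx hk).Q z) := by
      refine inv_eq_of_mul_eq_one_right ?_
      rcases hz with rfl | rfl
      all_goals
        simp only [← mul_assoc, neg_mul_neg, (C.sub hxy hQx hk).e_sq]
        rcases bit ((C.sub hxy hQx hk).Q z) with e | e <;> simp [e]
    rw [hcc, show (c, c * sg ((C.sub hxy hQx hk).Q z)) = (c, c) * ((1 : GL (Fin n) F), sg ((C.sub hxy hQx hk).Q z)) by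
      simp, map_mul]
    exact S.Rm.mul_mem hcd (C.x_side_mem hxy _)

omit hxy in
/-- A pair of equal isometries of the halves lies in the derived group. -/
theorem dg_self_om {a : GL (Fin n) F} (ha : a ∈ iso C.Qh) : C.χ (a, a) ∈ om Q₀ := by
  have h1 : C.χ (a, 1) ∈ iso Q₀ := C.χ_mem_iff.2 ⟨ha, Subgroup.one_mem _⟩
  have h2 := comm_mem ((iso Q₀).inv_mem h1) (S.mem y)
  have h3 := (om Q₀).mul_mem (sq_mem S.std h1) h2
  convert h3 using 1
  rw [show C.χ (a, 1) * C.χ (a, 1) * ((C.χ (a, 1))⁻¹ * S.e y * (C.χ (a, 1))⁻¹⁻¹ * (S.e y)⁻¹) =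
    C.χ (a, 1) * (S.e y * C.χ (a, 1) * (S.e y)⁻¹) by group, C.y_swap, mul_inv_cancel_right, ← map_mul,
    Prod.mk_mul_mk, mul_one, one_mul]

theorem dg_self_Nm {a : GL (Fin n) F} (ha : a ∈ (C.sub hxy hQx hk).NO) : C.χ (a, a) ∈ S.Nm :=
  S.Nm_mem_iff.2 ⟨C.dg_self_NO hxy hQx hk ha, C.dg_self_om ((C.sub hxy hQx hk).NO_le ha)⟩

omit hxy in
theorem one_side_om {c : GL (Fin n) F} (hc : c ∈ om C.Qh) : C.χ (c, 1) ∈ om Q₀ := by
  rw [om_eq] at hc ⊢
  exact (Subgroup.commutator_le.2 (fun a ha b hb => by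
    show C.χ.comp (MonoidHom.inl _ _) (⁅a, b⁆) ∈ ⁅iso Q₀, iso Q₀⁆
    rw [map_commutatorElement]
    exact Subgroup.commutator_mem_commutator (C.χ_mem_iff.2 ⟨ha, Subgroup.one_mem _⟩)
      (C.χ_mem_iff.2 ⟨hb, Subgroup.one_mem _⟩)) :
    ⁅iso C.Qh, iso C.Qh⁆ ≤ (⁅iso Q₀, iso Q₀⁆).comap (C.χ.comp (MonoidHom.inl _ _))) hc

theorem one_side_Nm (hk₀ : 4 ≤ S.k) {c : GL (Fin n) F} (hc : c ∈ (C.sub hxy hQx hk).Rm) : C.χ (c, 1) ∈ S.Nm :=
  S.Nm_mem_iff.2 ⟨C.one_side_NO hxy hQx hk hc, C.one_side_om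
    ((C.sub hxy hQx hk).Nm_mem_iff.1 ((C.sub hxy hQx hk).Rm_le_Nm (show 3 ≤ S.k - 1 by omega) hc)).2⟩

end Chart

end CfsgLib.Geo.PauliPlus
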