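import Cfsg.Agent.Geo.PauliPlus.CentUMain

/-!
The monomial normaliser of plus type is maximal in the derived group of an orthogonal group.
-/

set_option autoImplicit false
set_option linter.unusedSectionVars false
set_option linter.unusedSimpArgs false
set_option linter.style.haveILetI false

namespace CfsgLib.Geo.PauliPlus

open Matrix Module QuadraticMap

variable {ι : Type} [Fintype ι] [DecidableEq ι] {F : Type*} [Field F] [Fintype F] {Q₀ : QuadraticForm F (ι → F)}
  {V : Type*} [AddCommGroup V] [Module (ZMod 2) V] [Fintype V]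

namespace Sys

variable (S : Sys Q₀ V)

/-- A fixer would give a space of maps that a minus form forbids. -/
theorem fixer_aux {Γ : Type*} [Group Γ] (hk : 2 ≤ S.k) (emb : V → Γ) (hjinj : Function.Injective emb)
    (hjadd : ∀ a b, emb (a + b) = emb a * emb b) (hjzero : emb 0 = 1) (H : Subgroup Γ)
    (hσ : ∀ g ∈ H, ∃ σ : V →ₗ[ZMod 2] V, (∀ x, g * emb x * g⁻¹ = emb (σ x)) ∧ ∀ x, S.Q (σ x) = S.Q x)
    (hself : ∀ g ∈ H, (∀ x, g * emb x * g⁻¹ = emb x) → ∃ x, g = emb x) (W E : Subgroup Γ)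
    (hWV : ∀ w ∈ W, ∃ x, w = emb x) (hEH : E ≤ H) (hW : W ≠ ⊥) (hEW : Nat.card E = Nat.card W)
    (hEV : ∀ e ∈ E, (∃ x, e = emb x) → e = 1) (hE2 : ∀ e ∈ E, e * e = 1)
    (hfix : ∀ e ∈ E, e ≠ 1 → ∀ x, (e * emb x = emb x * e ↔ emb x ∈ W)) : False := by
  classical
  choose σ hσ hσQ using fun e : E => hσ (e : Γ) (hEH e.2)
  have hσmul : ∀ (e f : E) (x : V), σ (e * f) x = σ e (σ f x) := fun e f x => hjinj (by
    rw [← hσ, ← hσ, ← hσ, Subgroup.coe_mul]; group)
  have hσone : ∀ x, σ 1 x = x := fun x => hjinj (by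
    rw [← hσ, Subgroup.coe_one, one_mul, inv_one, mul_one])
  let Ws : Submodule (ZMod 2) V :=
    { carrier := {a | emb a ∈ W}
      zero_mem' := show emb 0 ∈ W by rw [hjzero]; exact W.one_mem
      add_mem' := fun {a b} ha hb => show emb (a + b) ∈ W by rw [hjadd]; exact W.mul_mem ha hb
      smul_mem' := fun c a ha => by
        rcases bit c with rfl | rfl
        · show emb ((0 : ZMod 2) • a) ∈ W
          rw [zero_smul, hjzero]; exact W.one_mem
        · show emb ((1 : ZMod 2) • a) ∈ W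
          rw [one_smul]; exact ha }
  have hfixσ : ∀ (e : E), (e : Γ) ≠ 1 → ∀ x, σ e x = x ↔ x ∈ Ws := fun e he x => by
    show _ ↔ emb x ∈ W
    rw [← hfix e e.2 he x]
    constructor
    · intro h
      have := hσ e x
      rw [h, mul_inv_eq_iff_eq_mul] at this
      exact this
    · intro h
      refine hjinj ?_
      rw [← hσ, h, mul_inv_cancel_right]
  have hee : ∀ e : E, e * e = 1 := fun e => Subtype.ext (hE2 e e.2)
  let T : E → (V →ₗ[ZMod 2] V) := fun e => σ e + LinearMap.id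
  have hT : ∀ e x, T e x = σ e x + x := fun e x => rfl
  have hTW : ∀ e x, T e x ∈ Ws := fun e x => by
    by_cases he : (e : Γ) = 1
    · rw [show e = 1 from Subtype.ext he, hT, hσone, Quad.torsion]; exact Ws.zero_mem
    · refine (hfixσ e he _).1 ?_
      rw [hT, map_add, ← hσmul, hee, hσone, add_comm]
  have hfixW : ∀ (e : E) (w : V), w ∈ Ws → σ e w = w := fun e w hw => by
    by_cases he : (e : Γ) = 1
    · rw [show e = 1 from Subtype.ext he, hσone]
    · exact (hfixσ e he w).2 hw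
  have hTadd : ∀ e f, T (e * f) = T e + T f := fun e f => LinearMap.ext fun x => by
    show T (e * f) x = T e x + T f x
    rw [hT, hσmul]
    have h1 : σ f x = x + T f x := by rw [hT, add_comm (σ f x), Quad.add_cancel']
    rw [h1, map_add, hfixW e _ (hTW f x), hT e x]
    abel
  have hT1 : T 1 = 0 := LinearMap.ext fun x => by rw [hT, hσone, Quad.torsion]; rfl
  have hinj : Function.Injective T := by
    intro e f h
    have h0 : T (e * f) = 0 := by rw [hTadd, h, ← hTadd, hee, hT1]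
    have hef : ((e * f : E) : Γ) = 1 := by
      refine hEV _ (e * f).2 (hself _ (hEH (e * f).2) fun x => ?_)
      rw [hσ, Quad.eq_of_add_eq_zero (show σ (e * f) x + x = 0 by rw [← hT, h0]; rfl)]
    have h4 : e * f = 1 := Subtype.ext hef
    calc e = e * (f * f) := by rw [hee, mul_one]
      _ = f := by rw [← mul_assoc, h4, one_mul]
  let Es : Submodule (ZMod 2) (V →ₗ[ZMod 2] V) :=
    { carrier := Set.range T
      zero_mem' := ⟨1, hT1⟩
      add_mem' := by rintro _ _ ⟨e, rfl⟩ ⟨f, rfl⟩; exact ⟨e * f, hTadd e f⟩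
      smul_mem' := by
        rintro c _ ⟨e, rfl⟩
        rcases bit c with rfl | rfl
        · exact ⟨1, by rw [hT1, zero_smul]⟩
        · exact ⟨e, by rw [one_smul]⟩ }
  have hEs : Nat.card Es = Nat.card E := Nat.card_range_of_injective hinj
  have hWc : Nat.card Ws = Nat.card W := Nat.card_congr (Equiv.ofBijective
    (fun a : Ws => (⟨emb a.1, a.2⟩ : W)) ⟨fun a b h => Subtype.ext (hjinj (congrArg Subtype.val h)), fun w => by
      obtain ⟨x, hx⟩ := hWV _ w.2
      exact ⟨⟨x, show emb x ∈ W from hx ▸ w.2⟩, Subtype.ext hx.symm⟩⟩)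
  have hdim : finrank (ZMod 2) Es = finrank (ZMod 2) Ws := by
    refine Nat.pow_right_injective (le_refl 2) ?_
    have h1 := Module.natCard_eq_pow_finrank (K := ZMod 2) (V := Es)
    have h2 := Module.natCard_eq_pow_finrank (K := ZMod 2) (V := Ws)
    rw [Nat.card_zmod, hEs, hEW, ← hWc, h2, Nat.card_zmod] at h1
    exact h1.symm
  have hWs : Ws ≠ ⊥ := by
    obtain ⟨w, hw⟩ := Subgroup.ne_bot_iff_exists_ne_one.1 hW
    obtain ⟨x, hx⟩ := hWV _ w.2
    intro e
    have hxW : x ∈ Ws := show emb x ∈ W from hx ▸ w.2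
    rw [e, Submodule.mem_bot] at hxW
    exact hw (Subtype.ext (by rw [hx, hxW, hjzero]; rfl))
  refine S.toQuad.no_fixer hk Ws hWs Es hdim ?_ ?_ ?_
  · rintro _ ⟨e, rfl⟩ hne
    refine Submodule.ext fun x => ?_
    rw [LinearMap.mem_ker, ← hfixσ e (fun h => hne (by rw [show e = 1 from Subtype.ext h, hT1])) x, hT]
    exact ⟨fun h => Quad.eq_of_add_eq_zero h, fun h => by rw [h, Quad.torsion]⟩
  · rintro _ ⟨e, rfl⟩ x
    rw [hT e (T e x), hfixW e _ (hTW e x), Quad.torsion]
  · rintro _ ⟨e, rfl⟩ x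
    rw [hT, add_comm (σ e x), Quad.add_cancel']
    exact hσQ e x

/-- Involutions and elements of square minus one have centralisers inside, so nothing lies strictly between. -/
theorem eq_of_cent (hk : 4 ≤ S.k) {M : Subgroup (GL ι F)} (hM : S.Nm ≤ M)
    (hcent : ∀ x, x ≠ 0 → ∀ g ∈ M, Pm (g * S.e x * g⁻¹) (S.e x) → g ∈ S.Nm) : M = S.Nm := by
  classical
  have hnegM : (-1 : GL ι F) ∈ M := hM (S.neg_one_mem_Nm (by omega))
  let N : Subgroup M := Subgroup.zpowers ⟨-1, hnegM⟩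
  haveI : N.Normal := ⟨fun n hn g => by
    obtain ⟨j, rfl⟩ := hn
    have hc : Commute g (⟨-1, hnegM⟩ : M) := Subtype.ext (show (g : GL ι F) * -1 = -1 * g by simp)
    show g * (⟨-1, hnegM⟩ : M) ^ j * g⁻¹ ∈ N
    rw [(hc.zpow_right j).eq, mul_inv_cancel_right]
    exact Subgroup.zpow_mem _ (Subgroup.mem_zpowers _) j⟩
  have hN : ∀ n : M, n ∈ N ↔ Pm (n : GL ι F) 1 := by
    intro n
    constructor
    · rintro ⟨j, rfl⟩
      show Pm ((⟨-1, hnegM⟩ : M) ^ j : M).1 1
      rw [Subgroup.coe_zpow]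
      rcases Int.even_or_odd j with ⟨l, rfl⟩ | ⟨l, rfl⟩
      · left; rw [_root_.zpow_add, ← (Commute.refl _).mul_zpow]; simp
      · right; rw [_root_.zpow_add_one, two_mul, _root_.zpow_add, ← (Commute.refl _).mul_zpow]; simp
    · rintro (h | h)
      · rw [show n = 1 from Subtype.ext h]; exact N.one_mem
      · rw [show n = ⟨-1, hnegM⟩ from Subtype.ext h]; exact Subgroup.mem_zpowers _
  set π := QuotientGroup.mk' N with hπdef
  haveI : Finite (M ⧸ N) := Quotient.finite _
  have hπ : ∀ a b : M, π a = π b ↔ Pm (a : GL ι F) b := by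
    intro a b
    rw [QuotientGroup.mk'_eq_mk']
    constructor
    · rintro ⟨z, hz, rfl⟩
      have := (Pm.refl (a : GL ι F)).mul ((hN z).1 hz)
      rw [mul_one, ← Subgroup.coe_mul] at this
      exact this.symm
    · intro h
      refine ⟨a⁻¹ * b, (hN _).2 ?_, mul_inv_cancel_left a b⟩
      have := (Pm.refl (a : GL ι F)⁻¹).mul h.symm
      rwa [inv_mul_cancel] at this
  have hsurj : ∀ g : M ⧸ N, ∃ a : M, π a = g := QuotientGroup.mk'_surjective N
  let emb : V → M ⧸ N := fun x => π ⟨S.e x, hM (S.e_mem_Nm (by omega) x)⟩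
  let Hb := (S.Nm.subgroupOf M).map π
  let W₀ := (S.Rm.subgroupOf M).map π
  have hHb : ∀ g : M, π g ∈ Hb ↔ (g : GL ι F) ∈ S.Nm := fun g => by
    refine ⟨fun ⟨h, hh, he⟩ => ?_, fun h => ⟨g, h, rfl⟩⟩
    exact (mem_iff_of_pm (S.neg_one_mem_Nm (by omega)) ((hπ h g).1 he)).1 hh
  have hW₀ : ∀ g, g ∈ W₀ ↔ ∃ x, g = emb x := by
    intro g
    constructor
    · rintro ⟨a, ⟨x, hx⟩, rfl⟩
      exact ⟨x, (hπ _ _).2 hx⟩
    · rintro ⟨x, rfl⟩
      exact ⟨⟨S.e x, hM (S.e_mem_Nm (by omega) x)⟩, S.e_mem x, rfl⟩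
  have hjinj : Function.Injective emb := fun a b h => S.eq_of_pm ((hπ _ _).1 h)
  have hjadd : ∀ a b, emb (a + b) = emb a * emb b := fun a b => by
    show π _ = π _ * π _
    rw [← map_mul, hπ]
    exact (S.e_add a b).symm
  have hjzero : emb 0 = 1 := by
    show π _ = 1
    rw [← map_one π, hπ]
    exact Or.inl S.e_zero
  have hjinv : ∀ a, emb a * emb a = 1 := fun a => by rw [← hjadd, Quad.torsion, hjzero]
  -- the action of the normaliser
  have hact : ∀ (h : M), (h : GL ι F) ∈ S.Nm → ∀ x, π h * emb x * (π h)⁻¹ = emb (S.perm (h : GL ι F) x) := by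
    intro h hh x
    show π h * π _ * (π h)⁻¹ = π _
    rw [← map_inv, ← map_mul, ← map_mul, hπ]
    exact S.perm_spec (S.Nm_le_NO hh) x
  have hselfemb : ∀ g ∈ Hb, (∀ x, g * emb x * g⁻¹ = emb x) → ∃ x, g = emb x := by
    intro g hg hfix
    obtain ⟨a, rfl⟩ := hsurj g
    have ha := (hHb a).1 hg
    obtain ⟨y, hy⟩ := S.mem_Rm_of_fix ((S.NO_le (S.Nm_le_NO ha))) fun x => by
      have h1 := (hact a ha x).symm.trans (hfix x)
      have h2 := S.perm_spec (S.Nm_le_NO ha) x
      rwa [hjinj h1] at h2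
    exact ⟨y, (hπ _ _).2 hy⟩
  have hctrl : SpEight.Control Hb W₀ :=
    { le := Subgroup.map_mono fun x hx => S.Rm_le_Nm (by omega) hx
      normal := by
        rintro _ ⟨h, hh, rfl⟩ g hg
        obtain ⟨x, rfl⟩ := (hW₀ g).1 hg
        exact (hW₀ _).2 ⟨_, hact h hh x⟩
      invol := fun g hg => by
        obtain ⟨x, rfl⟩ := (hW₀ g).1 hg
        exact hjinv x
      self := fun g hg hcv => (hW₀ g).2 (hselfemb g hg fun x => by
        rw [hcv _ ((hW₀ _).2 ⟨x, rfl⟩), mul_inv_cancel_right])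
      cent := by
        intro g hg hg1 a hag
        obtain ⟨x, rfl⟩ := (hW₀ g).1 hg
        obtain ⟨a, rfl⟩ := hsurj a
        rw [hHb]
        refine hcent x (fun e => hg1 (by rw [e, hjzero])) _ a.2 ?_
        change π a * π ⟨S.e x, _⟩ = π ⟨S.e x, _⟩ * π a at hag
        rw [← map_mul, ← map_mul, hπ] at hag
        have := hag.mul (Pm.refl (a : GL ι F)⁻¹)
        simpa [mul_assoc] using this
      fused := by
        intro g hg hg1 a ha
        obtain ⟨x, rfl⟩ := (hW₀ g).1 hg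
        obtain ⟨a, rfl⟩ := hsurj a
        obtain ⟨y, hy⟩ := (hW₀ _).1 ha
        have hx0 : x ≠ 0 := fun e => hg1 (by rw [e, hjzero])
        have hy0 : y ≠ 0 := fun e => hg1 (by
          rw [e, hjzero, mul_inv_eq_iff_eq_mul, one_mul] at hy
          exact mul_eq_left.1 hy)
        have hQ : S.Q x = S.Q y := by
          refine S.Q_eq_of_conj (g := (a : GL ι F)) ?_
          have hy' := hy
          change π a * π _ * (π a)⁻¹ = π _ at hy'
          rw [← map_inv, ← map_mul, ← map_mul, hπ] at hy'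
          exact hy'
        obtain ⟨h, hh, e⟩ := S.move (by omega) hx0 hy0 hQ
        refine ⟨π ⟨h, hM hh⟩, (hHb _).2 hh, ?_⟩
        rw [hact ⟨h, hM hh⟩ hh x, hy]
        exact congrArg emb e
      fixer := fun W E hWV hEH hW hEW hEV hE2 _ hfix =>
        S.fixer_aux (by omega) emb hjinj hjadd hjzero Hb
          (fun g hg => by
            obtain ⟨a, rfl⟩ := hsurj g
            exact ⟨S.lin (S.Nm_le_NO ((hHb a).1 hg)), fun x => hact a ((hHb a).1 hg) x, fun x => S.Q_perm (S.Nm_le_NO ((hHb a).1 hg)) x⟩)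
          hselfemb W E (fun w hw => (hW₀ w).1 (hWV hw)) hEH hW hEW (fun e he h => hEV e he ((hW₀ e).2 h)) hE2
          (fun e he h1 x => hfix e he h1 (emb x) ((hW₀ _).2 ⟨x, rfl⟩)) }
  obtain ⟨x, hx0, hxQ, -⟩ := S.exists_singular_perp [] (by simp; omega)
  obtain ⟨z, hzQ⟩ := S.exists_nonsing (by omega)
  have htop := hctrl.eq_top ((hW₀ _).2 ⟨x, rfl⟩) (fun e => hx0 (hjinj (e.trans hjzero.symm)))
    ((hW₀ _).2 ⟨z, rfl⟩) (fun e => S.ne_zero_of_Q hzQ (hjinj (e.trans hjzero.symm))) (by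
    intro g hg
    obtain ⟨a, rfl⟩ := hsurj g
    change π a * π _ * (π a)⁻¹ = π _ at hg
    rw [← map_inv, ← map_mul, ← map_mul, hπ] at hg
    have := S.Q_eq_of_conj (g := (a : GL ι F)) hg
    rw [hxQ, hzQ] at this
    exact zero_ne_one this)
  exact le_antisymm (fun g hg => (hHb ⟨g, hg⟩).1 (by rw [htop]; trivial)) hM

/-- The monomial normaliser is maximal in the derived group. -/
theorem maximal {p : ℕ} (hpr : p.Prime) (hcard : Fintype.card F = p) (hp : S.Plus) (hk : 4 ≤ S.k) :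
    Cfsg.Geo.IsMaximalIn (om Q₀) S.Nm := by
  refine ⟨lt_of_le_not_ge S.Nm_le (S.om_not_le_Nm hpr hcard hp hk), fun M hM hle => ?_⟩
  by_cases hfull : om Q₀ ≤ M
  · exact Or.inr (le_antisymm hle hfull)
  have hO : Over S M := ⟨hM, hle, hfull⟩
  have hQ := S.centQ hpr hcard hp hk hO
  have hC := hO.centOne hQ hk
  refine Or.inl (S.eq_of_cent hk hM fun x hx g hg h => ?_)
  rcases bit (S.Q x) with e | e
  · exact hC x hx e g hg h
  · exact S.centU e hO hC hQ hk hg h

end Sys

end CfsgLib.Geo.PauliPlus
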