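import Cfsg.Agent.Geo.PauliPlus.PairCent

/-!
An overgroup containing the symplectic group of every pair of anticommuting monomials of square minus one
contains the derived group; hence the centraliser of such a pair in an overgroup normalises the monomials.
-/

set_option autoImplicit false
set_option linter.unusedSectionVars false
set_option linter.unusedSimpArgs false
set_option linter.style.haveILetI false

namespace CfsgLib.Geo.PauliPlus

open Matrix Module QuadraticMap CfsgLib.Geo.Tensor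
open CfsgLib.Geo.PauliSp (Idx formB formB_apply)
open scoped commutatorElement

variable {ι : Type} [Fintype ι] [DecidableEq ι] {F : Type*} [Field F] {Q₀ : QuadraticForm F (ι → F)}
  {V : Type*} [AddCommGroup V] [Module (ZMod 2) V] [Fintype V]

local notation "fm" => CfsgLib.Symp.form (R := F)

namespace PChart

variable {S : Sys Q₀ V} {u w : V} {m : ℕ} (C : PChart S u w m)

/-- The form in the coordinates of a chart. -/
noncomputable def Qt : QuadraticForm F (Fin 2 × Idx m → F) :=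
  Q₀.comp (C.q : (Fin 2 × Idx m → F) →ₗ[F] (ι → F))

theorem Qt_apply (x : Fin 2 × Idx m → F) : C.Qt x = Q₀ (C.q x) := rfl

theorem polar_Qt (x y : Fin 2 × Idx m → F) : polar C.Qt x y = polar Q₀ (C.q x) (C.q y) := by
  simp only [polar, Qt_apply, map_add]

theorem isTQ : TensorO.IsTQ C.Qt epsB (formB m) := by
  have hpol : ∀ p v p' v', polar C.Qt (ten p v) (ten p' v') = epsB p p' * formB m v v' := by
    intro p v p' v'
    rw [C.polar_Qt, C.form, epsB_apply, formB_apply]
    show fm (p 0 • v) (p' 1 • v') - fm (p 1 • v) (p' 0 • v') = _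
    simp only [CfsgLib.Symp.form_smul_left, CfsgLib.Symp.form_smul_right]
    ring
  refine ⟨epsB_nondeg, epsB_alt, formB_nondeg m, formB_alt m, hpol, fun p v => ?_⟩
  have h := polar_self_eq (Q := C.Qt) (ten p v)
  rw [hpol, epsB_alt p, zero_mul] at h
  exact (mul_eq_zero.1 h.symm).resolve_left S.two

/-- The isometries in coordinates as matrices. -/
noncomputable def tr : CfsgLib.Quad.oGroup C.Qt →* GL ι F :=
  MonoidHom.mk' (fun g => Matrix.GeneralLinearGroup.toLin.symm
      ((LinearMap.GeneralLinearGroup.generalLinearEquiv F (ι → F)).symm (C.q.symm.trans (g.1.trans C.q))))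
    fun a b => by
      rw [← map_mul, ← map_mul]
      congr 2
      exact LinearEquiv.ext fun x => by simp [LinearEquiv.mul_apply]

theorem tr_mulVec (g : CfsgLib.Quad.oGroup C.Qt) (x : Fin 2 × Idx m → F) :
    (C.tr g : Mx ι F) *ᵥ C.q x = C.q (g.1 x) := by
  have h : ((Matrix.GeneralLinearGroup.toLin (C.tr g) : LinearMap.GeneralLinearGroup F (ι → F)) :
      (ι → F) →ₗ[F] (ι → F)) (C.q x) = (C.q.symm.trans (g.1.trans C.q)) (C.q x) := by
    rw [tr, MonoidHom.mk'_apply, MulEquiv.apply_symm_apply]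
    rfl
  rw [LinearEquiv.trans_apply, LinearEquiv.trans_apply, LinearEquiv.symm_apply_apply] at h
  rw [← h]
  rfl

theorem tr_mem (g : CfsgLib.Quad.oGroup C.Qt) : C.tr g ∈ iso Q₀ := mem_iso.2 fun y => by
  obtain ⟨x, rfl⟩ := C.q.surjective y
  rw [C.tr_mulVec]
  exact g.2 x

theorem exists_tr {h : GL ι F} (hh : h ∈ iso Q₀) : ∃ g, C.tr g = h := by
  refine ⟨⟨C.q.trans ((LinearMap.GeneralLinearGroup.generalLinearEquiv F (ι → F)
    (Matrix.GeneralLinearGroup.toLin h)).trans C.q.symm), fun x => ?_⟩, ?_⟩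
  · show Q₀ (C.q (C.q.symm _)) = Q₀ (C.q x)
    rw [LinearEquiv.apply_symm_apply]
    exact mem_iso.1 hh _
  · refine Units.ext (C.eq_of_mulVec fun x => ?_)
    rw [C.tr_mulVec]
    show C.q (C.q.symm _) = _
    rw [LinearEquiv.apply_symm_apply]
    rfl

theorem χ_ten (c : GL (Idx m) F) (p : Fin 2 → F) (z : Idx m → F) :
    (C.χ c : Mx ι F) *ᵥ C.q (ten p z) = C.q (ten p ((c : Matrix (Idx m) (Idx m) F) *ᵥ z)) := by
  rw [C.χ_mulVec]
  congr 1
  funext ⟨i, j⟩
  show ((c : Matrix (Idx m) (Idx m) F) *ᵥ (p i • z)) j = p i * _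
  rw [Matrix.mulVec_smul]
  rfl

variable [Finite F] (hu : S.Q u = 1) (hw : S.Q w = 1) (huw : S.B u w = 1) (hk : 4 ≤ S.k)
include C hu hw huw hk

/-- An overgroup with the symplectic groups of all pairs contains the derived group. -/
theorem om_le_of_all {M : Subgroup (GL ι F)}
    (hall : ∀ a b, S.Q a = 1 → S.Q b = 1 → S.B a b = 1 → ∀ g ∈ iso Q₀, g * S.e a = S.e a * g →
      g * S.e b = S.e b * g → g ∈ M) : om Q₀ ≤ M := by
  classical
  haveI := C.nonempty_idx
  have hm := C.two_le hk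
  obtain ⟨a, b, ha, hb, hab, hua, hwa, hub, hwb⟩ := S.exists_pair_perp (by omega) hu hw
  set a' : C.W := ⟨a, C.mem_W.2 ⟨hua, hwa⟩⟩ with ha'
  set b' : C.W := ⟨b, C.mem_W.2 ⟨hub, hwb⟩⟩ with hb'
  obtain ⟨m', ⟨C'⟩⟩ := S.exists_pchart ha hb hab
  have hEa : S.e a = C.χ (C.e₀ a') := C.e₀_spec a'
  have hEb : S.e b = C.χ (C.e₀ b') := C.e₀_spec b'
  set A : Matrix (Idx m) (Idx m) F := (C.e₀ a' : Matrix (Idx m) (Idx m) F) with hAdef
  set B' : Matrix (Idx m) (Idx m) F := (C.e₀ b' : Matrix (Idx m) (Idx m) F) with hBdef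
  have eA : S.E a = C.dia A := by rw [Sys.E, hEa, C.χ_val]
  have eB : S.E b = C.dia B' := by rw [Sys.E, hEb, C.χ_val]
  set H : Matrix (Idx m) (Idx m) F := C'.al • A + C'.be • B' with hHdef
  set J : Matrix (Idx m) (Idx m) F := A * B' with hJdef
  have eH : C'.al • S.E a + C'.be • S.E b = C.dia H := by
    rw [eA, eB, hHdef, C.dia_add, C.dia_smul', C.dia_smul']
  have eJ : S.E a * S.E b = C.dia J := by rw [eA, eB, C.dia_mul]
  have hAA : A * A = -1 := C.dia_inj (by
    rw [← C.dia_mul, ← eA, S.E_sq_neg ha, ← neg_one_smul F (1 : Matrix (Idx m) (Idx m) F), C.dia_smul,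
      neg_one_smul])
  have hBB : B' * B' = -1 := C.dia_inj (by
    rw [← C.dia_mul, ← eB, S.E_sq_neg hb, ← neg_one_smul F (1 : Matrix (Idx m) (Idx m) F), C.dia_smul,
      neg_one_smul])
  have hBA : B' * A = -(A * B') := C.dia_inj (by
    rw [← C.dia_mul, ← eA, ← eB, ← neg_one_smul F (A * B'), C.dia_smul', ← C.dia_mul, ← eA, ← eB,
      S.E_anti hab, smul_neg, neg_one_smul, neg_neg])
  have hHH : H * H = 1 := by
    rw [hHdef]
    simp only [add_mul, mul_add, smul_mul_assoc, mul_smul_comm, smul_smul, hAA, hBB, hBA]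
    match_scalars
    · linear_combination -C'.sq
    · ring
  have hJJ : J * J = -1 := by
    rw [hJdef, mul_assoc, ← mul_assoc B', hBA, neg_mul, mul_neg, mul_assoc, hBB, mul_neg, mul_one, mul_neg,
      hAA, neg_neg]
  have hHJ : H * J = -(J * H) := by
    have e1 : B' * (A * B') = A := by
      rw [← mul_assoc, hBA, neg_mul, mul_assoc, hBB, mul_neg, mul_one, neg_neg]
    have e2 : A * B' * A = B' := by
      rw [mul_assoc, hBA, mul_neg, ← mul_assoc, hAA, neg_one_mul, neg_neg]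
    rw [hHdef, hJdef, add_mul, mul_add, smul_mul_assoc, smul_mul_assoc, mul_smul_comm, mul_smul_comm, e1, e2,
      ← mul_assoc, hAA, mul_assoc A B' B', hBB]
    simp only [neg_mul, one_mul, mul_neg, mul_one, smul_neg]
    abel
  -- an isotropic fixed vector of the involution
  set X := Matrix.toLin' H with hX
  have hXa : ∀ v, X v = H *ᵥ v := fun v => Matrix.toLin'_apply _ v
  set Kp := LinearMap.ker (X - LinearMap.id) with hKp
  set Km := LinearMap.ker (X + LinearMap.id) with hKm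
  have hp : ∀ v, v ∈ Kp ↔ H *ᵥ v = v := fun v => by simp [hKp, hXa, sub_eq_zero]
  have hn : ∀ v, v ∈ Km ↔ H *ᵥ v = -v := fun v => by simp [hKm, hXa, eq_neg_iff_add_eq_zero]
  have hc : IsCompl Kp Km := PauliPlus.ker_sub_compl S.two X fun v => by
    rw [hXa, hXa, Matrix.mulVec_mulVec, hHH, Matrix.one_mulVec]
  have hfr : finrank F Km ≤ finrank F Kp := by
    refine LinearMap.finrank_le_finrank_of_injective (f := ((Matrix.toLin' J).comp Km.subtype).codRestrict Kp
      fun v => (hp _).2 ?_) ((injective_iff_map_eq_zero _).2 fun v hv => Subtype.ext ?_)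
    · show H *ᵥ (J *ᵥ (v : Idx m → F)) = J *ᵥ (v : Idx m → F)
      rw [Matrix.mulVec_mulVec, hHJ, Matrix.neg_mulVec, ← Matrix.mulVec_mulVec, (hn _).1 v.2, Matrix.mulVec_neg,
        neg_neg]
    · have h0 : J *ᵥ (v : Idx m → F) = 0 := congrArg Subtype.val hv
      have h1 := congrArg (J *ᵥ ·) h0
      simp only [Matrix.mulVec_mulVec, hJJ, Matrix.neg_mulVec, Matrix.one_mulVec, Matrix.mulVec_zero,
        neg_eq_zero] at h1
      exact h1
  have hK3 : 3 ≤ finrank F Kp := by
    have h := Submodule.finrank_add_eq_of_isCompl hc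
    rw [Module.finrank_fintype_fun_eq_card] at h
    simp only [Fintype.card_sum, Fintype.card_fin] at h
    omega
  obtain ⟨z, hzK, hz0, hzQ⟩ := CfsgLib.Quad.exists_singular_of_three
    (Q := LinearMap.BilinMap.toQuadraticMap ((formB m).compl₂ (Matrix.toLin' J))) Kp hK3
  have hHz : H *ᵥ z = z := (hp z).1 hzK
  set v := J *ᵥ z with hvdef
  have hzv : formB m z v = 0 := hzQ
  have hHv : H *ᵥ v = -v := by
    rw [hvdef, Matrix.mulVec_mulVec, hHJ, Matrix.neg_mulVec, ← Matrix.mulVec_mulVec, hHz]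
  have hind : v ∉ F ∙ z := fun hm' => by
    obtain ⟨c, hc'⟩ := Submodule.mem_span_singleton.1 hm'
    have h1 : H *ᵥ v = v := by rw [← hc', Matrix.mulVec_smul, hHz]
    rw [hHv] at h1
    have h2 : (2 : F) • v = 0 := by
      rw [two_smul]; nth_rw 1 [← h1]; exact neg_add_cancel v
    have hv0 : v = 0 := (smul_eq_zero.1 h2).resolve_left S.two
    apply hz0
    rw [← neg_neg z, ← Matrix.one_mulVec z, ← Matrix.neg_mulVec, ← hJJ, ← Matrix.mulVec_mulVec, ← hvdef, hv0,
      Matrix.mulVec_zero, neg_zero]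
  -- the vectors in the second chart
  let p : Fin 2 → F := ![1, 0]
  set e := C.q (ten p z) with hedef
  set f := C.q (ten p v) with hfdef
  have hef : (S.E a * S.E b) *ᵥ e = f := by
    rw [eJ, hedef, C.dia_mulVec, hfdef]
    congr 1
    funext ⟨i, j⟩
    show (J *ᵥ (p i • z)) j = p i * v j
    rw [Matrix.mulVec_smul]
    rfl
  have hHe : (C'.al • S.E a + C'.be • S.E b) *ᵥ e = e := by
    rw [eH, hedef, C.dia_mulVec]
    congr 1
    funext ⟨i, j⟩
    show (H *ᵥ (p i • z)) j = p i * z j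
    rw [Matrix.mulVec_smul, hHz]
    rfl
  set z'' := C'.q.symm e with hz''
  set z' : Idx m' → F := fun j => z'' (0, j) with hz'
  have hrow : ∀ j, z'' (1, j) = 0 := fun j => by
    have h := congrArg C'.q.symm hHe
    rw [show e = C'.q z'' from (C'.q.apply_symm_apply e).symm, C'.h_act, LinearEquiv.symm_apply_apply,
      LinearEquiv.symm_apply_apply] at h
    have h' := congrFun h (1, j)
    simp only [one_ne_zero, ↓reduceIte] at h'
    exact (mul_eq_zero.1 (show (2 : F) * z'' (1, j) = 0 by linear_combination -h')).resolve_left S.two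
  have he' : e = C'.q (ten (Pi.single 0 1) z') := by
    rw [← C'.q.apply_symm_apply e]
    congr 1
    funext ⟨i, j⟩
    fin_cases i
    · simp [ten, hz', ← hz'']
    · simp [ten, ← hz'', hrow j]
  have hf' : f = C'.q (ten (Pi.single 1 1) z') := by
    rw [← hef, he', C'.j_act]
    congr 1
    funext ⟨i, j⟩
    fin_cases i <;> simp [ten]
  -- the element
  haveI := C'.nonempty_idx
  set g := C'.χ (SpTv.stv z' 1) with hgdef
  have hg : g ∈ iso Q₀ := C'.χ_mem_iff.2 (SpTv.stv_mem _ _)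
  have hgform : ∀ y, (g : Mx ι F) *ᵥ y = y + polar Q₀ y f • e - polar Q₀ y e • f := by
    intro y
    obtain ⟨x, rfl⟩ := C'.q.surjective y
    have hz0' : (fun _ : Idx m' => (0 : F)) = 0 := rfl
    have hp1 : polar Q₀ (C'.q x) f = fm (fun j => x (0, j)) z' := by
      rw [hf', C'.form]
      simp [ten, hz0', CfsgLib.Symp.form_zero_right]
    have hp2 : polar Q₀ (C'.q x) e = -fm (fun j => x (1, j)) z' := by
      rw [he', C'.form]
      simp [ten, hz0', CfsgLib.Symp.form_zero_right]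
    rw [hgdef, C'.χ_mulVec, hp1, hp2, he', hf', ← map_smul, ← map_smul, ← map_add, ← map_sub]
    congr 1
    funext ⟨i, j⟩
    show ((SpTv.stv z' 1 : Matrix (Idx m') (Idx m') F) *ᵥ fun j => x (i, j)) j = _
    rw [SpTv.stv_mulVec]
    fin_cases i <;> simp [ten]
  have hgM : g ∈ M :=
    hall a b ha hb hab g hg (C'.χ_comm ha hb hab _).1 (C'.χ_comm ha hb hab _).2
  obtain ⟨g', hg'⟩ := C.exists_tr hg
  -- the tensor subgroup
  have hM : TensorO.tenSp C.Qt epsB (formB m) ⊓ commutator (CfsgLib.Quad.oGroup C.Qt) ≤ M.comap C.tr := by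
    rintro x ⟨⟨a₂, c₂, -, hc₂, hx⟩, -⟩
    let c' : GL (Idx m) F := Matrix.GeneralLinearGroup.toLin.symm
      ((LinearMap.GeneralLinearGroup.generalLinearEquiv F (Idx m → F)).symm c₂)
    have hc' : ∀ y, (c' : Matrix (Idx m) (Idx m) F) *ᵥ y = c₂ y := fun y => by
      show (Matrix.GeneralLinearGroup.toLin c' : LinearMap.GeneralLinearGroup F (Idx m → F)).val y = _
      rw [MulEquiv.apply_symm_apply]
      rfl
    have hsp : c' ∈ Cfsg.spGL m F := SpTv.mem_spGL.2 fun y y' => by rw [hc', hc']; exact hc₂ y y'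
    have hχi : C.χ c' ∈ iso Q₀ := C.χ_mem_iff.2 hsp
    have hχ : C.χ c' ∈ M := hall u w hu hw huw _ hχi (C.χ_comm hu hw huw _).1 (C.χ_comm hu hw huw _).2
    set G := (C.χ c')⁻¹ * C.tr x with hG
    have hGi : G ∈ iso Q₀ := (iso Q₀).mul_mem ((iso Q₀).inv_mem hχi) (C.tr_mem x)
    have hGv : ∀ p' y, (G : Mx ι F) *ᵥ C.q (ten p' y) = C.q (ten (a₂ p') y) := fun p' y => by
      rw [hG, Units.val_mul, ← Matrix.mulVec_mulVec, C.tr_mulVec, hx, ← hc' y, ← C.χ_ten, Matrix.mulVec_mulVec,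
        Units.inv_mul, Matrix.one_mulVec]
    clear_value G
    have hcom : ∀ d : GL (Idx m) F, G * C.χ d = C.χ d * G := fun d => Units.ext (C.eq_of_mulVec fun y => by
      rw [Units.val_mul, Units.val_mul, ← Matrix.mulVec_mulVec, ← Matrix.mulVec_mulVec]
      exact LinearMap.congr_fun (map_ext
        (S := (Matrix.toLin' (G : Mx ι F)).comp ((Matrix.toLin' (C.χ d : Mx ι F)).comp
          (C.q : (Fin 2 × Idx m → F) →ₗ[F] (ι → F))))
        (T := (Matrix.toLin' (C.χ d : Mx ι F)).comp ((Matrix.toLin' (G : Mx ι F)).comp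
          (C.q : (Fin 2 × Idx m → F) →ₗ[F] (ι → F)))) fun p' y' => by
        simp only [LinearMap.comp_apply, LinearEquiv.coe_coe, Matrix.toLin'_apply, C.χ_ten, hGv]) y)
    have hGM : G ∈ M := hall a b ha hb hab G hGi (by rw [hEa]; exact hcom _) (by rw [hEb]; exact hcom _)
    show C.tr x ∈ M
    rw [show C.tr x = C.χ c' * G by rw [hG, mul_inv_cancel_left]]
    exact M.mul_mem hχ hGM
  have hT := C.isTQ
  have hβ : 6 ≤ Fintype.card (Idx m) := by simp; omega
  have hg'x : ∀ x, g'.1 x = x + ten (TensorO.rk epsB p p (TensorO.cW (formB m) v x) +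
      (0 : (Fin 2 → F) →ₗ[F] (Fin 2 → F)) (TensorO.cW (formB m) z x)) z +
      ten ((-TensorO.rk epsB p p) (TensorO.cW (formB m) z x)) v := by
    intro x
    refine C.q.injective ?_
    rw [← C.tr_mulVec, hg', hgform, hedef, hfdef, ← C.polar_Qt, ← C.polar_Qt, polar_comm (⇑C.Qt) x (ten p v),
      polar_comm (⇑C.Qt) x (ten p z), hT.polar_ten, hT.polar_ten, ← map_smul, ← map_smul, ← map_add, ← map_sub]
    congr 1
    funext ⟨i, j⟩
    simp only [LinearMap.zero_apply, add_zero, LinearMap.neg_apply, TensorO.rk_apply, Pi.add_apply, Pi.sub_apply,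
      Pi.smul_apply, Pi.neg_apply, ten, smul_eq_mul]
    ring
  have hns : ¬ ∃ c : F, ∀ q', TensorO.rk epsB p p q' = c • q' := by
    rintro ⟨c, hc'⟩
    have h1 := congrFun (hc' p) 0
    have h2 := congrFun (hc' ![0, 1]) 0
    simp [TensorO.rk_apply, epsB_apply, p] at h1 h2
  have hadj : TensorO.Adj epsB (TensorO.rk epsB p p) (-TensorO.rk epsB p p) := fun x y => by
    simp only [LinearMap.neg_apply, TensorO.rk_apply, map_smul, map_neg, LinearMap.smul_apply, smul_eq_mul]
    rw [← LinearMap.IsAlt.neg (B := epsB (F := F)) epsB_alt p x]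
    ring
  have hle := TensorO.omega_le_of_shape hT (by simp) hβ hM (fun ⟨_, h⟩ => ?_) (N := TensorO.rk epsB p p)
    (P := 0) (show g' ∈ M.comap C.tr by rw [Subgroup.mem_comap, hg']; exact hgM) hg'x hzv hz0 hind hadj hns
  · rw [om_eq, Subgroup.commutator_le]
    intro x hx y hy
    obtain ⟨x', rfl⟩ := C.exists_tr hx
    obtain ⟨y', rfl⟩ := C.exists_tr hy
    rw [← map_commutatorElement]
    exact hle (Subgroup.commutator_mem_commutator (Subgroup.mem_top x') (Subgroup.mem_top y'))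
  · haveI := Fintype.ofFinite F
    rw [Nat.card_eq_fintype_card] at h
    exact S.two (by
      have e := FiniteField.cast_card_eq_zero F
      rw [h] at e
      exact_mod_cast e)

end PChart

end CfsgLib.Geo.PauliPlus

namespace CfsgLib.Geo.PauliPlus

open Matrix Module QuadraticMap
open CfsgLib.Geo.PauliSp (Idx)

namespace Sys

variable {ι : Type} [Fintype ι] [DecidableEq ι] {F : Type*} [Field F] [Fintype F] {Q₀ : QuadraticForm F (ι → F)}
  {V : Type*} [AddCommGroup V] [Module (ZMod 2) V] [Fintype V] (S : Sys Q₀ V)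

/-- The pair centralisers in `M` are inside the normaliser. -/
def CentQ (M : Subgroup (GL ι F)) : Prop :=
  ∀ u w, S.Q u = 1 → S.Q w = 1 → S.B u w = 1 → ∀ g ∈ M, g * S.e u = S.e u * g → g * S.e w = S.e w * g → g ∈ S.Nm

variable {p : ℕ} (hpr : p.Prime) (hcard : Fintype.card F = p) (hp : S.Plus) (hk : 4 ≤ S.k)
include hpr hcard hp hk

theorem pair_maximal {u w : V} {m : ℕ} (C : PChart S u w m) (hu : S.Q u = 1) (hw : S.Q w = 1)
    (huw : S.B u w = 1) : Cfsg.Geo.IsMaximalIn (Cfsg.spGL m F) (C.sub hu hw huw hp).Nm :=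
  PauliSp.maximal hpr hcard (S.k - 1) m C.W (C.sub hu hw huw hp) rfl (by omega)

theorem om_not_le_Nm : ¬ om Q₀ ≤ S.Nm := fun hle => by
  obtain ⟨u, w, hu, hw, huw, -⟩ := S.exists_pair_hyper (by omega) (0 : V)
  obtain ⟨m, ⟨C⟩⟩ := S.exists_pchart hu hw huw
  refine (S.pair_maximal hpr hcard hp hk C hu hw huw).1.2 fun c hc => ?_
  exact C.Nm_of_χ_mem hu hw huw hp (hle (C.χ_mem_om (by have := C.two_le hk; omega) hc))

theorem centQ {M : Subgroup (GL ι F)} (hO : Over S M) : S.CentQ M := by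
  intro u w hu hw huw g hg h1 h2
  obtain ⟨m, ⟨C⟩⟩ := S.exists_pchart hu hw huw
  haveI := C.nonempty_idx
  have hm : 2 ≤ m := by have := C.two_le hk; omega
  obtain ⟨c, rfl⟩ := C.exists_χ h1 h2
  have hc : c ∈ Cfsg.spGL m F := C.χ_mem_iff.1 (om_le (hO.le hg))
  set M' := M.comap C.χ ⊓ Cfsg.spGL m F with hM'
  have hge : (C.sub hu hw huw hp).Nm ≤ M' := fun d hd =>
    ⟨hO.ge (S.Nm_mem_iff.2 ⟨C.χ_mem_NO hu hw huw hp hd, C.χ_mem_om hm hd.2⟩), hd.2⟩
  rcases (S.pair_maximal hpr hcard hp hk C hu hw huw).2 M' hge inf_le_right with e | e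
  · exact S.Nm_mem_iff.2 ⟨C.χ_mem_NO hu hw huw hp (e ▸ ⟨hg, hc⟩), hO.le hg⟩
  refine (hO.ne (C.om_le_of_all hu hw huw hk fun a b ha hb hab g' hg' e1 e2 => ?_)).elim
  obtain ⟨h, hh, hpu, hpw⟩ := S.move_pair hk hu hw huw ha hb hab
  have hh' := S.Nm_le_NO hh
  have conv : ∀ {x y : V}, S.perm h x = y → g' * S.e y = S.e y * g' →
      h⁻¹ * g' * h * S.e x = S.e x * (h⁻¹ * g' * h) := by
    intro x y hxy he
    have hs := S.perm_spec hh' x
    rw [hxy] at hs
    have hc' : g' * (h * S.e x * h⁻¹) = h * S.e x * h⁻¹ * g' := by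
      rcases hs with e | e <;> rw [e] <;> simp [he]
    calc h⁻¹ * g' * h * S.e x = h⁻¹ * (g' * (h * S.e x * h⁻¹)) * h := by group
      _ = h⁻¹ * (h * S.e x * h⁻¹ * g') * h := by rw [hc']
      _ = _ := by group
  obtain ⟨d, hd⟩ := C.exists_χ (conv hpu e1) (conv hpw e2)
  have hdi : C.χ d ∈ iso Q₀ :=
    hd ▸ (iso Q₀).mul_mem ((iso Q₀).mul_mem ((iso Q₀).inv_mem (S.NO_le hh')) hg') (S.NO_le hh')
  have hdM : d ∈ M' := e.ge (C.χ_mem_iff.1 hdi)
  have h3 : h⁻¹ * g' * h ∈ M := hd ▸ hdM.1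
  have h4 := M.mul_mem (M.mul_mem (hO.ge hh) h3) (M.inv_mem (hO.ge hh))
  simpa [mul_assoc] using h4

end Sys

end CfsgLib.Geo.PauliPlus
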