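import Cfsg.Agent.Geo.PauliPlus.Half
import Cfsg.Agent.Geo.PauliPlus.PairFull
import Cfsg.Agent.Geo.PauliPlus.Comp

/-!
The centraliser in an overgroup of an involution of the system lies in the normaliser.
-/

set_option autoImplicit false
set_option linter.unusedSectionVars false
set_option linter.unusedSimpArgs false
set_option linter.style.haveILetI false

namespace CfsgLib.Geo.PauliPlus

open Matrix Module QuadraticMap
open CfsgLib.Geo.PauliEight (sgn sgn_zero sgn_one)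

variable {ι : Type} [Fintype ι] [DecidableEq ι] {F : Type*} [Field F] [Fintype F] {Q₀ : QuadraticForm F (ι → F)}
  {V : Type*} [AddCommGroup V] [Module (ZMod 2) V] [Fintype V]

namespace Sys

variable (S : Sys Q₀ V)

/-- Elements of `M` fixing an involution up to sign normalise. -/
def CentOne (M : Subgroup (GL ι F)) : Prop :=
  ∀ x, x ≠ 0 → S.Q x = 0 → ∀ g ∈ M, Pm (g * S.e x * g⁻¹) (S.e x) → g ∈ S.Nm

end Sys

namespace Chart

variable {S : Sys Q₀ V} {x y : V} {n : ℕ} (C : Chart S x y n)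
  (hxy : S.B x y = 1) (hQx : S.Q x = 0) (hk : 2 ≤ S.k)

include hxy hQx hk

theorem Rm_of_diag_mem {d d' : GL (Fin n) F} (h : C.χ (d, d') ∈ S.Rm) : d ∈ (C.sub hxy hQx hk).Rm := by
  obtain ⟨t, ht⟩ := h
  have hcx : C.χ (d, d') * S.e x = S.e x * C.χ (d, d') := by
    rw [← C.χ_x, ← map_mul, ← map_mul]; simp
  have hBt : S.B x t = 0 := by
    refine (bit _).resolve_right fun h1 => ?_
    have h2 := S.e_anti h1
    rcases ht with e | e <;> rw [e] at hcx
    · exact S.neg_ne _ (h2.symm.trans (by rw [hcx, neg_neg]))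
    · simp only [neg_mul, mul_neg, neg_inj] at hcx
      exact S.neg_ne _ (h2.symm.trans (by rw [hcx, neg_neg]))
  have hw : t + S.B y t • x ∈ C.W := by
    have h := C.decomp hxy t
    rwa [hBt, zero_smul, add_zero] at h
  set z : C.W := ⟨_, hw⟩ with hz
  have h1 : Pm (S.e t) (C.χ (C.e₀ z, C.e₀ z * sg (S.B y t))) := by
    have h2 := (S.e_add (z : V) (S.B y t • x)).symm
    rw [show (z : V) + S.B y t • x = t from by rw [hz, add_assoc, Quad.torsion, add_zero]] at h2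
    refine h2.trans (Or.inl ?_)
    rw [show (C.e₀ z, C.e₀ z * sg (S.B y t)) = (C.e₀ z, C.e₀ z) * ((1 : GL (Fin n) F), sg (S.B y t)) by simp,
      map_mul, ← C.e₀_spec]
    congr 1
    rcases bit (S.B y t) with e | e <;> rw [e]
    · rw [zero_smul, S.e_zero, sg_zero]; exact (map_one C.χ).symm
    · rw [one_smul, sg_one, C.χ_x]
  rcases ht.trans h1 with e | e
  · exact ⟨z, Or.inl (C.χ_inj e).1⟩
  · rw [← C.χ_neg] at e
    exact ⟨z, Or.inr (C.χ_inj e).1⟩

theorem Rm_of_side {c : GL (Fin n) F} (h : C.χ (c, 1) ∈ S.NO) : c ∈ (C.sub hxy hQx hk).Rm := by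
  have h1 := S.Rm.mul_mem ((Subgroup.mem_normalizer_iff.1 h.1 _).1 (S.e_mem y)) (S.Rm.inv_mem (S.e_mem y))
  rw [← map_inv, show C.χ (c, 1) * S.e y * C.χ ((c, 1)⁻¹) * (S.e y)⁻¹ =
    C.χ (c, 1) * (S.e y * C.χ ((c, 1)⁻¹)) * (S.e y)⁻¹ by group, Prod.inv_mk, C.y_swap, ← mul_assoc,
    mul_inv_cancel_right, ← map_mul, Prod.mk_mul_mk] at h1
  simpa using C.Rm_of_diag_mem hxy hQx hk h1

end Chart

namespace Over

variable {S : Sys Q₀ V} {M : Subgroup (GL ι F)} (hO : Over S M) (hQ : S.CentQ M) (hk : 4 ≤ S.k)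
include hO hQ hk

/-- What an overgroup contains on one half alone lies in the group of that half. -/
theorem side_eq {x y : V} {n : ℕ} (C : Chart S x y n) (hxy : S.B x y = 1) (hQx : S.Q x = 0) :
    M.comap (C.χ.comp (MonoidHom.inl _ _)) = (C.sub hxy hQx (by omega : 2 ≤ S.k)).Rm := by
  classical
  have hk2 : 2 ≤ S.k := by omega
  set S₀ := C.sub hxy hQx hk2 with hS₀
  have hk₀ : 3 ≤ S₀.k := by show 3 ≤ S.k - 1; omega
  set K := M.comap (C.χ.comp (MonoidHom.inl _ _)) with hK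
  have hmem : ∀ c, c ∈ K ↔ C.χ (c, 1) ∈ M := fun c => Iff.rfl
  have hRK : S₀.Rm ≤ K := fun c hc => hO.ge (C.one_side_Nm hxy hQx hk2 hk hc)
  have hKi : ∀ c ∈ K, c ∈ iso C.Qh := fun c hc => (C.χ_mem_iff.1 (om_le (hO.le ((hmem c).1 hc)))).1
  -- the centraliser of an anisotropic plane
  have hCK : ∀ c ∈ K, ∀ z t : C.W, S₀.Q z = 1 → S₀.Q t = 1 → S₀.B z t = 1 →
      Pm (c * S₀.e z * c⁻¹) (S₀.e z) → Pm (c * S₀.e t * c⁻¹) (S₀.e t) → c ∈ S₀.Rm := by
    intro c hc z t hz ht hzt h1 h2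
    obtain ⟨r, e1, e2⟩ := S₀.exists_adjust hzt h1 h2
    set c' := S₀.e r * c with hc'
    have hc'K : c' ∈ K := K.mul_mem (hRK (S₀.e_mem r)) hc
    have key : ∀ v : C.W, c' * S₀.e v = S₀.e v * c' → C.χ (c', 1) * S.e v = S.e v * C.χ (c', 1) := fun v hv => by
      rw [C.e₀_spec, ← map_mul, ← map_mul, Prod.mk_mul_mk, Prod.mk_mul_mk, one_mul, mul_one,
        show C.e₀ v = S₀.e v from rfl, hv]
    have h3 := hQ z t hz ht hzt _ ((hmem c').1 hc'K) (key z e1) (key t e2)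
    have h4 : c' ∈ S₀.Rm := C.Rm_of_side hxy hQx hk2 (S.Nm_le_NO h3)
    have h5 := S₀.Rm.mul_mem (S₀.Rm.inv_mem (S₀.e_mem r)) h4
    rwa [hc', inv_mul_cancel_left] at h5
  -- the normaliser of the monomials
  have hKN : ∀ c ∈ K, c ∈ S₀.NO → c ∈ S₀.Rm := by
    intro c₀ hc₀ hc₀N
    let H : Set (C.W →ₗ[ZMod 2] C.W) := {h | ∃ c, ∃ hc : c ∈ S₀.NO, c ∈ K ∧ h = S₀.lin hc}
    have hall : ∀ h ∈ H, ∀ v, h v = v := by
      refine S₀.semireg hk₀ H ?_ ?_ ?_ ?_ ?_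
      · rintro _ ⟨c, hc, -, rfl⟩ v; exact S₀.Q_perm hc v
      · rintro _ ⟨c, hc, -, rfl⟩ v w; exact S₀.B_perm hc v w
      · rintro _ ⟨c, hc, hcK, rfl⟩
        exact ⟨c * c, S₀.NO.mul_mem hc hc, K.mul_mem hcK hcK, LinearMap.ext fun v => by
          rw [LinearMap.comp_apply, Sys.lin_apply, Sys.lin_apply, Sys.lin_apply, S₀.perm_mul hc hc]⟩
      · rintro _ ⟨c, hc, hcK, rfl⟩ r s hr hs
        obtain ⟨g, hg, hgp⟩ := S₀.exists_gate hs hr
        have hginv : ∀ a, S₀.perm g⁻¹ a = S₀.tv s (S₀.tv r a) := fun a => by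
          conv_lhs => rw [← S₀.tv_tv r a, ← S₀.tv_tv s (S₀.tv r a), ← hgp]
          rw [S₀.perm_inv_apply hg]
        have hN1 := S₀.NO.mul_mem (S₀.NO.mul_mem hc hg) (S₀.NO.inv_mem hc)
        refine ⟨_, ⟨c * g * c⁻¹ * g⁻¹, S₀.NO.mul_mem hN1 (S₀.NO.inv_mem hg), ?_, rfl⟩, fun a => ?_⟩
        · have hA := hO.ge (C.dg_self_Nm hxy hQx hk2 hg)
          have h := M.mul_mem (M.mul_mem (M.mul_mem ((hmem c).1 hcK) hA) (M.inv_mem ((hmem c).1 hcK)))
            (M.inv_mem hA)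
          rw [hmem]
          simpa [← map_inv, ← map_mul] using h
        · simp only [Sys.lin_apply]
          rw [S₀.perm_mul hN1 (S₀.NO.inv_mem hg), hginv, S₀.perm_mul (S₀.NO.mul_mem hc hg) (S₀.NO.inv_mem hc),
            S₀.perm_mul hc hg, hgp, S₀.perm_tv hc, S₀.perm_tv hc, S₀.perm_apply_inv hc]
      · rintro _ ⟨c, hc, hcK, rfl⟩ z t hz ht hzt e1 e2 v
        have h1 := S₀.perm_spec hc z
        have h2 := S₀.perm_spec hc t
        rw [show S₀.perm c z = z from e1] at h1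
        rw [show S₀.perm c t = t from e2] at h2
        obtain ⟨a, ha⟩ := hCK c hcK z t hz ht hzt h1 h2
        exact S₀.perm_eq ((((ha.mul (Pm.refl _)).mul ha.inv)).trans (Pm.of_sg (S₀.e_conj a v)))
    refine S₀.mem_Rm_of_fix (hKi c₀ hc₀) fun v => ?_
    have h1 := S₀.perm_spec hc₀N v
    rwa [show S₀.perm c₀ v = v from hall _ ⟨c₀, hc₀N, hc₀, rfl⟩ v] at h1
  -- pass to the quotient by the signs
  have hnegK : (-1 : GL (Fin n) F) ∈ K := hRK S₀.neg_one_mem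
  let N : Subgroup K := Subgroup.zpowers ⟨-1, hnegK⟩
  haveI : N.Normal := ⟨fun m hm g => by
    obtain ⟨j, rfl⟩ := hm
    have hc : Commute g (⟨-1, hnegK⟩ : K) := Subtype.ext (show (g : GL (Fin n) F) * -1 = -1 * g by simp)
    show g * (⟨-1, hnegK⟩ : K) ^ j * g⁻¹ ∈ N
    rw [(hc.zpow_right j).eq, mul_inv_cancel_right]
    exact Subgroup.zpow_mem _ (Subgroup.mem_zpowers _) j⟩
  have hN : ∀ m : K, m ∈ N ↔ Pm (m : GL (Fin n) F) 1 := by
    intro m
    constructor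
    · rintro ⟨j, rfl⟩
      show Pm ((⟨-1, hnegK⟩ : K) ^ j : K).1 1
      rw [Subgroup.coe_zpow]
      rcases Int.even_or_odd j with ⟨l, rfl⟩ | ⟨l, rfl⟩
      · left; rw [_root_.zpow_add, ← (Commute.refl _).mul_zpow]; simp
      · right; rw [_root_.zpow_add_one, two_mul, _root_.zpow_add, ← (Commute.refl _).mul_zpow]; simp
    · rintro (h | h)
      · rw [show m = 1 from Subtype.ext h]; exact N.one_mem
      · rw [show m = ⟨-1, hnegK⟩ from Subtype.ext h]; exact Subgroup.mem_zpowers _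
  set π := QuotientGroup.mk' N with hπdef
  haveI : Finite (K ⧸ N) := Quotient.finite _
  have hπ : ∀ a b : K, π a = π b ↔ Pm (a : GL (Fin n) F) b := by
    intro a b
    rw [QuotientGroup.mk'_eq_mk']
    constructor
    · rintro ⟨z, hz, rfl⟩
      have := (Pm.refl (a : GL (Fin n) F)).mul ((hN z).1 hz)
      rw [mul_one, ← Subgroup.coe_mul] at this
      exact this.symm
    · intro h
      refine ⟨a⁻¹ * b, (hN _).2 ?_, mul_inv_cancel_left a b⟩
      have := (Pm.refl (a : GL (Fin n) F)⁻¹).mul h.symm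
      rwa [inv_mul_cancel] at this
  let W := (S₀.Rm.subgroupOf K).map π
  let f : C.W → K ⧸ N := fun v => π ⟨S₀.e v, hRK (S₀.e_mem v)⟩
  have hW : ∀ a : K, π a ∈ W → (a : GL (Fin n) F) ∈ S₀.Rm := by
    rintro a ⟨b, hb, e⟩
    exact (mem_iff_of_pm S₀.neg_one_mem ((hπ b a).1 e)).1 hb
  have htop : W = ⊤ := by
    refine S₀.toQuad.eq_top_of_selfnorm hk₀ W f (fun w => ⟨?_, ?_⟩) (fun a b => ?_) ?_ ?_
    · rintro ⟨a, ⟨v, hv⟩, rfl⟩
      exact ⟨v, (hπ _ _).2 hv⟩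
    · rintro ⟨v, rfl⟩
      exact ⟨⟨S₀.e v, hRK (S₀.e_mem v)⟩, S₀.e_mem v, rfl⟩
    · show π _ = π _ * π _
      rw [← map_mul, hπ]
      exact (S₀.e_add a b).symm
    · intro g hg
      obtain ⟨a, rfl⟩ := QuotientGroup.mk'_surjective N g
      refine ⟨a, hKN _ a.2 (S₀.mem_NO_of (hKi _ a.2) fun v => ?_), rfl⟩
      have h1 : π (a * ⟨S₀.e v, hRK (S₀.e_mem v)⟩ * a⁻¹) ∈ W := by
        rw [map_mul, map_mul, map_inv]
        exact (Subgroup.mem_normalizer_iff.1 hg _).1 ⟨⟨S₀.e v, hRK (S₀.e_mem v)⟩, S₀.e_mem v, rfl⟩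
      exact hW _ h1
    · intro g z t hz ht hzt h1 h2
      obtain ⟨a, rfl⟩ := QuotientGroup.mk'_surjective N g
      have conv : ∀ v, π a * f v = f v * π a → Pm ((a : GL (Fin n) F) * S₀.e v * (a : GL (Fin n) F)⁻¹) (S₀.e v) := by
        intro v hv
        change π a * π _ = π _ * π a at hv
        rw [← map_mul, ← map_mul, hπ] at hv
        have := hv.mul (Pm.refl (a : GL (Fin n) F)⁻¹)
        simpa [mul_assoc] using this
      exact ⟨a, hCK _ a.2 z t hz ht hzt (conv z h1) (conv t h2), rfl⟩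
  exact le_antisymm (fun c hc => hW ⟨c, hc⟩ (by rw [htop]; trivial)) hRK

theorem centOne : S.CentOne M := by
  intro x hx hQx g hg hgx
  obtain ⟨y, hxy, hQy⟩ := S.exists_partner hx hQx
  obtain ⟨n, ⟨C⟩⟩ := S.exists_chart hxy hQx hQy
  have hk2 : 2 ≤ S.k := by omega
  have key : ∀ g ∈ M, g * S.e x = S.e x * g → g ∈ S.Nm := by
    intro g hg hgx
    obtain ⟨a, b, rfl⟩ := C.exists_χ hgx
    set S₀ := C.sub hxy hQx hk2 with hS₀
    have hK := hO.side_eq hQ hk C hxy hQx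
    have hey := hO.ge (S.e_mem_Nm (by omega) y)
    obtain ⟨ha, -⟩ := C.χ_mem_iff.1 (om_le (hO.le hg))
    have haN : a ∈ S₀.NO := S₀.mem_NO_of ha fun v => by
      have h1 : C.χ (S₀.e v, 1) ∈ M := hO.ge (C.one_side_Nm hxy hQx hk2 hk (S₀.e_mem v))
      have h2 := M.mul_mem (M.mul_mem hg h1) (M.inv_mem hg)
      rw [← map_inv, ← map_mul, ← map_mul] at h2
      have h3 : a * S₀.e v * a⁻¹ ∈ M.comap (C.χ.comp (MonoidHom.inl _ _)) := by
        show C.χ (a * S₀.e v * a⁻¹, 1) ∈ M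
        simpa using h2
      rwa [hK] at h3
    have hd := C.dg_self_Nm hxy hQx hk2 haN
    have h4 : C.χ (1, a⁻¹ * b) ∈ M := by
      have h := M.mul_mem (M.inv_mem (hO.ge hd)) hg
      rw [← map_inv, ← map_mul] at h
      simpa using h
    have hsw : C.χ (a⁻¹ * b, 1) ∈ M := by
      have h := M.mul_mem (M.mul_mem hey h4) (M.inv_mem hey)
      rwa [C.y_swap, mul_inv_cancel_right] at h
    have h5 : a⁻¹ * b ∈ S₀.Rm := hK ▸ (show a⁻¹ * b ∈ M.comap (C.χ.comp (MonoidHom.inl _ _)) from hsw)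
    have h6 := C.one_side_Nm hxy hQx hk2 hk h5
    have hey' := S.e_mem_Nm (show 3 ≤ S.k by omega) y
    have h7 := S.Nm.mul_mem (S.Nm.mul_mem hey' h6) (S.Nm.inv_mem hey')
    rw [C.y_swap, mul_inv_cancel_right] at h7
    have h8 := S.Nm.mul_mem hd h7
    rw [← map_mul] at h8
    simpa using h8
  rcases hgx with h | h <;> rw [mul_inv_eq_iff_eq_mul] at h
  · exact key g hg h
  · have hey := S.e_mem_Nm (show 3 ≤ S.k by omega) y
    have h1 := key (S.e y * g) (M.mul_mem (hO.ge hey) hg) (by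
      rw [mul_assoc, h, neg_mul, mul_neg, ← mul_assoc, S.e_anti (show S.B y x = 1 by rw [S.B_comm, hxy]), neg_mul,
        neg_neg, mul_assoc])
    have h2 := S.Nm.mul_mem (S.Nm.inv_mem hey) h1
    rwa [inv_mul_cancel_left] at h2

end Over

end CfsgLib.Geo.PauliPlus
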