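import Cfsg.Agent.Geo.PauliPlus.Half
import Cfsg.Agent.Geo.PauliSp.Main
import Cfsg.Agent.Geo.TensorOrthMaximal

/-!
Coordinates attached to two anticommuting monomials of square minus one: the space becomes a tensor product of
a symplectic plane and a symplectic space, and the monomials orthogonal to both form a system of minus type.
-/

set_option autoImplicit false
set_option linter.unusedSectionVars false
set_option linter.unusedSimpArgs false
set_option linter.style.haveILetI false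

namespace CfsgLib.Geo.PauliPlus

open Matrix Module QuadraticMap CfsgLib.Geo.Tensor
open CfsgLib.Geo.PauliEight (sgn sgn_zero sgn_one)
open scoped commutatorElement Kronecker
open CfsgLib.Geo.PauliSp (Idx)

variable {ι : Type} [Fintype ι] [DecidableEq ι] {F : Type*} [Field F] {Q₀ : QuadraticForm F (ι → F)}
  {V : Type*} [AddCommGroup V] [Module (ZMod 2) V] [Fintype V]

local notation "fm" => CfsgLib.Symp.form (R := F)

/-- The alternating form of a plane. -/
def epsB : LinearMap.BilinForm F (Fin 2 → F) :=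
  LinearMap.mk₂ F (fun f g => f 0 * g 1 - f 1 * g 0) (fun f f' g => by simp only [Pi.add_apply]; ring)
    (fun c f g => by simp only [Pi.smul_apply, smul_eq_mul]; ring) (fun f g g' => by simp only [Pi.add_apply]; ring)
    (fun c f g => by simp only [Pi.smul_apply, smul_eq_mul]; ring)

theorem epsB_apply (f g : Fin 2 → F) : epsB f g = f 0 * g 1 - f 1 * g 0 := rfl

theorem epsB_alt : (epsB (F := F)).IsAlt := fun f => by rw [epsB_apply]; ring

theorem epsB_nondeg : (epsB (F := F)).Nondegenerate := by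
  have key : ∀ f : Fin 2 → F, (∀ g, epsB f g = 0) → f = 0 := fun f h => funext fun i => by
    fin_cases i
    · simpa [epsB_apply] using h ![0, 1]
    · simpa [epsB_apply] using h ![1, 0]
  exact ⟨key, fun g h => key g fun f => by rw [← LinearMap.IsAlt.neg (B := epsB (F := F)) epsB_alt f g, h, neg_zero]⟩

/-- The plus type condition: a totally singular subspace of half the dimension. -/
def Quad.Plus {W : Type*} [AddCommGroup W] [Module (ZMod 2) W] (S : Quad W) : Prop :=
  ∃ L : Submodule (ZMod 2) W, (∀ x ∈ L, S.Q x = 0) ∧ S.k ≤ finrank (ZMod 2) L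

/-- The coordinates attached to two anticommuting monomials of square minus one. -/
structure PChart (S : Sys Q₀ V) (u w : V) (m : ℕ) where
  al : F
  be : F
  sq : al * al + be * be = -1
  q : (Fin 2 × Idx m → F) ≃ₗ[F] (ι → F)
  h_act : ∀ a, (al • S.E u + be • S.E w) *ᵥ q a = q (fun p => if p.1 = 0 then a p else -a p)
  j_act : ∀ a, (S.E u * S.E w) *ᵥ q a = q (fun p => if p.1 = 0 then -a (1, p.2) else a (0, p.2))
  form : ∀ a b, polar Q₀ (q a) (q b) =
    fm (fun j => a (0, j)) (fun j => b (1, j)) - fm (fun j => a (1, j)) (fun j => b (0, j))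

namespace Sys

variable (S : Sys Q₀ V)

theorem skew {v : V} (hv : S.Q v = 1) (x y : ι → F) : polar Q₀ (S.E v *ᵥ x) y = -polar Q₀ x (S.E v *ᵥ y) := by
  have h1 := iso_adj (S.mem v) x y
  have hi : ((S.e v)⁻¹ : GL ι F) = -S.e v := inv_eq_of_mul_eq_one_right (by
    rw [mul_neg, S.e_sq, hv, sg_one, neg_neg])
  rw [hi, Units.val_neg, Matrix.neg_mulVec, polar_neg_right] at h1
  exact h1

theorem E_sq_neg {v : V} (hv : S.Q v = 1) : S.E v * S.E v = -1 := by rw [S.E_sq, hv, sgn_one, neg_one_smul]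

theorem E_anti {u w : V} (h : S.B u w = 1) : S.E u * S.E w = -(S.E w * S.E u) := by
  rw [S.E_comm, h, sgn_one, neg_one_smul]

theorem exists_pchart [Finite F] {u w : V} (hu : S.Q u = 1) (hw : S.Q w = 1) (huw : S.B u w = 1) :
    ∃ m, Nonempty (PChart S u w m) := by
  classical
  obtain ⟨α, β, hab⟩ : ∃ α β : F, α * α + β * β = -1 := by
    obtain ⟨x, y, h⟩ := CfsgLib.Forms.exists_binary S.two (one_ne_zero (α := F)) one_ne_zero (-1)
    exact ⟨x, y, by linear_combination h⟩
  have hU := S.E_sq_neg hu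
  have hW := S.E_sq_neg hw
  have hWU : S.E w * S.E u = -(S.E u * S.E w) := by rw [S.E_anti huw, neg_neg]
  set hm : Mx ι F := α • S.E u + β • S.E w with hhm
  set J : Mx ι F := S.E u * S.E w with hJdef
  have hhh : hm * hm = 1 := by
    rw [hhm]
    simp only [add_mul, mul_add, smul_mul_assoc, mul_smul_comm, smul_smul, hU, hW, hWU]
    match_scalars
    · linear_combination -hab
    · ring
  have hJJ : J * J = -1 := by
    rw [hJdef, mul_assoc, ← mul_assoc (S.E w), hWU, neg_mul, mul_neg, mul_assoc, hW, mul_neg, mul_one, mul_neg,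
      hU, neg_neg]
  have hhJ : hm * J = -(J * hm) := by
    have e1 : S.E w * (S.E u * S.E w) = S.E u := by rw [← mul_assoc, hWU, neg_mul, mul_assoc, hW, mul_neg, mul_one, neg_neg]
    have e2 : S.E u * S.E w * S.E u = S.E w := by rw [mul_assoc, hWU, mul_neg, ← mul_assoc, hU, neg_one_mul, neg_neg]
    rw [hhm, hJdef, add_mul, mul_add, smul_mul_assoc, smul_mul_assoc, mul_smul_comm, mul_smul_comm, e1, e2,
      ← mul_assoc, hU, mul_assoc (S.E u) (S.E w) (S.E w), hW]
    simp only [neg_mul, one_mul, mul_neg, mul_one, smul_neg]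
    abel
  have hJs : ∀ x y, polar Q₀ (J *ᵥ x) y = -polar Q₀ x (J *ᵥ y) := fun x y => by
    rw [hJdef, ← Matrix.mulVec_mulVec, ← Matrix.mulVec_mulVec, S.skew hu, S.skew hw, Matrix.mulVec_mulVec,
      Matrix.mulVec_mulVec, hWU, Matrix.neg_mulVec, polar_neg_right, neg_neg]
  have hhs : ∀ x y, polar Q₀ (hm *ᵥ x) y = -polar Q₀ x (hm *ᵥ y) := fun x y => by
    simp only [hhm, Matrix.add_mulVec, Matrix.smul_mulVec, polar_add_left, polar_add_right, polar_smul_left,
      polar_smul_right, S.skew hu, S.skew hw, smul_eq_mul]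
    ring
  set X := Matrix.toLin' hm with hX
  have hXa : ∀ v, X v = hm *ᵥ v := fun v => Matrix.toLin'_apply _ v
  set Vp := LinearMap.ker (X - LinearMap.id) with hVp
  set Vm := LinearMap.ker (X + LinearMap.id) with hVm
  have hp : ∀ v, v ∈ Vp ↔ hm *ᵥ v = v := fun v => by simp [hVp, hXa, sub_eq_zero]
  have hn : ∀ v, v ∈ Vm ↔ hm *ᵥ v = -v := fun v => by simp [hVm, hXa, eq_neg_iff_add_eq_zero]
  have hswap : ∀ v, hm *ᵥ (J *ᵥ v) = -(J *ᵥ (hm *ᵥ v)) := fun v => by
    rw [Matrix.mulVec_mulVec, Matrix.mulVec_mulVec, hhJ, Matrix.neg_mulVec]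
  have hJ2 : ∀ v, J *ᵥ (J *ᵥ v) = -v := fun v => by
    rw [Matrix.mulVec_mulVec, hJJ, Matrix.neg_mulVec, Matrix.one_mulVec]
  have hc : IsCompl Vp Vm := ker_sub_compl S.two X fun v => by
    rw [hXa, hXa, Matrix.mulVec_mulVec, hhh, Matrix.one_mulVec]
  have hJp : ∀ {v}, v ∈ Vp → J *ᵥ v ∈ Vm := fun {v} hv => (hn _).2 (by rw [hswap, (hp v).1 hv])
  have hJm : ∀ {v}, v ∈ Vm → J *ᵥ v ∈ Vp := fun {v} hv => (hp _).2 (by
    rw [hswap, (hn v).1 hv, Matrix.mulVec_neg, neg_neg])
  let g : Vp ≃ₗ[F] Vm :=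
    { toFun := fun v => ⟨J *ᵥ (v : ι → F), hJp v.2⟩
      invFun := fun v => ⟨-(J *ᵥ (v : ι → F)), Vp.neg_mem (hJm v.2)⟩
      map_add' := fun a b => Subtype.ext (by simp [Matrix.mulVec_add])
      map_smul' := fun c a => Subtype.ext (by simp [Matrix.mulVec_smul])
      left_inv := fun v => Subtype.ext (show -(J *ᵥ (J *ᵥ (v : ι → F))) = _ by rw [hJ2, neg_neg])
      right_inv := fun v => Subtype.ext (show J *ᵥ (-(J *ᵥ (v : ι → F))) = _ by rw [Matrix.mulVec_neg, hJ2, neg_neg]) }
  have hsame : ∀ {a b : ι → F}, a ∈ Vp → b ∈ Vp → polar Q₀ a b = 0 := fun {a b} ha hb => by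
    have h := hhs a b
    rw [(hp a).1 ha, (hp b).1 hb] at h
    exact (mul_eq_zero.1 (show (2 : F) * polar Q₀ a b = 0 by linear_combination h)).resolve_left S.two
  let om : LinearMap.BilinForm F Vp :=
    ((polarBilin Q₀).compl₁₂ LinearMap.id (Matrix.toLin' J)).compl₁₂ Vp.subtype Vp.subtype
  have hom : ∀ a b : Vp, om a b = polar Q₀ (a : ι → F) (J *ᵥ (b : ι → F)) := fun a b => by
    simp [om, Matrix.toLin'_apply]
  have halt : om.IsAlt := fun a => by
    rw [hom]
    have h := hJs (a : ι → F) a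
    rw [polar_comm] at h
    exact (mul_eq_zero.1 (show (2 : F) * polar Q₀ (a : ι → F) (J *ᵥ (a : ι → F)) = 0 by linear_combination h)).resolve_left S.two
  obtain ⟨m, r, b, h1, h2, h3, hrad⟩ := CfsgLib.Forms.exists_symplectic_basis _ Vp om halt rfl
  have hr : r = 0 := by
    by_contra hr
    set a := b (Sum.inr ⟨0, Nat.pos_of_ne_zero hr⟩) with ha
    refine b.ne_zero (Sum.inr ⟨0, Nat.pos_of_ne_zero hr⟩) (Subtype.ext (S.std.nd.1 _ fun z => ?_))
    obtain ⟨z1, hz1, z2, hz2, rfl⟩ := Submodule.mem_sup.1 (hc.sup_eq_top ▸ Submodule.mem_top : z ∈ Vp ⊔ Vm)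
    show polar Q₀ (a : ι → F) (z1 + z2) = 0
    rw [polar_add_right, hsame a.2 hz1, zero_add]
    have h := hrad (⟨0, Nat.pos_of_ne_zero hr⟩) (g.symm ⟨z2, hz2⟩)
    rw [← ha, hom] at h
    rw [show J *ᵥ ((g.symm ⟨z2, hz2⟩ : Vp) : ι → F) = z2 from congrArg Subtype.val (g.apply_symm_apply _)] at h
    exact h
  subst hr
  let v : Idx m → ι → F := fun j => ((b (Sum.inl (Sum.elim Sum.inr Sum.inl j)) : Vp) : ι → F)
  let L := Fintype.linearCombination F v
  have hLp : ∀ a, L a ∈ Vp := fun a => by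
    rw [Fintype.linearCombination_apply]
    exact Vp.sum_mem fun j _ => Vp.smul_mem _ (b _).2
  have hL : ∀ a c : Idx m → F, polar Q₀ (L a) (J *ᵥ L c) = fm a c := by
    have h1' : ∀ p q : Fin m, om (b (Sum.inl (Sum.inr p))) (b (Sum.inl (Sum.inl q))) = -(if q = p then 1 else 0) :=
      fun p q => by rw [← LinearMap.IsAlt.neg halt]; exact congrArg Neg.neg (h1 q p)
    have key : ((polarBilin Q₀).compl₁₂ L ((Matrix.toLin' J).comp L)) = PauliSp.formB m := by
      refine LinearMap.ext_basis (Pi.basisFun F (Idx m)) (Pi.basisFun F (Idx m)) fun i j => ?_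
      simp only [LinearMap.compl₁₂_apply, LinearMap.comp_apply, Pi.basisFun_apply, L,
        Fintype.linearCombination_apply_single, one_smul, PauliSp.formB_apply, Matrix.toLin'_apply,
        QuadraticMap.polarBilin_apply_apply, v, ← hom]
      rw [show fm (Pi.single i 1 : Idx m → F) (Pi.single j 1) = Matrix.J (Fin m) F i j by
        simp [CfsgLib.Symp.form, single_dotProduct, Matrix.mulVec_single_one]]
      rcases i with i | i <;> rcases j with j | j
      · exact (h3 i j).trans (by simp [Matrix.J])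
      · exact (h1' i j).trans (by simp [Matrix.J, Matrix.one_apply, eq_comm])
      · exact (h1 i j).trans (by simp [Matrix.J, Matrix.one_apply])
      · exact (h2 i j).trans (by simp [Matrix.J])
    intro a c
    have := LinearMap.congr_fun₂ key a c
    simpa [Matrix.toLin'_apply, PauliSp.formB_apply] using this
  let q₀ : (Fin 2 × Idx m → F) →ₗ[F] (ι → F) :=
    L.comp (LinearMap.funLeft F F fun j => ((0 : Fin 2), j)) +
      (Matrix.toLin' J).comp (L.comp (LinearMap.funLeft F F fun j => ((1 : Fin 2), j)))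
  have hq₀ : ∀ a, q₀ a = L (fun j => a (0, j)) + J *ᵥ L (fun j => a (1, j)) := fun a => by
    simp [q₀, LinearMap.funLeft, Function.comp_def, Matrix.toLin'_apply]
  have hzero : ∀ a, L a = 0 → a = 0 := fun a ha => CfsgLib.Symp.eq_zero_of_form_eq_zero fun u => by
    rw [CfsgLib.Symp.form_swap, ← hL, ha]
    simp
  have hinj : Function.Injective q₀ := (injective_iff_map_eq_zero _).2 fun a ha => by
    rw [hq₀] at ha
    have e1 : L (fun j => a (0, j)) = 0 := Submodule.disjoint_def.1 hc.disjoint _ (hLp _) (by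
      rw [eq_neg_of_add_eq_zero_left ha]; exact Vm.neg_mem (hJp (hLp _)))
    rw [e1, zero_add] at ha
    have e2 : L (fun j => a (1, j)) = 0 := by
      rw [← neg_neg (L _), ← hJ2 (L (fun j => a (1, j))), ha, Matrix.mulVec_zero, neg_zero]
    funext ⟨i, j⟩
    fin_cases i
    exacts [congrFun (hzero _ e1) j, congrFun (hzero _ e2) j]
  have hfr : finrank F Vp = m + m := by
    rw [Module.finrank_eq_card_basis b]
    simp
  have hdim : finrank F (Fin 2 × Idx m → F) = finrank F (ι → F) := by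
    rw [← Submodule.finrank_add_eq_of_isCompl hc, ← g.finrank_eq, hfr, Module.finrank_fintype_fun_eq_card]
    simp [two_mul]
  refine ⟨m, ⟨⟨α, β, hab, LinearMap.linearEquivOfInjective q₀ hinj hdim, fun a => ?_, fun a => ?_, fun a c => ?_⟩⟩⟩
  · show hm *ᵥ q₀ a = q₀ _
    rw [hq₀, hq₀, Matrix.mulVec_add, (hp _).1 (hLp _), (hn _).1 (hJp (hLp _))]
    simp only [↓reduceIte, one_ne_zero]
    rw [show (fun j => -a (1, j)) = -(fun j => a ((1 : Fin 2), j)) from rfl, map_neg, Matrix.mulVec_neg]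
  · show J *ᵥ q₀ a = q₀ _
    rw [hq₀, hq₀, Matrix.mulVec_add, hJ2]
    simp only [↓reduceIte, one_ne_zero]
    rw [show (fun j => -a (1, j)) = -(fun j => a ((1 : Fin 2), j)) from rfl, map_neg, add_comm]
  · show polar Q₀ (q₀ a) (q₀ c) = _
    rw [hq₀, hq₀]
    simp only [polar_add_left, polar_add_right, hsame (hLp _) (hLp _), hL]
    rw [hJs (L fun j => a (1, j)) (J *ᵥ L fun j => c (1, j)), hJ2, polar_neg_right, neg_neg,
      hsame (hLp _) (hLp _), hJs (L fun j => a (1, j)) (L fun j => c (0, j)), hL]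
    ring

end Sys

namespace PChart

variable {S : Sys Q₀ V} {u w : V} {m : ℕ} (C : PChart S u w m)

/-- The algebra isomorphism of a chart. -/
noncomputable def φ : Matrix (Fin 2 × Idx m) (Fin 2 × Idx m) F ≃ₐ[F] Mx ι F :=
  (Matrix.toLinAlgEquiv' (R := F)).trans ((C.q.conjAlgEquiv F).trans (Matrix.toLinAlgEquiv' (R := F)).symm)

theorem φ_mulVec (X : Matrix (Fin 2 × Idx m) (Fin 2 × Idx m) F) (v : Fin 2 × Idx m → F) :
    C.φ X *ᵥ C.q v = C.q (X *ᵥ v) := by
  rw [← Matrix.toLinAlgEquiv'_apply, φ]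
  simp [LinearEquiv.conjAlgEquiv_apply]

theorem eq_of_mulVec {A B : Mx ι F} (h : ∀ v, A *ᵥ C.q v = B *ᵥ C.q v) : A = B := by
  refine Matrix.toLin'.injective (LinearMap.ext fun z => ?_)
  obtain ⟨v, rfl⟩ := C.q.surjective z
  simpa [Matrix.toLin'_apply] using h v

/-- The element acting on the second factor alone. -/
noncomputable def dia (A : Matrix (Idx m) (Idx m) F) : Mx ι F := C.φ ((1 : Matrix (Fin 2) (Fin 2) F) ⊗ₖ A)

theorem dia_mulVec (A : Matrix (Idx m) (Idx m) F) (a : Fin 2 × Idx m → F) :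
    C.dia A *ᵥ C.q a = C.q (fun p => (A *ᵥ fun j => a (p.1, j)) p.2) := by
  rw [dia, C.φ_mulVec]
  congr 1
  funext ⟨i, j⟩
  simp [Matrix.mulVec, dotProduct, Fintype.sum_prod_type, Matrix.kroneckerMap_apply, Matrix.one_apply]

theorem dia_mul (A B : Matrix (Idx m) (Idx m) F) : C.dia A * C.dia B = C.dia (A * B) := by
  rw [dia, dia, dia, ← map_mul, ← Matrix.mul_kronecker_mul, one_mul]

theorem dia_one : C.dia 1 = 1 := by rw [dia, Matrix.one_kronecker_one, map_one]

theorem dia_smul (c : F) : C.dia (c • 1) = c • 1 := by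
  rw [dia, Matrix.kronecker_smul, Matrix.one_kronecker_one, map_smul, map_one]

theorem dia_inj {A B : Matrix (Idx m) (Idx m) F} (h : C.dia A = C.dia B) : A = B := by
  ext i j
  have h' := congrFun (congrFun (C.φ.injective h) ((0 : Fin 2), i)) ((0 : Fin 2), j)
  simpa [Matrix.kroneckerMap_apply] using h'

/-- The group homomorphism of the second factor. -/
noncomputable def χ : GL (Idx m) F →* GL ι F :=
  Units.map
    { toFun := C.dia
      map_one' := C.dia_one
      map_mul' := fun A B => (C.dia_mul A B).symm }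

theorem χ_val (c : GL (Idx m) F) : (C.χ c : Mx ι F) = C.dia (c : Matrix (Idx m) (Idx m) F) := rfl

theorem χ_inj {a b : GL (Idx m) F} (h : C.χ a = C.χ b) : a = b :=
  Units.ext (C.dia_inj (congrArg Units.val h))

theorem χ_mulVec (c : GL (Idx m) F) (a : Fin 2 × Idx m → F) :
    (C.χ c : Mx ι F) *ᵥ C.q a =
      C.q (fun p => ((c : Matrix (Idx m) (Idx m) F) *ᵥ fun j => a (p.1, j)) p.2) :=
  C.dia_mulVec _ _

theorem χ_neg_one : C.χ (-1) = -1 := Units.ext (by
  rw [χ_val, Units.val_neg, Units.val_one, ← neg_one_smul F (1 : Matrix (Idx m) (Idx m) F), C.dia_smul,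
    Units.val_neg, Units.val_one, neg_one_smul])

theorem χ_sg (b : ZMod 2) : C.χ (PauliSp.sg b) = sg b := by
  rcases bit b with rfl | rfl
  · simp [PauliSp.sg_zero]
  · rw [PauliSp.sg_one, C.χ_neg_one, sg_one]

theorem pm_χ {a b : GL (Idx m) F} : Pm (C.χ a) (C.χ b) ↔ PauliSp.Pm a b := by
  have hn : ∀ c, -C.χ c = C.χ (-c) := fun c => by
    rw [← neg_one_mul, ← C.χ_neg_one, ← map_mul, neg_one_mul]
  constructor
  · rintro (h | h)
    · exact Or.inl (C.χ_inj h)
    · rw [hn] at h
      exact Or.inr (C.χ_inj h)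
  · rintro (rfl | rfl)
    · exact Or.inl rfl
    · exact Or.inr (hn b).symm

theorem χ_mem_iff [Nonempty (Idx m)] {c : GL (Idx m) F} : C.χ c ∈ iso Q₀ ↔ c ∈ Cfsg.spGL m F := by
  constructor
  · intro h
    refine SpTv.mem_spGL.2 fun x y => ?_
    have h' := iso_polar h (C.q (ten (Pi.single 0 1) x)) (C.q (ten (Pi.single 1 1) y))
    rw [C.χ_mulVec, C.χ_mulVec, C.form, C.form] at h'
    simpa [ten, CfsgLib.Symp.form_zero_left, CfsgLib.Symp.form_zero_right, show (fun _ : Idx m => (0 : F)) = 0 from rfl]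
      using h'
  · intro h
    refine mem_iso_of_polar S.two fun x y => ?_
    obtain ⟨a, rfl⟩ := C.q.surjective x
    obtain ⟨b, rfl⟩ := C.q.surjective y
    rw [C.χ_mulVec, C.χ_mulVec, C.form, C.form]
    show fm ((c : Matrix (Idx m) (Idx m) F) *ᵥ fun j => a (0, j)) ((c : Matrix (Idx m) (Idx m) F) *ᵥ fun j => b (1, j)) -
      fm ((c : Matrix (Idx m) (Idx m) F) *ᵥ fun j => a (1, j)) ((c : Matrix (Idx m) (Idx m) F) *ᵥ fun j => b (0, j)) = _
    rw [SpTv.form_mulVec h, SpTv.form_mulVec h]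

theorem dia_h (A : Matrix (Idx m) (Idx m) F) :
    C.dia A * (C.al • S.E u + C.be • S.E w) = (C.al • S.E u + C.be • S.E w) * C.dia A := by
  refine C.eq_of_mulVec fun a => ?_
  rw [← Matrix.mulVec_mulVec, ← Matrix.mulVec_mulVec, C.h_act, C.dia_mulVec, C.dia_mulVec, C.h_act]
  congr 1
  funext ⟨i, j⟩
  fin_cases i <;> simp [Matrix.mulVec, dotProduct]

theorem dia_J (A : Matrix (Idx m) (Idx m) F) : C.dia A * (S.E u * S.E w) = S.E u * S.E w * C.dia A := by
  refine C.eq_of_mulVec fun a => ?_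
  rw [← Matrix.mulVec_mulVec, ← Matrix.mulVec_mulVec (C.q a) (S.E u * S.E w), C.j_act, C.dia_mulVec, C.dia_mulVec,
    C.j_act]
  congr 1
  funext ⟨i, j⟩
  fin_cases i <;> simp [Matrix.mulVec, dotProduct]

variable (hu : S.Q u = 1) (hw : S.Q w = 1) (huw : S.B u w = 1)
include hu hw huw

theorem E_combine : S.E u = -(C.al • (C.al • S.E u + C.be • S.E w) +
      C.be • ((C.al • S.E u + C.be • S.E w) * (S.E u * S.E w))) ∧
    S.E w = -(C.be • (C.al • S.E u + C.be • S.E w) -
      C.al • ((C.al • S.E u + C.be • S.E w) * (S.E u * S.E w))) := by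
  have hU := S.E_sq_neg hu
  have hW := S.E_sq_neg hw
  have hWU : S.E w * S.E u = -(S.E u * S.E w) := by rw [S.E_anti huw, neg_neg]
  have e1 : (C.al • S.E u + C.be • S.E w) * (S.E u * S.E w) = -(C.al • S.E w) + C.be • S.E u := by
    rw [add_mul, smul_mul_assoc, smul_mul_assoc, ← mul_assoc, hU, neg_one_mul, smul_neg, ← mul_assoc (S.E w), hWU,
      neg_mul, mul_assoc, hW, mul_neg, mul_one, neg_neg]
  rw [e1]
  constructor <;> match_scalars <;> (first | linear_combination -C.sq | linear_combination C.sq | ring)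

theorem dia_comm (A : Matrix (Idx m) (Idx m) F) :
    C.dia A * S.E u = S.E u * C.dia A ∧ C.dia A * S.E w = S.E w * C.dia A := by
  obtain ⟨e1, e2⟩ := C.E_combine hu hw huw
  have h1 := C.dia_h A
  have h2 : C.dia A * ((C.al • S.E u + C.be • S.E w) * (S.E u * S.E w)) =
      (C.al • S.E u + C.be • S.E w) * (S.E u * S.E w) * C.dia A := by
    rw [← mul_assoc, h1, mul_assoc, C.dia_J, ← mul_assoc]
  generalize C.al • S.E u + C.be • S.E w = H at e1 e2 h1 h2
  generalize H * (S.E u * S.E w) = K at e1 e2 h2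
  constructor
  · rw [e1]; simp only [mul_neg, neg_mul, mul_add, add_mul, mul_smul_comm, smul_mul_assoc, h1, h2]
  · rw [e2]; simp only [mul_neg, neg_mul, mul_sub, sub_mul, mul_smul_comm, smul_mul_assoc, h1, h2]

omit hu hw huw in
/-- A matrix commuting with both monomials acts on the second factor alone. -/
theorem exists_dia {X : Mx ι F} (h1 : X * S.E u = S.E u * X) (h2 : X * S.E w = S.E w * X) :
    ∃ A, X = C.dia A := by
  classical
  let A : Matrix (Idx m) (Idx m) F := fun i j => C.q.symm (X *ᵥ C.q (ten (Pi.single 0 1) (Pi.single j 1))) (0, i)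
  have hh : X * (C.al • S.E u + C.be • S.E w) = (C.al • S.E u + C.be • S.E w) * X := by
    simp only [mul_add, add_mul, mul_smul_comm, smul_mul_assoc, h1, h2]
  have hj : X * (S.E u * S.E w) = S.E u * S.E w * X := by rw [← mul_assoc, h1, mul_assoc, h2, mul_assoc]
  have key0 : ∀ x : Idx m → F, X *ᵥ C.q (ten (Pi.single 0 1) x) = C.q (ten (Pi.single 0 1) (A *ᵥ x)) := by
    intro x
    obtain ⟨y, hy⟩ := C.q.surjective (X *ᵥ C.q (ten (Pi.single 0 1) x))
    have hfix : ∀ i j, i ≠ (0 : Fin 2) → y (i, j) = 0 := by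
      intro i j hi
      have e := congrArg (C.q.symm) (show (C.al • S.E u + C.be • S.E w) *ᵥ (X *ᵥ C.q (ten (Pi.single 0 1) x)) =
          X *ᵥ C.q (ten (Pi.single 0 1) x) by
        rw [Matrix.mulVec_mulVec, ← hh, ← Matrix.mulVec_mulVec, C.h_act]
        congr 2
        funext ⟨i, j⟩
        fin_cases i <;> simp [ten])
      rw [← hy, C.h_act, LinearEquiv.symm_apply_apply, LinearEquiv.symm_apply_apply] at e
      have e' := congrFun e (i, j)
      simp only [if_neg hi] at e'
      exact (mul_eq_zero.1 (show (2 : F) * y (i, j) = 0 by linear_combination -e')).resolve_left S.two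
    have hlin : (fun i => y (0, i)) = A *ᵥ x := by
      funext i
      have hx : C.q (ten (Pi.single 0 1) x) = ∑ j, x j • C.q (ten (Pi.single 0 1) (Pi.single j 1)) := by
        simp only [← map_smul]
        rw [← map_sum]
        congr 1
        funext ⟨a, b⟩
        simp [Finset.sum_apply, ten, Pi.single_apply, mul_comm]
      have hy' : y = C.q.symm (X *ᵥ C.q (ten (Pi.single 0 1) x)) := by rw [← hy, LinearEquiv.symm_apply_apply]
      rw [hy', hx, Matrix.mulVec_sum, map_sum, Finset.sum_apply]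
      simp only [Matrix.mulVec_smul, map_smul, Pi.smul_apply, smul_eq_mul]
      rw [Matrix.mulVec, dotProduct]
      exact Finset.sum_congr rfl fun j _ => mul_comm _ _
    rw [← hy]
    congr 1
    funext ⟨i, j⟩
    by_cases hi : i = 0
    · subst hi
      simp [ten, ← hlin]
    · simp [ten, hfix i j hi, Pi.single_apply, hi]
  refine ⟨A, C.eq_of_mulVec fun a => ?_⟩
  have ea : a = ten (Pi.single 0 1) (fun j => a (0, j)) + ten (Pi.single 1 1) (fun j => a (1, j)) := by
    funext ⟨i, j⟩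
    fin_cases i <;> simp [ten]
  have hJ : ∀ x : Idx m → F, C.q (ten (Pi.single 1 1) x) = (S.E u * S.E w) *ᵥ C.q (ten (Pi.single 0 1) x) := by
    intro x
    rw [C.j_act]
    congr 1
    funext ⟨i, j⟩
    fin_cases i <;> simp [ten]
  rw [C.dia_mulVec]
  conv_lhs => rw [ea, map_add, Matrix.mulVec_add, hJ, Matrix.mulVec_mulVec (C.q _) X, hj, ← Matrix.mulVec_mulVec,
    key0, key0, ← hJ, ← map_add]
  congr 1
  funext ⟨i, j⟩
  fin_cases i <;> simp [ten]

omit hu hw huw in
/-- A unit commuting with both monomials comes from the second factor. -/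
theorem exists_χ {g : GL ι F} (h1 : g * S.e u = S.e u * g) (h2 : g * S.e w = S.e w * g) :
    ∃ c, g = C.χ c := by
  have e1 := congrArg Units.val h1
  have e2 := congrArg Units.val h2
  have e1' : g⁻¹ * S.e u = S.e u * g⁻¹ := by rw [inv_mul_eq_iff_eq_mul, ← mul_assoc, h1, mul_inv_cancel_right]
  have e2' : g⁻¹ * S.e w = S.e w * g⁻¹ := by rw [inv_mul_eq_iff_eq_mul, ← mul_assoc, h2, mul_inv_cancel_right]
  obtain ⟨A, hA⟩ := C.exists_dia (X := (g : Mx ι F)) e1 e2
  obtain ⟨A', hA'⟩ := C.exists_dia (X := ((g⁻¹ : GL ι F) : Mx ι F)) (congrArg Units.val e1') (congrArg Units.val e2')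
  have e3 : A * A' = 1 := C.dia_inj (by rw [← C.dia_mul, ← hA, ← hA', Units.mul_inv, C.dia_one])
  have e4 : A' * A = 1 := C.dia_inj (by rw [← C.dia_mul, ← hA, ← hA', Units.inv_mul, C.dia_one])
  exact ⟨⟨A, A', e3, e4⟩, Units.ext hA⟩

end PChart

end CfsgLib.Geo.PauliPlus
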