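import Cfsg.Agent.Geo.PauliPlus.Pair
import Cfsg.Agent.Classical.SymplecticSimple
import Cfsg.Agent.Geo.SympTv

/-!
Overgroups of the monomial normaliser meet the centraliser of two anticommuting monomials of square minus one
inside the normaliser: otherwise they contain a tensor product of symplectic groups and an element not
preserving it, hence the whole derived group.
-/

set_option autoImplicit false
set_option linter.unusedSectionVars false
set_option linter.unusedSimpArgs false
set_option linter.style.haveILetI false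

namespace CfsgLib.Geo.PauliPlus

open Matrix Module QuadraticMap CfsgLib.Geo.Tensor
open CfsgLib.Geo.PauliEight (sgn sgn_zero sgn_one)
open CfsgLib.Geo.PauliSp (Idx formB formB_apply)
open scoped commutatorElement

variable {ι : Type} [Fintype ι] [DecidableEq ι] {F : Type*} [Field F] {Q₀ : QuadraticForm F (ι → F)}
  {V : Type*} [AddCommGroup V] [Module (ZMod 2) V] [Fintype V]

local notation "fm" => CfsgLib.Symp.form (R := F)

theorem formB_alt (m : ℕ) : (formB (F := F) m).IsAlt := fun a => CfsgLib.Symp.form_self a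

theorem formB_nondeg (m : ℕ) : (formB (F := F) m).Nondegenerate :=
  ⟨fun _ ha => CfsgLib.Symp.eq_zero_of_form_eq_zero fun u => by
      rw [CfsgLib.Symp.form_swap]; exact neg_eq_zero.2 (ha u),
    fun _ ha => CfsgLib.Symp.eq_zero_of_form_eq_zero fun u => ha u⟩

namespace Quad

variable (S : Quad V)

theorem finrank_pair {u w : V} (h : S.B u w = 1) :
    finrank (ZMod 2) (Submodule.span (ZMod 2) ({u, w} : Set V)) = 2 := by
  refine le_antisymm (finrank_span_le_two u w) ?_
  have h3 : Submodule.span (ZMod 2) {u} < Submodule.span (ZMod 2) ({u, w} : Set V) := by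
    refine lt_of_le_of_ne (Submodule.span_mono (by simp)) fun e => ?_
    have hy : w ∈ Submodule.span (ZMod 2) {u} := e ▸ Submodule.subset_span (by simp)
    obtain ⟨a, rfl⟩ := Submodule.mem_span_singleton.1 hy
    rw [map_smul, S.B_self, smul_zero] at h
    exact zero_ne_one h
  have h4 := Submodule.finrank_lt_finrank_of_lt h3
  rw [finrank_span_singleton (S.ne_zero_of_B h)] at h4
  omega

/-- In a space of plus type the orthogonal space of an anisotropic plane is of minus type. -/
theorem minus_of_plus (hp : S.Plus) {u w : V} (hu : S.Q u = 1) (hw : S.Q w = 1) (huw : S.B u w = 1)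
    (U : Submodule (ZMod 2) V) (hUW : U ≤ S.perp (Submodule.span (ZMod 2) ({u, w} : Set V)))
    (hU : ∀ x ∈ U, S.Q x = 0) : finrank (ZMod 2) U + 1 < S.k := by
  obtain ⟨L, hL, hLk⟩ := hp
  set P := Submodule.span (ZMod 2) ({u, w} : Set V) with hP
  have hiso : ∀ {T : Submodule (ZMod 2) V}, (∀ x ∈ T, S.Q x = 0) → T ≤ S.perp T := by
    intro T hT x hx y hy
    have := S.Q_add y x
    rw [hT _ (T.add_mem hy hx), hT y hy, hT x hx, zero_add, zero_add] at this
    exact this.symm
  have h1 : P ≤ S.perp U := fun x hx y hy => by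
    rw [S.B_comm]; exact hUW hy x hx
  have h2 : U ⊔ P ≤ S.perp U := sup_le (hiso hU) h1
  have hQP : ∀ x ∈ P, S.Q x = 0 → x = 0 := by
    intro x hx h
    obtain ⟨a, b, rfl⟩ := Submodule.mem_span_pair.1 hx
    rcases bit a with rfl | rfl <;> rcases bit b with rfl | rfl <;>
      simp only [zero_smul, one_smul, zero_add, add_zero] at h ⊢
    · exact absurd (h.symm.trans hw) zero_ne_one
    · exact absurd (h.symm.trans hu) zero_ne_one
    · rw [S.Q_add, hu, hw, huw] at h
      exact absurd h (by decide)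
  have hdisj : U ⊓ P = ⊥ := eq_bot_iff.2 fun x ⟨hx, hx'⟩ => (Submodule.mem_bot _).2 (hQP x hx' (hU x hx))
  have h3 := Submodule.finrank_sup_add_finrank_inf_eq U P
  rw [hdisj, finrank_bot, S.finrank_pair huw] at h3
  have h4 := S.finrank_perp U
  have h5 := Submodule.finrank_mono h2
  by_contra hcon
  have heq : U ⊔ P = S.perp U := Submodule.eq_of_le_of_finrank_le h2 (by omega)
  have hLU : L ⊓ S.perp U ≤ U := by
    rintro x ⟨hxL, hx⟩
    rw [← heq] at hx
    obtain ⟨s, hs, p, hp', rfl⟩ := Submodule.mem_sup.1 hx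
    have hsp : S.B s p = 0 := h1 hp' s hs
    have := hL _ hxL
    rw [S.Q_add, hU s hs, hsp, zero_add, add_zero] at this
    rw [hQP p hp' this, add_zero]
    exact hs
  have hsup : L ⊔ S.perp U ≤ S.perp (L ⊓ U) :=
    sup_le ((hiso hL).trans fun x hx y hy => hx y hy.1) fun x hx y hy => hx y hy.2
  have h6 := Submodule.finrank_sup_add_finrank_inf_eq L (S.perp U)
  have h7 := Submodule.finrank_mono (show L ⊓ S.perp U ≤ L ⊓ U from le_inf inf_le_left hLU)
  have h8 := Submodule.finrank_mono hsup
  have h9 := S.finrank_perp (L ⊓ U)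
  omega

end Quad

/-- An overgroup of the monomial normaliser not containing the derived group. -/
structure Over (S : Sys Q₀ V) (M : Subgroup (GL ι F)) : Prop where
  ge : S.Nm ≤ M
  le : M ≤ om Q₀
  ne : ¬ om Q₀ ≤ M

namespace PChart

variable {S : Sys Q₀ V} {u w : V} {m : ℕ} (C : PChart S u w m)

/-- The vectors orthogonal to both monomials. -/
abbrev W (_C : PChart S u w m) : Submodule (ZMod 2) V := S.perp (Submodule.span (ZMod 2) ({u, w} : Set V))

theorem mem_W {z : V} : z ∈ C.W ↔ S.B u z = 0 ∧ S.B w z = 0 := S.mem_perp_pair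

noncomputable instance instFintypeW : Fintype C.W := Fintype.ofFinite _

theorem exists_e (z : C.W) : ∃ c, S.e z = C.χ c := by
  obtain ⟨h1, h2⟩ := C.mem_W.1 z.2
  exact C.exists_χ (S.e_comm' h1).symm (S.e_comm' h2).symm

/-- The block of a monomial orthogonal to both. -/
noncomputable def e₀ (z : C.W) : GL (Idx m) F := (C.exists_e z).choose

theorem e₀_spec (z : C.W) : S.e z = C.χ (C.e₀ z) := (C.exists_e z).choose_spec

theorem e₀_unique {z : C.W} {a : GL (Idx m) F} (h : S.e z = C.χ a) : C.e₀ z = a :=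
  C.χ_inj ((C.e₀_spec z).symm.trans h)

include C in
theorem card_eq : Fintype.card ι = 2 * (m + m) := by
  have h := C.q.finrank_eq
  rw [Module.finrank_fintype_fun_eq_card, Module.finrank_fintype_fun_eq_card] at h
  rw [← h]
  simp

include C in
theorem pos : 0 < m := by
  haveI := S.nonempty
  have := C.card_eq
  have := Fintype.card_pos (α := ι)
  omega

include C in
theorem nonempty_idx : Nonempty (Idx m) := ⟨Sum.inl ⟨0, C.pos⟩⟩

theorem dia_add (A B : Matrix (Idx m) (Idx m) F) : C.dia (A + B) = C.dia A + C.dia B := by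
  rw [dia, Matrix.kronecker_add, map_add]; rfl

theorem dia_smul' (c : F) (A : Matrix (Idx m) (Idx m) F) : C.dia (c • A) = c • C.dia A := by
  rw [dia, Matrix.kronecker_smul, map_smul]; rfl

variable (hu : S.Q u = 1) (hw : S.Q w = 1) (huw : S.B u w = 1)
include hu hw huw

theorem χ_comm (c : GL (Idx m) F) : C.χ c * S.e u = S.e u * C.χ c ∧ C.χ c * S.e w = S.e w * C.χ c := by
  obtain ⟨h1, h2⟩ := C.dia_comm hu hw huw (c : Matrix (Idx m) (Idx m) F)
  exact ⟨Units.ext (by rw [Units.val_mul, Units.val_mul, C.χ_val]; exact h1),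
    Units.ext (by rw [Units.val_mul, Units.val_mul, C.χ_val]; exact h2)⟩

theorem decomp (v : V) : v + S.B w v • u + S.B u v • w ∈ C.W := by
  have hwu : S.B w u = 1 := (S.B_comm w u).trans huw
  refine C.mem_W.2 ⟨?_, ?_⟩
  · simp only [map_add, map_smul, S.B_self, huw, smul_eq_mul, mul_zero, mul_one, add_zero]
    exact CharTwo.add_self_eq_zero _
  · simp only [map_add, map_smul, S.B_self, hwu, smul_eq_mul, mul_zero, mul_one, add_zero]
    exact CharTwo.add_self_eq_zero _

theorem span_top : Submodule.span (ZMod 2) ((C.W : Set V) ∪ {u, w}) = ⊤ := by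
  refine Submodule.eq_top_iff'.2 fun v => ?_
  have h := C.decomp hu hw huw v
  have e : v = v + S.B w v • u + S.B u v • w + (S.B w v • u + S.B u v • w) := by
    rw [add_assoc v, add_assoc, Quad.torsion, add_zero]
  rw [e]
  exact Submodule.add_mem _ (Submodule.subset_span (Or.inl h)) (Submodule.add_mem _
    (Submodule.smul_mem _ _ (Submodule.subset_span (Or.inr (by simp))))
    (Submodule.smul_mem _ _ (Submodule.subset_span (Or.inr (by simp)))))

theorem finrank_W : finrank (ZMod 2) C.W + 2 = 2 * S.k := by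
  have h1 := S.finrank_perp (Submodule.span (ZMod 2) ({u, w} : Set V))
  rw [S.finrank_pair huw] at h1
  exact h1

/-- The system of minus type on the second factor. -/
noncomputable def sub (hp : S.Plus) : PauliSp.Sys m F C.W where
  k := S.k - 1
  B := S.B.compl₁₂ C.W.subtype C.W.subtype
  Q z := S.Q z
  alt z := S.B_self (z : V)
  nondeg := by
    have key : ∀ z : C.W, (∀ x : C.W, S.B (z : V) x = 0) → z = 0 := by
      intro z hz
      refine Subtype.ext (S.nondeg.1 _ fun v => ?_)
      have h := hz ⟨_, C.decomp hu hw huw v⟩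
      obtain ⟨h1, h2⟩ := C.mem_W.1 z.2
      simpa only [map_add, map_smul, S.B_comm (z : V) u, S.B_comm (z : V) w, h1, h2, smul_zero, add_zero] using h
    exact ⟨key, fun z hz => key z fun x => (S.B_comm _ _).trans (hz x)⟩
  Q_add a b := S.Q_add _ _
  dim := by have := C.finrank_W hu hw huw; omega
  minus U hU := by
    have h := S.toQuad.minus_of_plus hp hu hw huw (U.map C.W.subtype) (by
      rintro _ ⟨x, -, rfl⟩; exact x.2) (by rintro _ ⟨x, hx, rfl⟩; exact hU x hx)
    rw [LinearEquiv.finrank_eq (Submodule.equivMapOfInjective _ C.W.injective_subtype U).symm] at h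
    omega
  e := C.e₀
  two := S.two
  pos := C.pos
  mem z := by
    haveI := C.nonempty_idx
    exact C.χ_mem_iff.1 (C.e₀_spec z ▸ S.mem z)
  e_zero := C.e₀_unique (by
    show S.e 0 = _
    rw [S.e_zero]; exact (map_one C.χ).symm)
  e_add a b := C.pm_χ.1 (by
    rw [← C.e₀_spec (a + b), map_mul, ← C.e₀_spec, ← C.e₀_spec]
    exact S.e_add _ _)
  e_sq a := C.χ_inj (by rw [map_mul, ← C.e₀_spec, C.χ_sg]; exact S.e_sq (a : V))
  e_comm a b := C.χ_inj (by
    simp only [map_mul, ← C.e₀_spec, C.χ_sg]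
    exact S.e_comm (a : V) b)
  commutant A hA := by
    have key : ∀ v, C.dia A * S.E v = S.E v * C.dia A := fun v => by
      have hv : v ∈ Submodule.span (ZMod 2) ((C.W : Set V) ∪ {u, w}) :=
        (C.span_top hu hw huw).symm ▸ Submodule.mem_top
      induction hv using Submodule.span_induction with
      | mem v hv =>
        rcases hv with hv | hv | hv
        · show _ * (S.e v : Mx ι F) = (S.e v : Mx ι F) * _
          rw [show S.e v = _ from C.e₀_spec ⟨v, hv⟩, χ_val, C.dia_mul, C.dia_mul, hA ⟨v, hv⟩]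
        · rw [show v = u from hv]; exact (C.dia_comm hu hw huw A).1
        · rw [show v = w from hv]; exact (C.dia_comm hu hw huw A).2
      | zero => rw [S.E_zero, mul_one, one_mul]
      | add v x _ _ hv hx =>
        obtain ⟨c, hc, e⟩ := S.E_mul v x
        have hc0 : c ≠ 0 := by rcases hc with rfl | rfl <;> simp
        refine smul_right_injective _ hc0 ?_
        show c • (_ * S.E (v + x)) = c • (S.E (v + x) * _)
        rw [← mul_smul_comm, ← smul_mul_assoc, ← e, ← mul_assoc, hv, mul_assoc, hx, mul_assoc]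
      | smul a v _ hv =>
        rcases bit a with rfl | rfl
        · rw [zero_smul, S.E_zero, mul_one, one_mul]
        · rwa [one_smul]
    obtain ⟨c, hc⟩ := S.commutant _ key
    exact ⟨c, C.dia_inj (hc.trans (C.dia_smul c).symm)⟩

variable [Finite F]

theorem χ_mem_NO (hp : S.Plus) {c : GL (Idx m) F} (hc : c ∈ (C.sub hu hw huw hp).Nm) : C.χ c ∈ S.NO := by
  haveI := C.nonempty_idx
  refine S.mem_NO_of_set (C.χ_mem_iff.2 hc.2) _ (C.span_top hu hw huw) ?_
  rintro v (hv | hv | hv)
  · rw [show S.e v = _ from C.e₀_spec ⟨v, hv⟩, ← map_mul, ← map_inv, ← map_mul]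
    obtain ⟨z, hz⟩ := (Subgroup.mem_normalizer_iff.1 hc.1 _).1 ((C.sub hu hw huw hp).e_mem ⟨v, hv⟩)
    exact ⟨z, (C.pm_χ.2 hz).trans (Or.inl (C.e₀_spec z).symm)⟩
  · rw [show v = u from hv, (C.χ_comm hu hw huw c).1, mul_inv_cancel_right]
    exact S.e_mem u
  · rw [show v = w from hv, (C.χ_comm hu hw huw c).2, mul_inv_cancel_right]
    exact S.e_mem w

theorem Nm_of_χ_mem (hp : S.Plus) {c : GL (Idx m) F} (h : C.χ c ∈ S.Nm) : c ∈ (C.sub hu hw huw hp).Nm := by
  haveI := C.nonempty_idx
  have hn := S.Nm_le_NO h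
  refine (C.sub hu hw huw hp).mem_Nm_of (C.χ_mem_iff.1 (S.NO_le hn)) fun z => ?_
  have hz := C.mem_W.1 z.2
  have h1 : S.perm (C.χ c) u = u := S.perm_eq (Or.inl (by rw [(C.χ_comm hu hw huw c).1, mul_inv_cancel_right]))
  have h2 : S.perm (C.χ c) w = w := S.perm_eq (Or.inl (by rw [(C.χ_comm hu hw huw c).2, mul_inv_cancel_right]))
  have hW : S.perm (C.χ c) z ∈ C.W := C.mem_W.2
    ⟨by have e := S.B_perm hn u (z : V); rw [h1] at e; exact e.trans hz.1,
     by have e := S.B_perm hn w (z : V); rw [h2] at e; exact e.trans hz.2⟩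
  refine ⟨⟨_, hW⟩, ?_⟩
  have h3 := S.perm_spec hn (z : V)
  rw [C.e₀_spec z, show S.e (S.perm (C.χ c) z) = _ from C.e₀_spec ⟨_, hW⟩, ← map_inv, ← map_mul, ← map_mul] at h3
  exact C.pm_χ.1 h3

omit hu hw huw in
/-- The second factor lies in the derived group, being perfect. -/
theorem χ_mem_om (hm : 2 ≤ m) {c : GL (Idx m) F} (hc : c ∈ Cfsg.spGL m F) : C.χ c ∈ om Q₀ := by
  haveI := C.nonempty_idx
  let c' : Matrix.symplecticGroup (Fin m) F :=
    ⟨(c : Matrix (Idx m) (Idx m) F), CfsgLib.Symp.mem_iff_form.2 (SpTv.mem_spGL.1 hc)⟩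
  have htop := CfsgLib.Symp.commutator_eq_top (l := Fin m) (F := F)
    (Or.inr (Or.inl ⟨by rwa [Fintype.card_fin], S.two⟩))
  have h : commutator (Matrix.symplecticGroup (Fin m) F) ≤ (om Q₀).comap (C.χ.comp SpTv.toGLHom) := by
    rw [commutator_def, Subgroup.commutator_le]
    intro a _ b _
    rw [Subgroup.mem_comap, map_commutatorElement, om_eq]
    exact Subgroup.commutator_mem_commutator (C.χ_mem_iff.2 (SpTv.toGLHom_mem a))
      (C.χ_mem_iff.2 (SpTv.toGLHom_mem b))
  have h' := h (show c' ∈ commutator (Matrix.symplecticGroup (Fin m) F) by rw [htop]; trivial)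
  rwa [Subgroup.mem_comap, MonoidHom.comp_apply, show SpTv.toGLHom c' = c from Units.ext rfl] at h'

omit hu hw huw in
include C in
theorem two_le (hk : 4 ≤ S.k) : 4 ≤ m := by
  have h := C.card_eq
  have h' : (2 : ℕ) ^ 4 ≤ 2 ^ S.k := Nat.pow_le_pow_right (by norm_num) hk
  rw [S.card_eq] at h
  norm_num at h'
  omega

end PChart

end CfsgLib.Geo.PauliPlus
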