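import Mathlib.LinearAlgebra.BilinearForm.Orthogonal
import Mathlib.LinearAlgebra.Dual.Lemmas
import Mathlib.FieldTheory.Finite.Basic
import Mathlib.Tactic

/-!
Quadratic spaces over the field of two elements, of either type: vectors with prescribed products and values,
products of two transvections, and groups of isometries normalised by them.
-/

set_option autoImplicit false
set_option linter.unusedSectionVars false

namespace CfsgLib.Geo.PauliPlus

open Module

theorem bit (a : ZMod 2) : a = 0 ∨ a = 1 := by revert a; decide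

theorem bit_ne_zero {a : ZMod 2} (h : a ≠ 0) : a = 1 := (bit a).resolve_left h

/-- A nondegenerate quadratic space of dimension `2 k` over the field of two elements. -/
structure Quad (V : Type*) [AddCommGroup V] [Module (ZMod 2) V] where
  k : ℕ
  B : LinearMap.BilinForm (ZMod 2) V
  Q : V → ZMod 2
  alt : B.IsAlt
  nondeg : B.Nondegenerate
  Q_add : ∀ x y, Q (x + y) = Q x + Q y + B x y
  dim : finrank (ZMod 2) V = 2 * k

namespace Quad

variable {V : Type*} [AddCommGroup V] [Module (ZMod 2) V] [Finite V] (S : Quad V)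

theorem torsion (x : V) : x + x = 0 := by
  have h := two_smul (ZMod 2) x
  rw [show (2 : ZMod 2) = 0 by decide, zero_smul] at h
  exact h.symm

theorem add_cancel' (x y : V) : x + (x + y) = y := by rw [← add_assoc, torsion, zero_add]

theorem add_add_self (x y : V) : x + y + y = x := by rw [add_assoc, torsion, add_zero]

theorem eq_of_add_eq_zero {x y : V} (h : x + y = 0) : x = y :=
  add_right_cancel (b := y) (h.trans (torsion y).symm)

@[simp] theorem B_self (x : V) : S.B x x = 0 := S.alt x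

theorem B_comm (x y : V) : S.B x y = S.B y x := by
  rw [← LinearMap.IsAlt.neg S.alt y x]
  exact CharTwo.neg_eq _

@[simp] theorem Q_zero : S.Q 0 = 0 := by
  have h := S.Q_add 0 0
  simp only [add_zero, map_zero] at h
  linear_combination -h

theorem B_add (x y z : V) : S.B (x + y) z = S.B x z + S.B y z := by
  rw [map_add, LinearMap.add_apply]

theorem B_add' (x y z : V) : S.B x (y + z) = S.B x y + S.B x z := map_add _ _ _

theorem exists_B_one {x : V} (hx : x ≠ 0) : ∃ y, S.B x y = 1 := by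
  by_contra h
  push Not at h
  exact hx (S.nondeg.1 x fun y => (bit _).resolve_right (h y))

theorem ne_zero_of_B {x y : V} (h : S.B x y = 1) : x ≠ 0 := fun e => by
  rw [e, map_zero, LinearMap.zero_apply] at h
  exact zero_ne_one h

theorem ne_zero_of_Q {x : V} (h : S.Q x = 1) : x ≠ 0 := fun e => by
  rw [e, S.Q_zero] at h
  exact zero_ne_one h

theorem ne_of_B {x y : V} (h : S.B x y = 1) : x ≠ y := fun e => by
  rw [e, S.B_self] at h
  exact zero_ne_one h

/-- The orthogonal space. -/
def perp (U : Submodule (ZMod 2) V) : Submodule (ZMod 2) V := S.B.orthogonal U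

theorem mem_perp {U : Submodule (ZMod 2) V} {x : V} : x ∈ S.perp U ↔ ∀ w ∈ U, S.B w x = 0 := Iff.rfl

theorem mem_perp_span {T : Set V} {x : V} :
    x ∈ S.perp (Submodule.span (ZMod 2) T) ↔ ∀ w ∈ T, S.B w x = 0 := by
  refine ⟨fun h w hw => h w (Submodule.subset_span hw), fun h w hw => ?_⟩
  exact (Submodule.span_le (p := LinearMap.ker (S.B.flip x))).2 (fun v hv => LinearMap.mem_ker.2 (h v hv)) hw

theorem finrank_perp (U : Submodule (ZMod 2) V) :
    finrank (ZMod 2) (S.perp U) + finrank (ZMod 2) U = 2 * S.k := by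
  have h1 := LinearMap.BilinForm.finrank_orthogonal S.nondeg U
  have h2 := U.finrank_le
  rw [S.dim] at h1 h2
  rw [perp, h1]
  omega

theorem le_perp_perp (U : Submodule (ZMod 2) V) : U ≤ S.perp (S.perp U) := fun x hx w hw => by
  rw [S.B_comm]; exact hw x hx

theorem perp_perp (U : Submodule (ZMod 2) V) : S.perp (S.perp U) = U :=
  (Submodule.eq_of_le_of_finrank_le (S.le_perp_perp U)
    (by have := S.finrank_perp U; have := S.finrank_perp (S.perp U); omega)).symm

theorem mem_perp_pair {a b x : V} :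
    x ∈ S.perp (Submodule.span (ZMod 2) ({a, b} : Set V)) ↔ S.B a x = 0 ∧ S.B b x = 0 := by
  simp [S.mem_perp_span]

theorem finrank_span_le_two (a b : V) : finrank (ZMod 2) (Submodule.span (ZMod 2) ({a, b} : Set V)) ≤ 2 := by
  classical
  have h := finrank_span_finset_le_card (R := ZMod 2) ({a, b} : Finset V)
  rw [Set.finrank, Finset.coe_pair] at h
  exact h.trans Finset.card_le_two

/-- The space spanned by a list. -/
def sp (l : List V) : Submodule (ZMod 2) V := Submodule.span (ZMod 2) {v | v ∈ l}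

theorem mem_sp {l : List V} {v : V} (h : v ∈ l) : v ∈ sp l := Submodule.subset_span h

theorem finrank_sp (l : List V) : finrank (ZMod 2) (sp l) ≤ l.length := by
  classical
  have h := finrank_span_finset_le_card (R := ZMod 2) l.toFinset
  rw [Set.finrank, show ((l.toFinset : Finset V) : Set V) = {v | v ∈ l} by ext; simp] at h
  exact h.trans (List.toFinset_card_le _)

theorem mem_perp_sp {l : List V} {x : V} : x ∈ S.perp (sp l) ↔ ∀ w ∈ l, S.B w x = 0 := S.mem_perp_span

theorem finrank_perp_sp (l : List V) : 2 * S.k ≤ finrank (ZMod 2) (S.perp (sp l)) + l.length := by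
  have := S.finrank_perp (sp l)
  have := finrank_sp l
  omega

theorem sp_ne_top {l : List V} (h : l.length < 2 * S.k) : sp l ≠ ⊤ := fun e => by
  have := finrank_sp l
  rw [e, finrank_top, S.dim] at this
  omega

/-- A subspace that is not totally isotropic. -/
def HasHyp (U : Submodule (ZMod 2) V) : Prop := ∃ a ∈ U, ∃ b ∈ U, S.B a b = 1

theorem not_hasHyp {U : Submodule (ZMod 2) V} (h : ¬ S.HasHyp U) : U ≤ S.perp U := fun x hx w hw =>
  (bit _).resolve_right fun e => h ⟨w, hw, x, hx, e⟩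

theorem hasHyp_of_lt {U : Submodule (ZMod 2) V} (h : S.k < finrank (ZMod 2) U) : S.HasHyp U := by
  by_contra hno
  have := Submodule.finrank_mono (S.not_hasHyp hno)
  have := S.finrank_perp U
  omega

theorem hasHyp_perp_lt {l : List V} (h : l.length < S.k) : S.HasHyp (S.perp (sp l)) :=
  S.hasHyp_of_lt (by have := S.finrank_perp_sp l; omega)

theorem hasHyp_perp_le {l : List V} (h : l.length ≤ S.k) {a b : V} (ha : a ∈ l) (hb : b ∈ l)
    (hab : S.B a b = 1) : S.HasHyp (S.perp (sp l)) := by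
  by_contra hno
  have h1 := S.not_hasHyp hno
  rw [S.perp_perp] at h1
  have h2 : S.perp (sp l) = sp l := Submodule.eq_of_le_of_finrank_le h1 (by
    have := S.finrank_perp_sp l; have := finrank_sp l; omega)
  have h3 : S.B a b = 0 := (h2.symm ▸ mem_sp hb : b ∈ S.perp (sp l)) a (mem_sp ha)
  exact zero_ne_one (h3.symm.trans hab)

/-- On a coset of a subspace that is not totally isotropic the quadratic form takes both values. -/
theorem two_values {U : Submodule (ZMod 2) V} (hU : S.HasHyp U) (z : V) (ε : ZMod 2) :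
    ∃ w ∈ U, S.Q (z + w) = ε := by
  obtain ⟨a, ha, b, hb, hab⟩ := hU
  by_contra hno
  push Not at hno
  have h0 := hno 0 U.zero_mem
  have h1 := hno a ha
  have h2 := hno b hb
  have h3 := hno (a + b) (U.add_mem ha hb)
  rw [S.Q_add, S.Q_zero, map_zero, add_zero, add_zero] at h0
  rw [S.Q_add] at h1 h2 h3
  rw [S.Q_add a b, map_add, hab] at h3
  clear hno
  revert h0 h1 h2 h3
  generalize S.Q z = p, S.Q a = q, S.Q b = r, S.B z a = s, S.B z b = t
  revert p q r s t ε
  decide

/-- A vector with the same products and a prescribed value. -/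
theorem find {l : List V} (hl : S.HasHyp (S.perp (sp l))) (x₀ : V) (ε : ZMod 2) :
    ∃ x, S.Q x = ε ∧ ∀ w ∈ l, S.B w x = S.B w x₀ := by
  obtain ⟨w, hw, h⟩ := S.two_values hl x₀ ε
  exact ⟨_, h, fun v hv => by rw [S.B_add', S.mem_perp_sp.1 hw v hv, add_zero]⟩

theorem find_perp {l : List V} (hl : S.HasHyp (S.perp (sp l))) (ε : ZMod 2) :
    ∃ x, S.Q x = ε ∧ ∀ w ∈ l, S.B w x = 0 := by
  obtain ⟨x, hx, h⟩ := S.find hl 0 ε
  exact ⟨x, hx, fun w hw => by rw [h w hw, map_zero]⟩

theorem exists_B_two {x y : V} (hx : x ≠ 0) (hy : y ≠ 0) : ∃ z, S.B x z = 1 ∧ S.B y z = 1 := by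
  obtain ⟨a, ha⟩ := S.exists_B_one hx
  obtain ⟨b, hb⟩ := S.exists_B_one hy
  rcases bit (S.B y a) with h1 | h1
  · rcases bit (S.B x b) with h2 | h2
    · exact ⟨a + b, by rw [S.B_add', ha, h2, add_zero], by rw [S.B_add', h1, hb, zero_add]⟩
    · exact ⟨b, h2, hb⟩
  · exact ⟨a, ha, h1⟩

theorem exists_B_one_zero {a b : V} (ha : a ≠ 0) (hne : a ≠ b) : ∃ v, S.B a v = 1 ∧ S.B b v = 0 := by
  by_cases hb : b = 0
  · obtain ⟨v, hv⟩ := S.exists_B_one ha
    exact ⟨v, hv, by rw [hb, map_zero, LinearMap.zero_apply]⟩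
  obtain ⟨v, h1, h2⟩ := S.exists_B_two (x := a + b) (y := a) (fun e => hne (eq_of_add_eq_zero e)) ha
  rw [S.B_add, h2] at h1
  exact ⟨v, h2, add_eq_left.1 h1⟩

theorem hasHyp_top (hk : 0 < S.k) : S.HasHyp ⊤ := S.hasHyp_of_lt (by rw [finrank_top, S.dim]; omega)

theorem exists_nonsing (hk : 0 < S.k) : ∃ v, S.Q v = 1 := by
  obtain ⟨w, -, h⟩ := S.two_values (S.hasHyp_top hk) 0 1
  exact ⟨_, h⟩

/-- A singular vector orthogonal to few vectors. -/
theorem exists_singular_perp (l : List V) (hl : l.length + 3 ≤ 2 * S.k) :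
    ∃ w, w ≠ 0 ∧ S.Q w = 0 ∧ ∀ v ∈ l, S.B v w = 0 := by
  suffices h : ∃ w ∈ S.perp (sp l), w ≠ 0 ∧ S.Q w = 0 by
    obtain ⟨w, hw, h0, hQ⟩ := h
    exact ⟨w, h0, hQ, S.mem_perp_sp.1 hw⟩
  set U := S.perp (sp l) with hUdef
  have hU : 3 ≤ finrank (ZMod 2) U := by have := S.finrank_perp_sp l; rw [← hUdef] at this; omega
  by_contra hno
  push Not at hno
  have hne : U ≠ ⊥ := fun e => by rw [e, finrank_bot] at hU; omega
  obtain ⟨a, ha, ha0⟩ := Submodule.exists_mem_ne_zero_of_ne_bot hne
  have hker := (S.B a).comp U.subtype |>.finrank_range_add_finrank_ker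
  have hr : finrank (ZMod 2) (LinearMap.range ((S.B a).comp U.subtype)) ≤ 1 :=
    (Submodule.finrank_le _).trans_eq (finrank_self _)
  obtain ⟨b, hbK, hba⟩ : ∃ b ∈ LinearMap.ker ((S.B a).comp U.subtype), b ∉ Submodule.span (ZMod 2) {(⟨a, ha⟩ : U)} := by
    by_contra h
    push Not at h
    have h1 := Submodule.finrank_mono (h : LinearMap.ker ((S.B a).comp U.subtype) ≤ _)
    rw [finrank_span_singleton (fun e => ha0 (congrArg Subtype.val e))] at h1
    omega
  have hb0 : (b : V) ≠ 0 := fun e => hba (by rw [show b = 0 from Subtype.ext e]; exact Submodule.zero_mem _)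
  have hab0 : a + b ≠ 0 := fun e => hba (by
    rw [show b = ⟨a, ha⟩ from Subtype.ext (eq_of_add_eq_zero e).symm]
    exact Submodule.mem_span_singleton_self _)
  refine hno (a + b) (U.add_mem ha b.2) hab0 ?_
  have hB : S.B a b = 0 := hbK
  rw [S.Q_add, hB, bit_ne_zero (hno a ha ha0), bit_ne_zero (hno b b.2 hb0)]
  decide

theorem exists_partner {x : V} (hx : x ≠ 0) (hQ : S.Q x = 0) : ∃ y, S.B x y = 1 ∧ S.Q y = 0 := by
  obtain ⟨y, hy⟩ := S.exists_B_one hx
  rcases bit (S.Q y) with h | h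
  · exact ⟨y, hy, h⟩
  · refine ⟨y + x, by rw [S.B_add', hy, S.B_self, add_zero], ?_⟩
    rw [S.Q_add, h, hQ, S.B_comm, hy]
    decide

theorem span_nonsing (hk : 2 ≤ S.k) : Submodule.span (ZMod 2) {v : V | S.Q v = 1} = ⊤ := by
  refine Submodule.eq_top_iff'.2 fun v => ?_
  by_cases hv : S.Q v = 1
  · exact Submodule.subset_span hv
  obtain ⟨w, hwQ, hw⟩ := S.find_perp (l := [v]) (S.hasHyp_perp_lt (by simp; omega)) 1
  have h1 : S.Q (v + w) = 1 := by rw [S.Q_add, hw v (by simp), hwQ, (bit _).resolve_right hv]; decide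
  have h : v + w + w ∈ Submodule.span (ZMod 2) {v : V | S.Q v = 1} :=
    Submodule.add_mem _ (Submodule.subset_span h1) (Submodule.subset_span (show S.Q w = 1 from hwQ))
  rwa [add_add_self] at h

theorem ext_nonsing {W : Type*} [AddCommGroup W] [Module (ZMod 2) W] (hk : 2 ≤ S.k) {f g : V →ₗ[ZMod 2] W}
    (h : ∀ v, S.Q v = 1 → f v = g v) : f = g :=
  LinearMap.ext_on (S.span_nonsing hk) fun v hv => h v hv

/-- Two nonsingular vectors with product one, orthogonal to two given nonsingular vectors. -/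
theorem exists_pair_perp (hk : 3 ≤ S.k) {a b : V} (ha : S.Q a = 1) (_hb : S.Q b = 1) :
    ∃ z t, S.Q z = 1 ∧ S.Q t = 1 ∧ S.B z t = 1 ∧ S.B a z = 0 ∧ S.B b z = 0 ∧ S.B a t = 0 ∧ S.B b t = 0 := by
  have hlab := S.hasHyp_perp_lt (l := [a, b]) (by simp; omega)
  -- a nonsingular vector outside the span
  obtain ⟨z, hzQ, hza, hzb, hzn⟩ : ∃ z, S.Q z = 1 ∧ S.B a z = 0 ∧ S.B b z = 0 ∧ z ∉ sp [a, b] := by
    by_contra hno
    push Not at hno
    have hlt : finrank (ZMod 2) (sp [a, b]) < finrank (ZMod 2) (S.perp (sp [a, b])) := by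
      have := S.finrank_perp_sp [a, b]
      have := finrank_sp [a, b]
      simp only [List.length_cons, List.length_nil] at *
      omega
    obtain ⟨p, hp, hpn⟩ := SetLike.not_le_iff_exists.1 fun h => (Submodule.finrank_mono h).not_gt hlt
    rcases bit (S.Q p) with hpQ | hpQ
    swap
    · exact hpn (hno p hpQ (S.mem_perp_sp.1 hp a (by simp)) (S.mem_perp_sp.1 hp b (by simp)))
    obtain ⟨c, hc⟩ : ∃ c, c ∈ S.perp (sp [a, b]) ∧ S.Q c = 1 := by
      obtain ⟨c, hc, h⟩ := S.find_perp hlab 1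
      exact ⟨c, S.mem_perp_sp.2 h, hc⟩
    by_cases hcn : c ∈ sp [a, b]
    · have hBcp : S.B c p = 0 := hp c hcn
      have h1 : S.Q (p + c) = 1 := by rw [S.Q_add, hpQ, hc.2, S.B_comm, hBcp]; decide
      have hm := S.perp (sp [a, b]) |>.add_mem hp hc.1
      have h2 := hno _ h1 (S.mem_perp_sp.1 hm a (by simp)) (S.mem_perp_sp.1 hm b (by simp))
      exact hpn (by
        have := (sp [a, b]).add_mem h2 hcn
        rwa [add_add_self] at this)
    · exact hcn (hno c hc.2 (S.mem_perp_sp.1 hc.1 a (by simp)) (S.mem_perp_sp.1 hc.1 b (by simp)))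
  obtain ⟨t₀, ht₀, ht₀z⟩ : ∃ t, t ∈ S.perp (sp [a, b]) ∧ S.B z t = 1 := by
    by_contra hno
    push Not at hno
    exact hzn (S.perp_perp (sp [a, b]) ▸ fun w hw => (bit _).resolve_right (by rw [S.B_comm]; exact hno w hw))
  have ht₀a := S.mem_perp_sp.1 ht₀ a (by simp)
  have ht₀b := S.mem_perp_sp.1 ht₀ b (by simp)
  rcases bit (S.B a b) with hab | hab
  · rcases bit (S.Q t₀) with h | h
    · refine ⟨z, t₀ + a, hzQ, ?_, by rw [S.B_add', ht₀z, S.B_comm z a, hza, add_zero], hza, hzb,
        by rw [S.B_add', ht₀a, S.B_self, add_zero], by rw [S.B_add', ht₀b, S.B_comm b a, hab, add_zero]⟩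
      rw [S.Q_add, h, ha, S.B_comm, ht₀a]; decide
    · exact ⟨z, t₀, hzQ, h, ht₀z, hza, hzb, ht₀a, ht₀b⟩
  · obtain ⟨t, htQ, ht⟩ := S.find (l := [a, b, z])
      (S.hasHyp_perp_le (by simp; omega) (a := a) (b := b) (by simp) (by simp) hab) t₀ 1
    exact ⟨z, t, hzQ, htQ, by rw [ht z (by simp), ht₀z], hza, hzb, by rw [ht a (by simp), ht₀a],
      by rw [ht b (by simp), ht₀b]⟩

/-- Two nonsingular vectors with product one in a hyperplane. -/
theorem exists_pair_hyper (hk : 3 ≤ S.k) (y : V) :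
    ∃ z t, S.Q z = 1 ∧ S.Q t = 1 ∧ S.B z t = 1 ∧ S.B y z = 0 ∧ S.B y t = 0 := by
  obtain ⟨z, hzQ, hz⟩ := S.find_perp (l := [y]) (S.hasHyp_perp_lt (by simp; omega)) 1
  rcases eq_or_ne z y with rfl | hzy
  · obtain ⟨a, t, ha, ht, hat, hza, -, hzt, -⟩ := S.exists_pair_perp hk hzQ hzQ
    exact ⟨a, t, ha, ht, hat, hza, hzt⟩
  obtain ⟨t₀, h1, h2⟩ := S.exists_B_one_zero (S.ne_zero_of_Q hzQ) hzy
  obtain ⟨t, htQ, ht⟩ := S.find (l := [z, y]) (S.hasHyp_perp_lt (by simp; omega)) t₀ 1
  exact ⟨z, t, hzQ, htQ, by rw [ht z (by simp), h1], hz y (by simp), by rw [ht y (by simp), h2]⟩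

/-! ### Transvections -/

/-- The transvection of a vector. -/
def tv (r x : V) : V := x + S.B r x • r

theorem tv_of_zero {r x : V} (h : S.B r x = 0) : S.tv r x = x := by rw [tv, h, zero_smul, add_zero]

theorem tv_of_one {r x : V} (h : S.B r x = 1) : S.tv r x = x + r := by rw [tv, h, one_smul]

theorem tv_tv (r x : V) : S.tv r (S.tv r x) = x := by
  rcases bit (S.B r x) with h | h
  · rw [S.tv_of_zero h, S.tv_of_zero h]
  · rw [S.tv_of_one h, S.tv_of_one (by rw [S.B_add', h, S.B_self, add_zero]), add_add_self]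

theorem tv_add (r x y : V) : S.tv r (x + y) = S.tv r x + S.tv r y := by
  rw [tv, tv, tv, S.B_add', add_smul]
  abel

theorem tv_inj {a b : V} (ha : a ≠ 0) (h : ∀ x, S.tv a x = S.tv b x) : a = b := by
  obtain ⟨x, hx⟩ := S.exists_B_one ha
  have h1 := h x
  rw [S.tv_of_one hx] at h1
  rcases bit (S.B b x) with e | e
  · rw [S.tv_of_zero e, add_eq_left] at h1; exact absurd h1 ha
  · rwa [S.tv_of_one e, add_right_inj] at h1

theorem tv_range (a b x : V) : S.tv a (S.tv b x) + x ∈ sp [a, b] := by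
  have e : S.tv a (S.tv b x) + x = S.B b x • b + S.B a (S.tv b x) • a := by
    rw [tv, tv]
    calc x + S.B b x • b + S.B a (x + S.B b x • b) • a + x
        = x + x + (S.B b x • b + S.B a (x + S.B b x • b) • a) := by abel
      _ = _ := by rw [torsion, zero_add]
  rw [e]
  exact Submodule.add_mem _ (Submodule.smul_mem _ _ (mem_sp (by simp))) (Submodule.smul_mem _ _ (mem_sp (by simp)))

/-- Equal products of two transvections have equal spans. -/
theorem pair_mem {a b c d : V} (hc : c ≠ 0) (hcd : c ≠ d) (h : ∀ x, S.tv a (S.tv b x) = S.tv c (S.tv d x)) :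
    c ∈ sp [a, b] := by
  obtain ⟨x, hx1, hx0⟩ := S.exists_B_one_zero hc hcd
  have h1 := S.tv_range a b x
  rwa [h, S.tv_of_zero hx0, S.tv_of_one hx1, add_comm x c, add_add_self] at h1

theorem mem_sp_two {a b v : V} (h : v ∈ sp [a, b]) : v = 0 ∨ v = a ∨ v = b ∨ v = a + b := by
  have h' : v ∈ Submodule.span (ZMod 2) ({a, b} : Set V) := by
    refine Submodule.span_mono ?_ h
    intro w hw
    simpa using hw
  obtain ⟨α, β, rfl⟩ := Submodule.mem_span_pair.1 h'
  rcases bit α with rfl | rfl <;> rcases bit β with rfl | rfl <;> simp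

/-- Isometries with at most few fixed vectors among the nonsingular ones, closed under commutators with
products of two transvections, are trivial. -/
theorem semireg (hk : 3 ≤ S.k) (H : Set (V →ₗ[ZMod 2] V))
    (hQ : ∀ h ∈ H, ∀ v, S.Q (h v) = S.Q v) (hB : ∀ h ∈ H, ∀ v w, S.B (h v) (h w) = S.B v w)
    (hsq : ∀ h ∈ H, h.comp h ∈ H)
    (hcomm : ∀ h ∈ H, ∀ r s, S.Q r = 1 → S.Q s = 1 →
      ∃ h' ∈ H, ∀ x, h' x = S.tv (h r) (S.tv (h s) (S.tv s (S.tv r x))))
    (hpair : ∀ h ∈ H, ∀ z t, S.Q z = 1 → S.Q t = 1 → S.B z t = 1 → h z = z → h t = t → ∀ v, h v = v) :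
    ∀ h ∈ H, ∀ v, h v = v := by
  -- a fixed nonsingular vector
  have hfix : ∀ h ∈ H, ∀ σ, S.Q σ = 1 → h σ = σ → ∀ v, h v = v := by
    intro h hh σ hσ hhσ
    suffices key : ∀ r, S.Q r = 1 → h r = r by
      intro v
      exact LinearMap.congr_fun (S.ext_nonsing (by omega) (g := LinearMap.id) key) v
    intro r hr
    obtain ⟨h', hh', e⟩ := hcomm h hh r σ hr hσ
    simp only [hhσ, S.tv_tv] at e
    obtain ⟨z, t, hz, ht, hzt, h1, h2, h3, h4⟩ := S.exists_pair_perp hk (a := h r) (b := r)
      ((hQ h hh r).trans hr) hr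
    have h5 := hpair h' hh' z t hz ht hzt (by rw [e, S.tv_of_zero h2, S.tv_of_zero h1])
      (by rw [e, S.tv_of_zero h4, S.tv_of_zero h3])
    refine S.tv_inj (S.ne_zero_of_Q ((hQ h hh r).trans hr)) fun x => ?_
    have h6 := h5 (S.tv r x)
    rwa [e, S.tv_tv] at h6
  -- a nonsingular vector orthogonal to the moved pairs
  have hsmall : ∀ h ∈ H, ∀ (r s : V) (l : List V), S.Q r = 1 → S.Q s = 1 → l.length ≤ 3 → r ∈ l →
      s ∈ sp l → h r ∈ sp l → h s ∈ sp l → ∀ x, S.tv (h r) (S.tv (h s) x) = S.tv r (S.tv s x) := by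
    intro h hh r s l hr hs hl hrl hsl hhr hhs x
    obtain ⟨σ, hσQ, hσ⟩ : ∃ σ ∈ S.perp (sp l), S.Q σ = 1 := by
      by_contra hno
      push Not at hno
      have hiso : S.perp (sp l) ≤ S.perp (S.perp (sp l)) := S.not_hasHyp fun hh' => by
        obtain ⟨w, hw, hwQ⟩ := S.two_values hh' 0 1
        exact hno w hw (by simpa using hwQ)
      rw [S.perp_perp] at hiso
      have h2 : S.perp (sp l) = sp l := Submodule.eq_of_le_of_finrank_le hiso (by
        have := S.finrank_perp_sp l; have := finrank_sp l; omega)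
      exact hno r (h2.symm ▸ mem_sp hrl) hr
    obtain ⟨h', hh', e⟩ := hcomm h hh r s hr hs
    have h0 : ∀ w ∈ sp l, S.tv w σ = σ := fun w hw => S.tv_of_zero (hσQ w hw)
    have h1 := hfix h' hh' σ hσ (by rw [e, h0 r (mem_sp hrl), h0 s hsl, h0 _ hhs, h0 _ hhr])
      (S.tv r (S.tv s x))
    rwa [e, S.tv_tv, S.tv_tv] at h1
  -- the two shapes
  have hshape : ∀ h ∈ H, ∀ r, S.Q r = 1 → h r ≠ r → h (h r) = r ∨ h (h r) + h r + r = 0 := by
    intro h hh r hr hne
    have hb : S.Q (h r) = 1 := (hQ h hh r).trans hr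
    have hne' : h r ≠ h (h r) := fun e =>
      hne (hfix h hh (h r) hb e.symm r)
    have key := hsmall h hh r (h r) [r, h r, h (h r)] hr hb (by simp) (by simp) (mem_sp (by simp))
      (mem_sp (by simp)) (mem_sp (by simp))
    have h2 : h (h r) ∈ sp [h r, r] := by
      refine S.pair_mem (a := h r) (b := r) (c := h (h r)) (d := h r) ?_ hne'.symm fun x => ?_
      · exact S.ne_zero_of_Q ((hQ h hh _).trans hb)
      · -- invert both sides
        obtain ⟨y, hy⟩ : ∃ y, y = S.tv (h r) (S.tv r x) := ⟨_, rfl⟩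
        have h3 := key y
        conv_rhs at h3 => rw [hy, S.tv_tv, S.tv_tv]
        rw [← hy]
        conv_rhs => rw [← h3, S.tv_tv, S.tv_tv]
    rcases mem_sp_two h2 with e | e | e | e
    · exact absurd e (S.ne_zero_of_Q ((hQ h hh _).trans hb))
    · exact absurd e hne'.symm
    · exact Or.inl e
    · right; rw [e, add_assoc, torsion]
  -- involutions
  have hinv : ∀ h ∈ H, ∀ r, S.Q r = 1 → h (h r) = r → h r = r := by
    intro h hh r hr h2
    by_contra hne
    have h2all : ∀ v, h (h v) = v := hfix _ (hsq h hh) r hr h2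
    have hb : S.Q (h r) = 1 := (hQ h hh r).trans hr
    set f₀ := LinearMap.ker (h + LinearMap.id) with hf₀
    have hmem : ∀ v, v ∈ f₀ ↔ h v = v := fun v => by
      rw [hf₀, LinearMap.mem_ker, LinearMap.add_apply, LinearMap.id_apply]
      exact ⟨eq_of_add_eq_zero, fun e => by rw [e, torsion]⟩
    have hdimF : S.k ≤ finrank (ZMod 2) f₀ := by
      have h1 := (h + LinearMap.id : V →ₗ[ZMod 2] V).finrank_range_add_finrank_ker
      have h3 : LinearMap.range (h + LinearMap.id : V →ₗ[ZMod 2] V) ≤ f₀ := by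
        rintro _ ⟨v, rfl⟩
        rw [hmem, LinearMap.add_apply, LinearMap.id_apply, map_add, h2all, add_comm]
      have h4 := Submodule.finrank_mono h3
      rw [S.dim, ← hf₀] at h1
      omega
    obtain ⟨f, hf, hf0, hfr, hfne⟩ : ∃ f, h f = f ∧ f ≠ 0 ∧ S.B r f = 0 ∧ f ≠ r + h r := by
      by_contra hno
      push Not at hno
      let L := (S.B r).comp f₀.subtype
      have h1 := L.finrank_range_add_finrank_ker
      have h3 : finrank (ZMod 2) (LinearMap.range L) ≤ 1 := (Submodule.finrank_le _).trans_eq (finrank_self _)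
      have h4 : (LinearMap.ker L).map f₀.subtype ≤ Submodule.span (ZMod 2) {r + h r} := by
        rintro _ ⟨v, hv, rfl⟩
        by_cases hv0 : (v : V) = 0
        · rw [show f₀.subtype v = 0 from hv0]; exact Submodule.zero_mem _
        · rw [show f₀.subtype v = r + h r from hno v ((hmem _).1 v.2) hv0 (LinearMap.mem_ker.1 hv)]
          exact Submodule.mem_span_singleton_self _
      have h5 := Submodule.finrank_mono h4
      rw [(Submodule.equivMapOfInjective _ f₀.injective_subtype (LinearMap.ker L)).finrank_eq.symm] at h5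
      have h6 : finrank (ZMod 2) (Submodule.span (ZMod 2) ({r + h r} : Set V)) = 1 :=
        finrank_span_singleton fun e => hne (eq_of_add_eq_zero e).symm
      omega
    have hfQ : S.Q f = 0 := (bit _).resolve_right fun e =>
      hne (hfix h hh f e hf r)
    have hs : S.Q (r + f) = 1 := by rw [S.Q_add, hr, hfQ, hfr, add_zero, add_zero]
    have key := hsmall h hh r (r + f) [r, h r, f] hr hs (by simp) (by simp)
      (Submodule.add_mem _ (mem_sp (by simp)) (mem_sp (by simp))) (mem_sp (by simp))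
      (by rw [map_add, hf]; exact Submodule.add_mem _ (mem_sp (by simp)) (mem_sp (by simp)))
    have hm := S.pair_mem (a := r) (b := r + f) (c := h r) (d := h (r + f)) (S.ne_zero_of_Q hb)
      (fun e => hf0 (by rw [map_add, hf] at e; exact left_eq_add.1 e)) fun x => (key x).symm
    rcases mem_sp_two hm with e | e | e | e
    · exact S.ne_zero_of_Q hb e
    · exact hne e
    · exact hfne (by rw [e, add_cancel'])
    · rw [add_cancel'] at e
      rw [e, hfQ] at hb
      exact zero_ne_one hb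
  -- an element moving every nonsingular vector has no fixed vector
  have hfree : ∀ h ∈ H, (∃ v, h v ≠ v) → ∀ w, h w = w → w = 0 := by
    intro h hh hmov w hw
    have h0 : h.comp h + h + LinearMap.id = 0 := S.ext_nonsing (by omega) fun r hr => by
      have hne : h r ≠ r := fun e => by obtain ⟨v, hv⟩ := hmov; exact hv (hfix h hh r hr e v)
      rcases hshape h hh r hr hne with e | e
      · exact absurd (hinv h hh r hr e) hne
      · simpa using e
    have := LinearMap.congr_fun h0 w
    simp only [LinearMap.add_apply, LinearMap.comp_apply, hw, LinearMap.id_apply, LinearMap.zero_apply] at this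
    rwa [add_add_self] at this
  intro h hh v
  by_contra hv
  obtain ⟨r, hr⟩ := S.exists_nonsing (by omega)
  have hne : ∀ s, S.Q s = 1 → h s ≠ s := fun s hs e => hv (hfix h hh s hs e v)
  have hall : ∀ s, S.Q s = 1 → r ≠ s → h r ∈ sp [r, s] := by
    intro s hs hrs
    obtain ⟨h', hh', e⟩ := hcomm h hh r s hr hs
    have hid : ∀ x, h' x = x := by
      by_contra hno
      push Not at hno
      have hfr := hfree h' hh' hno
      obtain ⟨w, hw0, -, hw⟩ := S.exists_singular_perp [r, s] (by simp; omega)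
      have hne4 : S.perp (sp [r, s, h r, h s]) ≠ ⊥ := fun eb => by
        have := S.finrank_perp_sp [r, s, h r, h s]
        rw [eb, finrank_bot] at this
        simp only [List.length_cons, List.length_nil] at this
        omega
      obtain ⟨z, hz, hz0⟩ := Submodule.exists_mem_ne_zero_of_ne_bot hne4
      have hzz := S.mem_perp_sp.1 hz
      exact hz0 (hfr z (by
        rw [e, S.tv_of_zero (hzz r (by simp)), S.tv_of_zero (hzz s (by simp)), S.tv_of_zero (hzz _ (by simp)),
          S.tv_of_zero (hzz _ (by simp))]))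
    refine S.pair_mem (d := h s) (S.ne_zero_of_Q ((hQ h hh r).trans hr)) (fun e' => hrs ?_) fun x => ?_
    · have h1 := hB h hh
      refine eq_of_add_eq_zero (S.nondeg.1 _ fun y => ?_)
      rw [← h1, map_add, e', torsion, map_zero, LinearMap.zero_apply]
    · have := hid (S.tv r (S.tv s x))
      rw [e, S.tv_tv, S.tv_tv] at this
      exact this.symm
  obtain ⟨s, hs, hrs⟩ : ∃ s, S.Q s = 1 ∧ s ∉ sp [r, r] := by
    by_contra hno
    push Not at hno
    exact S.sp_ne_top (l := [r, r]) (by simp; omega) (eq_top_iff.2 ((S.span_nonsing (by omega)).ge.trans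
      (Submodule.span_le.2 fun a ha => hno a ha)))
  obtain ⟨s', hs', hrs'⟩ : ∃ s', S.Q s' = 1 ∧ s' ∉ sp [r, s] := by
    by_contra hno
    push Not at hno
    exact S.sp_ne_top (l := [r, s]) (by simp; omega) (eq_top_iff.2 ((S.span_nonsing (by omega)).ge.trans
      (Submodule.span_le.2 fun a ha => hno a ha)))
  have hr1 : r ≠ s := fun e => hrs (e ▸ mem_sp (by simp))
  have hr2 : r ≠ s' := fun e => hrs' (e ▸ mem_sp (by simp))
  have hb : S.Q (h r) = 1 := (hQ h hh r).trans hr
  rcases mem_sp_two (hall s' hs' hr2) with e | e | e | e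
  · exact S.ne_zero_of_Q hb e
  · exact hne r hr e
  · exact hrs' (e ▸ hall s hs hr1)
  · refine hrs' ?_
    rw [show s' = r + h r by rw [e, add_cancel']]
    exact Submodule.add_mem _ (mem_sp (by simp)) (hall s hs hr1)

/-- A space invariant under the products of two transvections in the orthogonal of a hyperbolic line. -/
theorem eq_of_invariant (hk : 4 ≤ S.k) {u t : V} (hut : S.B u t = 1) (U : Submodule (ZMod 2) V) (hne : U ≠ ⊥)
    (hle : U ≤ S.perp (sp [u, t]))
    (hinv : ∀ r ∈ S.perp (sp [u, t]), ∀ s ∈ S.perp (sp [u, t]), S.Q r = 1 → S.Q s = 1 → ∀ f ∈ U,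
      S.tv r (S.tv s f) ∈ U) : U = S.perp (sp [u, t]) := by
  set P := S.perp (sp [u, t]) with hP
  have hproj : ∀ x, x + S.B t x • u + S.B u x • t ∈ P := fun x => S.mem_perp_sp.2 (by
    have htu : S.B t u = 1 := (S.B_comm t u).trans hut
    intro w hw
    simp only [List.mem_cons, List.not_mem_nil, or_false] at hw
    rcases hw with rfl | rfl <;>
      simp only [map_add, map_smul, S.B_self, hut, htu, smul_eq_mul, mul_zero, mul_one, add_zero] <;>
      exact CharTwo.add_self_eq_zero _)
  have hproj' : ∀ f ∈ P, ∀ x, S.B f (x + S.B t x • u + S.B u x • t) = S.B f x := fun f hf x => by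
    have h := S.mem_perp_sp.1 hf
    simp only [map_add, map_smul, S.B_comm f u, S.B_comm f t, h u (by simp), h t (by simp), smul_zero, add_zero]
  have step : ∀ f ∈ U, f ≠ 0 → ∀ r ∈ P, S.Q r = 1 → S.B f r = 1 → r ∈ U := by
    intro f hf hf0 r hr hrQ hfr
    obtain ⟨s, hsQ, hs⟩ := S.find_perp (l := [u, t, f])
      (S.hasHyp_perp_lt (by simp; omega)) 1
    have hsP : s ∈ P := S.mem_perp_sp.2 fun w hw => hs w (by simp only [List.mem_cons, List.not_mem_nil, or_false] at hw ⊢; tauto)
    have h1 := hinv r hr s hsP hrQ hsQ f hf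
    rw [S.tv_of_zero (r := s) (x := f) (by rw [S.B_comm]; exact hs f (by simp)), S.tv_of_one ((S.B_comm r f).trans hfr)] at h1
    have := U.add_mem hf h1
    rwa [add_cancel'] at this
  obtain ⟨f, hf, hf0⟩ := Submodule.exists_mem_ne_zero_of_ne_bot hne
  -- every nonsingular vector of the orthogonal space
  have hns : ∀ s ∈ P, S.Q s = 1 → s ∈ U := by
    intro s hs hsQ
    by_cases hsf : s = f
    · exact hsf ▸ hf
    obtain ⟨x₀, hx1, hx2⟩ := S.exists_B_two hf0 (S.ne_zero_of_Q hsQ)
    obtain ⟨q, hqQ, hq⟩ := S.find (l := [u, t, f, s])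
      (S.hasHyp_perp_le (by simp; omega) (a := u) (b := t) (by simp) (by simp) hut)
      (x₀ + S.B t x₀ • u + S.B u x₀ • t) 1
    have hqP : q ∈ P := S.mem_perp_sp.2 fun w hw => by
      rw [hq w (by simp only [List.mem_cons, List.not_mem_nil, or_false] at hw ⊢; tauto)]
      exact S.mem_perp_sp.1 (hproj x₀) w hw
    have hfq : S.B f q = 1 := by rw [hq f (by simp), hproj' f (hle hf), hx1]
    have hsq : S.B s q = 1 := by rw [hq s (by simp), hproj' s hs, hx2]
    exact step q (step f hf hf0 q hqP hqQ hfq) (S.ne_zero_of_Q hqQ) s hs hsQ ((S.B_comm q s).trans hsq)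
  refine le_antisymm hle fun v hv => ?_
  rcases bit (S.Q v) with hvQ | hvQ
  swap
  · exact hns v hv hvQ
  obtain ⟨w, hwQ, hw⟩ := S.find_perp (l := [u, t, v]) (S.hasHyp_perp_lt (by simp; omega)) 1
  have hwP : w ∈ P := S.mem_perp_sp.2 fun z hz => hw z (by simp only [List.mem_cons, List.not_mem_nil, or_false] at hz ⊢; tauto)
  have h := U.add_mem (hns _ (P.add_mem hv hwP) (by rw [S.Q_add, hvQ, hwQ, hw v (by simp)]; decide)) (hns w hwP hwQ)
  rwa [add_add_self] at h

end Quad

end CfsgLib.Geo.PauliPlus
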